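import Groth.Agent.HP.Points
import Mathlib.RingTheory.Etale.Pi
import Mathlib.LinearAlgebra.TensorProduct.Pi
import Mathlib.Algebra.Algebra.RestrictScalars

/-!
Packaging neighbourhoods as étale algebras.
-/

set_option autoImplicit false

universe u

open TensorProduct

namespace Groth.Agent.HP

theorem free_restrictScalars {A C M : Type u} [CommRing A] [CommRing C] [Algebra A C] [AddCommGroup M] [Module C M]
    [Module A M] [IsScalarTower A C M] [Module.Free A M] : Module.Free A (RestrictScalars A C M) :=
  Module.Free.of_equiv ({ (RestrictScalars.addEquiv A C M).symm with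
    map_smul' := fun a x => by
      apply (RestrictScalars.addEquiv A C M).injective
      simp [RestrictScalars.addEquiv_map_smul, IsScalarTower.algebraMap_smul] } : M ≃ₗ[A] RestrictScalars A C M)

variable {A SA : Type u} [CommRing A] [CommRing SA] [Algebra A SA]
  {NA : Type u} [AddCommGroup NA] [Module SA NA] [Module A NA] [IsScalarTower A SA NA]

theorem free_tensor_away (g : SA) [Module.Free A (LocalizedModule (Submonoid.powers g) NA)] :
    Module.Free A (Localization.Away g ⊗[SA] NA) :=
  Module.Free.of_equiv (((isLocalizedModule_iff_isBaseChange (Submonoid.powers g) (Localization.Away g)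
    (LocalizedModule.mkLinearMap (Submonoid.powers g) NA)).mp inferInstance).equiv.restrictScalars A).symm

theorem fp_tensor_away (g : SA)
    [Module.FinitePresentation (Localization.Away g) (LocalizedModule (Submonoid.powers g) NA)] :
    Module.FinitePresentation (Localization.Away g) (Localization.Away g ⊗[SA] NA) :=
  Module.FinitePresentation.of_equiv ((isLocalizedModule_iff_isBaseChange (Submonoid.powers g) (Localization.Away g)
    (LocalizedModule.mkLinearMap (Submonoid.powers g) NA)).mp inferInstance).equiv.symm

variable {ι : Type u} [Finite ι]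

theorem etale_prod (g : ι → SA) : Algebra.Etale SA (Π i, Localization.Away (g i)) := by
  haveI : ∀ i, Algebra.Etale SA (Localization.Away (g i)) := fun i => Algebra.Etale.of_isLocalizationAway (g i)
  infer_instance

theorem free_tensor_prod (g : ι → SA) (h : ∀ i, Module.Free A (LocalizedModule (Submonoid.powers (g i)) NA)) :
    Module.Free A ((Π i, Localization.Away (g i)) ⊗[SA] NA) := by
  classical
  haveI := Fintype.ofFinite ι
  haveI : ∀ i, Module.Free A (Localization.Away (g i) ⊗[SA] NA) := fun i => by
    haveI := h i
    exact free_tensor_away (g i)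
  exact Module.Free.of_equiv (((TensorProduct.piLeft (R := SA) (M := fun i => Localization.Away (g i))
    (N := NA)).restrictScalars A).symm)

theorem fp_tensor_prod (g : ι → SA)
    (h : ∀ i, Module.FinitePresentation (Localization.Away (g i)) (LocalizedModule (Submonoid.powers (g i)) NA)) :
    Module.FinitePresentation (Π i, Localization.Away (g i)) ((Π i, Localization.Away (g i)) ⊗[SA] NA) := by
  classical
  haveI := Fintype.ofFinite ι
  let C := Π i, Localization.Away (g i)
  letI : ∀ i, Algebra C (Localization.Away (g i)) := fun i => (Pi.evalRingHom _ i).toAlgebra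
  haveI : ∀ i, IsScalarTower SA C (Localization.Away (g i)) := fun i => IsScalarTower.of_algebraMap_eq fun _ => rfl
  haveI hproj : ∀ i, Module.FinitePresentation C (Localization.Away (g i)) := fun i => by
    refine Module.finitePresentation_of_surjective (Algebra.linearMap C (Localization.Away (g i))) ?_ ?_
    · intro x
      exact ⟨Pi.single (M := fun j => Localization.Away (g j)) i x,
        Pi.single_eq_same (M := fun j => Localization.Away (g j)) i x⟩
    · have hker : LinearMap.ker (Algebra.linearMap C (Localization.Away (g i))) =
          Ideal.span {(1 : C) - Pi.single (M := fun j => Localization.Away (g j)) i 1} := by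
        ext c
        simp only [LinearMap.mem_ker, Algebra.linearMap_apply]
        constructor
        · intro hc
          refine Ideal.mem_span_singleton.mpr ⟨c, funext fun j => ?_⟩
          by_cases hj : j = i
          · subst hj
            show c j = (1 - Pi.single (M := fun j => Localization.Away (g j)) j 1 j) * c j
            rw [Pi.single_eq_same, sub_self, zero_mul]
            exact hc
          · show c j = (1 - Pi.single (M := fun j => Localization.Away (g j)) i 1 j) * c j
            rw [Pi.single_eq_of_ne hj, sub_zero, one_mul]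
        · intro hm
          obtain ⟨d, rfl⟩ := Ideal.mem_span_singleton.mp hm
          show ((1 - Pi.single (M := fun j => Localization.Away (g j)) i 1 : C) * d) i = 0
          rw [show ((1 - Pi.single (M := fun j => Localization.Away (g j)) i 1 : C) * d) i = (1 - Pi.single (M := fun j => Localization.Away (g j)) i 1 i) * d i from rfl,
            Pi.single_eq_same, sub_self, zero_mul]
      rw [hker]
      exact Submodule.fg_span_singleton _
  haveI : ∀ i, Module.FinitePresentation C (Localization.Away (g i) ⊗[SA] NA) := fun i => by
    haveI := h i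
    haveI := fp_tensor_away (NA := NA) (g i)
    exact Module.FinitePresentation.trans C _ (Localization.Away (g i))
  letI : Module C (Π i, Localization.Away (g i) ⊗[SA] NA) := Pi.module ι (fun i => Localization.Away (g i) ⊗[SA] NA) C
  haveI : Module.FinitePresentation C (Π i, Localization.Away (g i) ⊗[SA] NA) :=
    Module.FinitePresentation.pi (R := C) fun i => Localization.Away (g i) ⊗[SA] NA
  let Φ : C ⊗[SA] NA →ₗ[C] Π i, Localization.Away (g i) ⊗[SA] NA :=
    LinearMap.pi fun i => AlgebraTensorModule.rTensor SA NA (Algebra.linearMap C (Localization.Away (g i)))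
  have hΦ : ∀ x, Φ x = TensorProduct.piLeft (R := SA) (M := fun i => Localization.Away (g i)) (N := NA) x := fun x => by
    induction x with
    | zero => simp
    | tmul c n => funext i; simp [Φ]; rfl
    | add a b ha hb => simp only [map_add, ha, hb]
  exact Module.FinitePresentation.of_equiv (LinearEquiv.ofBijective Φ (by
    rw [show (Φ : C ⊗[SA] NA → _) = TensorProduct.piLeft (R := SA) (M := fun i => Localization.Away (g i)) (N := NA) from funext hΦ]
    exact LinearEquiv.bijective _)).symm

end Groth.Agent.HP

namespace Groth.Agent.HP

/-- The residue extension of a point over `q` and the closed point of the neighbourhood is trivial. -/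
theorem bijective_residue {R S R' SA C : Type u} [CommRing R] [CommRing S] [CommRing R'] [CommRing SA] [CommRing C]
    [Algebra R S] [Algebra R R'] (p : Ideal R) [p.IsPrime] (p' : Ideal R') [p'.IsPrime]
    (hnhd : FlatCA.IsEtaleNhd R R' p p') [Algebra R SA] [Algebra S SA] [Algebra (Localization.AtPrime p') SA]
    [IsScalarTower R S SA] [IsScalarTower R (Localization.AtPrime p') SA]
    [Algebra.IsPushout R S (Localization.AtPrime p') SA] [Algebra SA C] [Algebra S C] [IsScalarTower S SA C]
    (g : SA) [IsLocalization.Away g C] (q : Ideal S) [q.IsPrime] (x' : Ideal C) [x'.IsPrime] (hx : x'.LiesOver q)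
    (hxm : (x'.comap (algebraMap SA C)).LiesOver (IsLocalRing.maximalIdeal (Localization.AtPrime p'))) :
    Function.Bijective (Ideal.ResidueField.mapₐ q x' (Algebra.ofId S C) hx.over) := by
  let A := Localization.AtPrime p'
  let j := Ideal.ResidueField.mapₐ q x' (Algebra.ofId S C) hx.over
  refine ⟨RingHom.injective j.toRingHom, ?_⟩
  obtain ⟨-, hlo, hbij⟩ := hnhd
  haveI := hlo
  let K : Subfield x'.ResidueField := j.toRingHom.fieldRange
  let χ : SA →+* x'.ResidueField := (algebraMap C x'.ResidueField).comp (algebraMap SA C)
  have hS : ∀ s : S, χ (algebraMap S SA s) ∈ K := fun s => ⟨algebraMap S q.ResidueField s, by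
    show j (algebraMap S q.ResidueField s) = algebraMap C x'.ResidueField (algebraMap SA C (algebraMap S SA s))
    rw [AlgHom.commutes, ← IsScalarTower.algebraMap_apply S SA C, ← IsScalarTower.algebraMap_apply S C x'.ResidueField]⟩
  let χR : R' →+* x'.ResidueField := χ.comp ((algebraMap A SA).comp (algebraMap R' A))
  have hχR : ∀ a : R, χR (algebraMap R R' a) = χ (algebraMap S SA (algebraMap R S a)) := fun a => by
    show χ (algebraMap A SA (algebraMap R' A (algebraMap R R' a))) = _
    rw [← IsScalarTower.algebraMap_apply R R' A, ← IsScalarTower.algebraMap_apply R A SA,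
      ← IsScalarTower.algebraMap_apply R S SA]
  have hker : ∀ a : R', χR a = 0 ↔ a ∈ p' := fun a => by
    show algebraMap C x'.ResidueField (algebraMap SA C (algebraMap A SA (algebraMap R' A a))) = 0 ↔ _
    rw [Ideal.algebraMap_residueField_eq_zero,
      ← IsLocalization.AtPrime.to_map_mem_maximal_iff A p' a, hxm.over]
    rfl
  have hR' : ∀ a : R', χR a ∈ K := fun a => by
    obtain ⟨w, hw⟩ := hbij.2 (algebraMap R' p'.ResidueField a)
    obtain ⟨r, u, hu, hux⟩ := residue_frac p w
    have hmem : algebraMap R R' u * a - algebraMap R R' r ∈ p' := by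
      rw [← Ideal.algebraMap_residueField_eq_zero, map_sub, map_mul, ← hw, ← IsScalarTower.algebraMap_apply,
        ← IsScalarTower.algebraMap_apply, ← (Ideal.ResidueField.mapₐ p p' (Algebra.ofId R R') hlo.over).commutes u,
        ← map_mul, hux, AlgHom.commutes, sub_self]
    have h0 := (hker _).mpr hmem
    rw [map_sub, map_mul, sub_eq_zero, hχR, hχR] at h0
    have hu0 : χ (algebraMap S SA (algebraMap R S u)) ≠ 0 := by
      rw [← hχR]
      exact fun h => hu ((p'.over_def p).ge ((hker _).mp h))
    rw [show χR a = (χ (algebraMap S SA (algebraMap R S u)))⁻¹ * χ (algebraMap S SA (algebraMap R S r)) by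
      rw [← h0, inv_mul_cancel_left₀ hu0]]
    exact K.mul_mem (K.inv_mem (hS _)) (hS _)
  have hA : ∀ a : A, χ (algebraMap A SA a) ∈ K := fun a => by
    obtain ⟨b, c, rfl⟩ := IsLocalization.exists_mk'_eq p'.primeCompl a
    have hc0 : χR c ≠ 0 := fun h => c.2 ((hker _).mp h)
    have hmul : χR c * χ (algebraMap A SA (IsLocalization.mk' A b c)) = χR b := by
      show χ (algebraMap A SA (algebraMap R' A c)) * _ = χ (algebraMap A SA (algebraMap R' A b))
      rw [← map_mul, ← map_mul, IsLocalization.mk'_spec']
    rw [show χ (algebraMap A SA (IsLocalization.mk' A b c)) = (χR c)⁻¹ * χR b by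
      rw [← hmul, inv_mul_cancel_left₀ hc0]]
    exact K.mul_mem (K.inv_mem (hR' _)) (hR' _)
  have hSA : ∀ c : SA, χ c ∈ K := fun c => by
    induction c using (Algebra.IsPushout.out (R := R) (S := S) (R' := A) (S' := SA)).inductionOn with
    | zero => rw [map_zero]; exact K.zero_mem
    | tmul a => exact hA a
    | smul s a ha => rw [Algebra.smul_def, map_mul]; exact K.mul_mem (hS s) ha
    | add a b ha hb => rw [map_add]; exact K.add_mem ha hb
  have hC : ∀ c : C, algebraMap C x'.ResidueField c ∈ K := fun c => by
    obtain ⟨b, d, rfl⟩ := IsLocalization.exists_mk'_eq (Submonoid.powers g) c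
    have hu : IsUnit (χ d) := (IsLocalization.map_units C d).map (algebraMap C x'.ResidueField)
    rw [show algebraMap C x'.ResidueField (IsLocalization.mk' C b d) = (χ d)⁻¹ * χ b by
      rw [eq_inv_mul_iff_mul_eq₀ hu.ne_zero]
      show algebraMap C _ (algebraMap SA C d) * _ = algebraMap C _ (algebraMap SA C b)
      rw [← map_mul, IsLocalization.mk'_spec']]
    exact K.mul_mem (K.inv_mem (hSA _)) (hSA _)
  intro y
  obtain ⟨a, b, hb, rfl⟩ := IsFractionRing.div_surjective (C ⧸ x') y
  obtain ⟨a, rfl⟩ := Ideal.Quotient.mk_surjective a
  obtain ⟨b, rfl⟩ := Ideal.Quotient.mk_surjective b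
  exact K.div_mem (hC a) (hC b)

end Groth.Agent.HP
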