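import Groth.Agent.HP.Model
import Groth.Agent.RGFlat.Generic

/-!
Free neighbourhoods after an étale localization of the base, at a point and along a fibre.
-/

set_option autoImplicit false

universe u

open TensorProduct

attribute [local instance] Algebra.TensorProduct.rightAlgebra

namespace Groth.Agent.HP

/-- Localizing a linear equivalence. -/
noncomputable def locEquiv {C : Type u} [CommRing C] (T : Submonoid C) {M M' : Type u} [AddCommGroup M] [Module C M]
    [AddCommGroup M'] [Module C M'] (e : M ≃ₗ[C] M') :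
    LocalizedModule T M ≃ₗ[Localization T] LocalizedModule T M' :=
  LinearEquiv.ofBijective (LocalizedModule.map T e.toLinearMap)
    ⟨LocalizedModule.map_injective T _ e.injective, LocalizedModule.map_surjective T _ e.surjective⟩

variable {R : Type u} [CommRing R] (p : Ideal R) [p.IsPrime] {S : Type u} [CommRing S] [Algebra R S]

/-- A finitely presented cover agreeing at `q`. -/
theorem exists_cover [Algebra.FiniteType R S] (N : Type u) [AddCommGroup N] [Module S N] [Module R N]
    [IsScalarTower R S N] [Module.Finite S N] (q : Ideal S) [q.IsPrime] (hN : FlatCA.FlatAt R q N) :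
    ∃ (r : ℕ) (K : Submodule S (Fin r → S)) (π : ((Fin r → S) ⧸ K) →ₗ[S] N), K.FG ∧ Function.Surjective π ∧
      (∀ x, π x = 0 → ∃ s : S, s ∉ q ∧ s • x = 0) ∧ FlatCA.FlatAt R q ((Fin r → S) ⧸ K) := by
  haveI : IsScalarTower R (Localization.AtPrime q) (LocalizedModule q.primeCompl N) :=
    IsScalarTower.of_algebraMap_smul fun a x => by
      rw [IsScalarTower.algebraMap_apply R S (Localization.AtPrime q), IsScalarTower.algebraMap_smul,
        IsScalarTower.algebraMap_smul]
  haveI : Module.Finite (Localization.AtPrime q) (LocalizedModule q.primeCompl N) :=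
    Module.Finite.of_isLocalizedModule q.primeCompl (LocalizedModule.mkLinearMap q.primeCompl N)
  haveI : Module.Flat R (LocalizedModule q.primeCompl N) := hN
  haveI := RGFlat.fp_of_flat (R := R) q (Localization.AtPrime q) (LocalizedModule q.primeCompl N)
  obtain ⟨r, K, π, hK, hπ, hker⟩ := RGFlat.exists_model (M := N) q
  exact ⟨r, K, π, hK, hπ, hker, (RGFlat.flatAt_iff_of_kernel π hπ q hker).mpr hN⟩

variable {SA : Type u} [CommRing SA] [Algebra S SA] {A : Type u} [CommRing A] [Algebra A SA]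
  {N NA : Type u} [AddCommGroup N] [Module S N] [AddCommGroup NA] [Module SA NA] [Module S NA] [IsScalarTower S SA NA]
  [Module A NA] [IsScalarTower A SA NA]

/-- Finite presentation and flatness of a neighbourhood transfer along a cover agreeing at the point. -/
theorem fp_and_free_of_cover {M0 : Type u} [AddCommGroup M0] [Module S M0] [Module.FinitePresentation S M0]
    (π : M0 →ₗ[S] N) (hπ : Function.Surjective π) (q : Ideal S) (hker : ∀ x, π x = 0 → ∃ s : S, s ∉ q ∧ s • x = 0)
    (Q : Ideal SA) [Q.IsPrime] [Q.LiesOver q] (g : SA) (hK : Kill A (SA ⊗[S] M0) Q g)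
    (hfree : Module.Free A (LocalizedModule (Submonoid.powers g) (SA ⊗[S] M0)))
    (f : N →ₗ[S] NA) (hf : IsBaseChange SA f) :
    Module.FinitePresentation (Localization.Away g) (LocalizedModule (Submonoid.powers g) NA) ∧
      Module.Free A (LocalizedModule (Submonoid.powers g) NA) := by
  let πA : SA ⊗[S] M0 →ₗ[SA] NA := hf.equiv.toLinearMap.comp (π.baseChange SA)
  have hπA : Function.Surjective πA := hf.equiv.surjective.comp (LinearMap.lTensor_surjective SA hπ)
  have hkill : ∀ x, πA x = 0 → ∃ k : ℕ, g ^ k • x = 0 := by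
    intro x hx
    have hx0 : π.lTensor SA x = 0 := hf.equiv.injective (hx.trans (map_zero _).symm)
    obtain ⟨w, rfl⟩ := ((lTensor_exact SA (LinearMap.exact_subtype_ker_map π) hπ) x).mp hx0
    clear hx hx0
    refine hK.pow_smul_eq_zero _ ?_
    induction w with
    | zero => exact ⟨1, fun h => (inferInstance : Q.IsPrime).ne_top ((Ideal.eq_top_iff_one Q).mpr h), by simp⟩
    | tmul a v =>
      obtain ⟨s, hs, hsv⟩ := hker v v.2
      refine ⟨algebraMap S SA s, fun h => hs ((Q.over_def q).ge h), ?_⟩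
      rw [IsScalarTower.algebraMap_smul, LinearMap.lTensor_tmul, ← TensorProduct.tmul_smul]
      exact (congrArg (a ⊗ₜ[S] ·) hsv).trans (TensorProduct.tmul_zero _ _)
    | add a b ha hb =>
      obtain ⟨s, hs, hsa⟩ := ha
      obtain ⟨t, ht, htb⟩ := hb
      refine ⟨s * t, Q.primeCompl.mul_mem hs ht, ?_⟩
      rw [map_add, smul_add, mul_comm s t, mul_smul, hsa, smul_zero, mul_comm t s, mul_smul, htb, smul_zero, add_zero]
  refine ⟨RGFlat.fp_away πA hπA g hkill, ?_⟩
  let πg := LocalizedModule.map (Submonoid.powers g) πA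
  have hinj : Function.Injective πg := by
    rw [injective_iff_map_eq_zero]
    intro x hx
    induction x using LocalizedModule.induction_on with
    | h m s =>
      rw [LocalizedModule.map_mk, RGFlat.mk_eq_zero_iff] at hx
      obtain ⟨t, ht⟩ := hx
      rw [← map_smul] at ht
      obtain ⟨k, hk⟩ := hkill _ ht
      rw [RGFlat.mk_eq_zero_iff]
      exact ⟨⟨g ^ k, k, rfl⟩ * t, by show (g ^ k * (t : SA)) • m = 0; rw [mul_smul]; exact hk⟩
  let e := LinearEquiv.ofBijective (πg.restrictScalars SA)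
    ⟨hinj, LocalizedModule.map_surjective (Submonoid.powers g) πA hπA⟩
  exact Module.Free.of_equiv (e.restrictScalars A)

theorem free_of_baseChange (g : SA)
    (hfree : Module.Free A (LocalizedModule (Submonoid.powers g) (SA ⊗[S] N)))
    (f : N →ₗ[S] NA) (hf : IsBaseChange SA f) : Module.Free A (LocalizedModule (Submonoid.powers g) NA) :=
  Module.Free.of_equiv (((locEquiv (Submonoid.powers g) hf.equiv).restrictScalars SA).restrictScalars A)

end Groth.Agent.HP

namespace Groth.Agent.HP

variable {R : Type u} [CommRing R] (p : Ideal R) [p.IsPrime] {S : Type u} [CommRing S] [Algebra R S]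

/-- Finitely many of the neighbourhoods cover the closed fibre of the henselization. -/
theorem exists_finite_cover (gh : ∀ (Qh : PrimeSpectrum (Sp p S)),
      Qh.asIdeal.LiesOver (IsLocalRing.maximalIdeal (Hp p)) → Sp p S)
    (hgh : ∀ Qh h, gh Qh h ∉ Qh.asIdeal) :
    ∃ (ι : Type u) (_ : Finite ι) (c : ι → PrimeSpectrum (Sp p S))
      (hc : ∀ i, (c i).asIdeal.LiesOver (IsLocalRing.maximalIdeal (Hp p))),
      ∀ (Qh : Ideal (Sp p S)) [Qh.IsPrime], Qh.LiesOver (IsLocalRing.maximalIdeal (Hp p)) →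
        ∃ i, gh (c i) (hc i) ∉ Qh := by
  let m := IsLocalRing.maximalIdeal (Hp p)
  let V := {Qh : PrimeSpectrum (Sp p S) // Qh.asIdeal.LiesOver m}
  let Z : Set (PrimeSpectrum (Sp p S)) := PrimeSpectrum.zeroLocus (m.map (algebraMap (Hp p) (Sp p S)) : Set (Sp p S))
  have hZ : ∀ x : PrimeSpectrum (Sp p S), x ∈ Z → x.asIdeal.LiesOver m := fun x hx => ⟨
    (IsLocalRing.maximalIdeal.isMaximal (Hp p)).eq_of_le (Ideal.comap_ne_top _ x.2.ne_top)
      (Ideal.map_le_iff_le_comap.mp ((PrimeSpectrum.mem_zeroLocus _ _).mp hx))⟩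
  obtain ⟨t, ht⟩ := ((PrimeSpectrum.isClosed_zeroLocus _).isCompact : IsCompact Z).elim_finite_subcover
    (fun v : V => (PrimeSpectrum.basicOpen (gh v.1 v.2) : Set (PrimeSpectrum (Sp p S))))
    (fun _ => PrimeSpectrum.isOpen_basicOpen) (fun x hx => Set.mem_iUnion.mpr ⟨⟨x, hZ x hx⟩, hgh x _⟩)
  refine ⟨{v // v ∈ t}, inferInstance, fun v => v.1.1, fun v => v.1.2, fun Qh _ hQ => ?_⟩
  haveI := hQ
  have hmem : (⟨Qh, inferInstance⟩ : PrimeSpectrum (Sp p S)) ∈ Z :=
    (PrimeSpectrum.mem_zeroLocus _ _).mpr (Ideal.map_le_iff_le_comap.mpr (Qh.over_def m).le)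
  obtain ⟨v, hv, hvQ⟩ := Set.mem_iUnion₂.mp (ht hmem)
  exact ⟨⟨v, hv⟩, hvQ⟩

theorem liesOver_comap (Qh : Ideal (Sp p S)) [Qh.IsPrime] [Qh.LiesOver (IsLocalRing.maximalIdeal (Hp p))] :
    (Qh.comap (algebraMap S (Sp p S))).LiesOver p := ⟨by
  ext a
  have key : a ∈ p ↔ algebraMap R (Hp p) a ∈ IsLocalRing.maximalIdeal (Hp p) := by
    rw [mem_max_iff, AlgHom.commutes, Ideal.algebraMap_residueField_eq_zero]
  rw [key, Qh.over_def (IsLocalRing.maximalIdeal (Hp p))]
  show algebraMap R (Hp p) a ⊗ₜ[R] (1 : S) ∈ Qh ↔ (1 : Hp p) ⊗ₜ[R] algebraMap R S a ∈ Qh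
  rw [Algebra.algebraMap_eq_smul_one, Algebra.algebraMap_eq_smul_one, TensorProduct.smul_tmul]⟩

end Groth.Agent.HP
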