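import Groth.Agent.HP.Consequences

/-!
Descent of the neighbourhood statement along a faithfully flat extension of the base.
-/

set_option autoImplicit false

universe u

open TensorProduct

namespace Groth.Agent.HP

/-- Two localizations of a module over a larger ring agree over that ring. -/
theorem exists_linearEquiv_of_localized {B T : Type u} [CommRing B] [CommRing T] [Algebra B T] (S : Submonoid B)
    {X X' X'' : Type u} [AddCommGroup X] [Module T X] [Module B X] [IsScalarTower B T X]
    [AddCommGroup X'] [Module T X'] [Module B X'] [IsScalarTower B T X']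
    [AddCommGroup X''] [Module T X''] [Module B X''] [IsScalarTower B T X'']
    (f : X →ₗ[T] X') [IsLocalizedModule S (f.restrictScalars B)]
    (f' : X →ₗ[T] X'') [IsLocalizedModule S (f'.restrictScalars B)] : Nonempty (X' ≃ₗ[T] X'') := by
  let e := IsLocalizedModule.linearEquiv S (f.restrictScalars B) (f'.restrictScalars B)
  have he : ∀ v, e (f v) = f' v := fun v =>
    IsLocalizedModule.linearEquiv_apply S (f.restrictScalars B) (f'.restrictScalars B) v
  refine ⟨{ e.toAddEquiv with map_smul' := fun c x => ?_ }⟩
  have h := IsLocalizedModule.ext S (f.restrictScalars B) (IsLocalizedModule.map_units (f'.restrictScalars B))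
    (j := e.toLinearMap.comp ((LinearMap.lsmul T X' c).restrictScalars B))
    (k := ((LinearMap.lsmul T X'' c).restrictScalars B).comp e.toLinearMap)
    (LinearMap.ext fun v => by
      show e (c • f v) = c • e (f v)
      rw [← map_smul, he, he, map_smul])
  exact LinearMap.congr_fun h x

variable {A Ah SA Sh : Type u} [CommRing A] [CommRing Ah] [CommRing SA] [CommRing Sh] [Algebra A Ah] [Algebra A SA]
  [Algebra Ah Sh] [Algebra SA Sh] [Algebra A Sh] [IsScalarTower A SA Sh] [IsScalarTower A Ah Sh]
  [Algebra.IsPushout A SA Ah Sh] [Module.FaithfullyFlat A Ah]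
  {M : Type u} [AddCommGroup M] [Module SA M] [Module A M] [IsScalarTower A SA M]

omit [Algebra Ah Sh] [IsScalarTower A Ah Sh] [Algebra.IsPushout A SA Ah Sh] [Module.FaithfullyFlat A Ah] in
theorem faithfullyFlat_sh [Algebra Ah Sh] [IsScalarTower A Ah Sh] [Algebra.IsPushout A SA Ah Sh]
    [Module.FaithfullyFlat A Ah] : Module.FaithfullyFlat SA Sh :=
  Module.FaithfullyFlat.of_linearEquiv (R := SA) (M := SA ⊗[A] Ah)
    (Algebra.IsPushout.out (R := A) (S := SA) (R' := Ah) (S' := Sh)).equiv.symm

/-- The killing property descends. -/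
theorem Kill.descend (Q : Ideal SA) (Qh : Ideal Sh) (hQ : Qh.comap (algebraMap SA Sh) ≤ Q) (g : SA)
    (h : Kill Ah (Sh ⊗[SA] M) Qh (algebraMap SA Sh g)) : Kill A M Q g := by
  intro X _ _ x ⟨t, ht, htx⟩
  haveI := faithfullyFlat_sh (A := A) (Ah := Ah) (SA := SA) (Sh := Sh)
  let c1 := AlgebraTensorModule.cancelBaseChange A Ah Sh (Sh ⊗[SA] M) X
  let a1 := AlgebraTensorModule.assoc A SA Sh Sh M X
  obtain ⟨k, hk⟩ := h (Ah ⊗[A] X) ((c1.trans a1).symm ((1 : Sh) ⊗ₜ[SA] x))
    ⟨algebraMap SA Sh t, fun h' => ht (hQ h'), by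
      rw [← map_smul, IsScalarTower.algebraMap_smul, ← TensorProduct.tmul_smul, htx, TensorProduct.tmul_zero, map_zero]⟩
  refine ⟨k, ?_⟩
  rw [← map_pow, ← map_smul, IsScalarTower.algebraMap_smul, LinearEquiv.map_eq_zero_iff, ← TensorProduct.tmul_smul] at hk
  exact Module.FaithfullyFlat.tensorProduct_mk_injective (A := SA) (B := Sh) (M ⊗[A] X)
    (hk.trans (TensorProduct.tmul_zero _ _).symm)

/-- Projectivity descends. -/
theorem projective_descend (g : SA)
    (h : Module.Projective Ah (LocalizedModule (Submonoid.powers (algebraMap SA Sh g)) (Sh ⊗[SA] M))) :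
    Module.Projective A (LocalizedModule (Submonoid.powers g) M) := by
  let S := Submonoid.powers g
  let η := LocalizedModule.mkLinearMap S M
  let f : Sh ⊗[SA] M →ₗ[Sh] Sh ⊗[SA] LocalizedModule S M := η.baseChange Sh
  haveI : IsLocalizedModule S (f.restrictScalars SA) := by
    haveI h0 : IsLocalizedModule S (AlgebraTensorModule.rTensor SA Sh η) := inferInstance
    haveI h1 : IsLocalizedModule S ((AlgebraTensorModule.rTensor SA Sh η).comp (TensorProduct.comm SA Sh M).toLinearMap) :=
      IsLocalizedModule.of_linearEquiv_right S _ _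
    haveI h2 := IsLocalizedModule.of_linearEquiv S
      ((AlgebraTensorModule.rTensor SA Sh η).comp (TensorProduct.comm SA Sh M).toLinearMap)
      (TensorProduct.comm SA (LocalizedModule S M) Sh)
    convert h2 using 1
    refine LinearMap.ext fun v => ?_
    induction v with
    | zero => simp
    | tmul a m => simp [f]
    | add a b ha hb => simp only [map_add, ha, hb]
  let f' := LocalizedModule.mkLinearMap (Submonoid.powers (algebraMap SA Sh g)) (Sh ⊗[SA] M)
  haveI : IsLocalizedModule S (f'.restrictScalars SA) :=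
    RGFlat.isLocalizedModule_away_restrict (P := SA) (S := Sh) (M := Sh ⊗[SA] M) g
  obtain ⟨e⟩ := exists_linearEquiv_of_localized (T := Sh) (X'' := LocalizedModule (Submonoid.powers (algebraMap SA Sh g)) (Sh ⊗[SA] M)) S f f'
  haveI : IsScalarTower Ah Sh (LocalizedModule (Submonoid.powers (algebraMap SA Sh g)) (Sh ⊗[SA] M)) := inferInstance
  haveI : Module.Projective Ah (Sh ⊗[SA] LocalizedModule S M) := Module.Projective.of_equiv (e.restrictScalars Ah).symm
  haveI : Algebra.IsPushout A Ah SA Sh := Algebra.IsPushout.symm inferInstance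
  haveI : Module.Projective Ah (Ah ⊗[A] LocalizedModule S M) :=
    Module.Projective.of_equiv (Algebra.IsPushout.cancelBaseChange A Ah SA Sh (LocalizedModule S M))
  exact ProjDesc.projective_of_baseChange A Ah _

end Groth.Agent.HP
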