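import Groth.Agent.HP.Apps
import Groth.Agent.RGFlat.PureProjective
import Groth.Agent.S1219
import Groth.Agent.S1223
import Groth.Agent.AlgSpCov.FppfDescentProps
import Mathlib.AlgebraicGeometry.Geometrically.Integral
import Mathlib.AlgebraicGeometry.Morphisms.Smooth

/-!
One step of a dévissage: smooth algebras with geometrically irreducible fibres are projective, and a map
from a free module over one which is bijective at the generic point of the closed fibre of a flat
module is universally injective with flat cokernel.
-/

set_option autoImplicit false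

universe u

open TensorProduct AlgebraicGeometry CategoryTheory

namespace Groth.Agent.HP.DevStep

variable {R B : Type u} [CommRing R] [CommRing B] [Algebra R B]

theorem geomIntegral [Algebra.Smooth R B] (h : FlatCA.GeomIrredFibres R B) : FlatCA.GeomIntegralFibres R B := by
  haveI : Smooth (Spec.map (CommRingCat.ofHom (algebraMap R B))) :=
    HasRingHomProperty.Spec_iff.mpr (RingHom.smooth_algebraMap.mpr inferInstance)
  haveI : GeometricallyReduced (Spec.map (CommRingCat.ofHom (algebraMap R B))) :=
    ⟨fun K _ y P fst snd H =>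
      have : Smooth snd := MorphismProperty.of_isPullback H inferInstance
      Groth.Agent.AlgSpCov.isReduced_of_smooth snd⟩
  haveI : GeometricallyIrreducible (Spec.map (CommRingCat.ofHom (algebraMap R B))) := h
  exact GeometricallyIntegral.of_geometricallyReduced_of_geometricallyIrreducible (f := Spec.map (CommRingCat.ofHom (algebraMap R B)))

theorem projective_of_smooth [Algebra.Smooth R B] (h : FlatCA.GeomIrredFibres R B) : Module.Projective R B := by
  haveI : Module.Flat R B := inferInstance
  refine (S1219.result (A := R) (B := B) B).mpr fun p _ => ?_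
  have huniv := S1223.result (geomIntegral h) p
  intro A' B' N' _ _ _ _ _ _ _ _ _ _ _ _ _ _ f t' t _ _ P _ _
  exact huniv A' B' N' f t' t P

/-- A map from a free module injective modulo the maximal ideal into a flat module is universally injective. -/
theorem univInj_of_free {A : Type u} [CommRing A] [IsLocalRing A] {X M : Type u} [AddCommGroup X] [Module A X]
    [Module.Free A X] [AddCommGroup M] [Module A M] [Module.Flat A M] (u : X →ₗ[A] M)
    (hu : Function.Injective (u.lTensor (IsLocalRing.maximalIdeal A).ResidueField)) :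
    ∀ (Q : Type u) [AddCommGroup Q] [Module A Q], Function.Injective (u.rTensor Q) := by
  classical
  intro Q _ _
  rw [injective_iff_map_eq_zero]
  intro x hx
  let b := Module.Free.chooseBasis A X
  let κ := (IsLocalRing.maximalIdeal A).ResidueField
  obtain ⟨c, rfl⟩ := (TensorProduct.equivFinsuppOfBasisLeft b).symm.surjective x
  rw [TensorProduct.equivFinsuppOfBasisLeft_symm_apply] at hx ⊢
  let e := c.support.equivFin
  rw [map_finsuppSum, Finsupp.sum, ← Finset.sum_coe_sort, ← e.symm.sum_comp] at hx
  simp only [LinearMap.rTensor_tmul] at hx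
  have h1 := congrArg (TensorProduct.comm A M Q) hx
  rw [map_sum, map_zero] at h1
  simp only [TensorProduct.comm_tmul] at h1
  have hlin : LinearIndependent κ (fun j : Fin c.support.card => (1 : κ) ⊗ₜ[A] u (b (e.symm j).1)) := by
    refine Fintype.linearIndependent_iff.mpr fun l hl i => ?_
    have h2 : u.lTensor κ (∑ j, l j ⊗ₜ[A] b (e.symm j).1) = 0 := by
      rw [map_sum, ← hl]
      exact Finset.sum_congr rfl fun j _ => by rw [LinearMap.lTensor_tmul, TensorProduct.smul_tmul', smul_eq_mul, mul_one]
    have h3 := congrArg (fun z => (b.baseChange κ).repr z (e.symm i).1) (hu (h2.trans (map_zero _).symm))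
    simp only [map_sum, map_zero, Finsupp.coe_finset_sum, Finset.sum_apply, Finsupp.zero_apply,
      Module.Basis.baseChange_repr_tmul, Module.Basis.repr_self, Finsupp.single_apply] at h3
    rw [Finset.sum_eq_single i] at h3
    · simpa using h3
    · intro j _ hji
      rw [if_neg (fun hh => hji (e.symm.injective (Subtype.ext hh))), zero_smul]
    · exact fun h => absurd (Finset.mem_univ i) h
  refine Finset.sum_eq_zero fun i hi => ?_
  obtain ⟨s, hs, h0⟩ := RGFlat.Indep.exists_smul_eq_zero (IsLocalRing.maximalIdeal A) _ hlin _ h1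
  have := (IsLocalRing.notMem_maximalIdeal.mp hs).smul_eq_zero.mp (h0 (e ⟨i, hi⟩))
  rw [Equiv.symm_apply_apply] at this
  show b i ⊗ₜ[A] c i = 0
  rw [this, TensorProduct.tmul_zero]

/-- The cokernel of a universally injective map into a flat module is flat. -/
theorem flat_coker {A : Type u} [CommRing A] {X Y Z : Type u} [AddCommGroup X] [Module A X] [AddCommGroup Y]
    [Module A Y] [AddCommGroup Z] [Module A Z] [Module.Flat A Y] (f : X →ₗ[A] Y) (g : Y →ₗ[A] Z)
    (hfg : Function.Exact f g) (hg : Function.Surjective g)
    (hf : ∀ (Q : Type u) [AddCommGroup Q] [Module A Q], Function.Injective (f.rTensor Q)) : Module.Flat A Z := by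
  rw [Module.Flat.iff_lTensor_injective']
  intro J
  rw [injective_iff_map_eq_zero]
  intro z hz
  obtain ⟨y, rfl⟩ := LinearMap.rTensor_surjective J hg z
  have h1 : g.rTensor A (J.subtype.lTensor Y y) = 0 := by
    rw [← LinearMap.comp_apply, LinearMap.rTensor_comp_lTensor, ← LinearMap.lTensor_comp_rTensor, LinearMap.comp_apply, hz]
  obtain ⟨x, hx⟩ := ((rTensor_exact A hfg hg) _).mp h1
  have h2 : J.mkQ.lTensor X x = 0 := by
    refine hf (A ⧸ J) ?_
    rw [map_zero, ← LinearMap.comp_apply, LinearMap.rTensor_comp_lTensor, ← LinearMap.lTensor_comp_rTensor,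
      LinearMap.comp_apply, hx, ← LinearMap.lTensor_comp_apply, (LinearMap.exact_subtype_mkQ J).linearMap_comp_eq_zero,
      LinearMap.lTensor_zero, LinearMap.zero_apply]
  obtain ⟨x', rfl⟩ := ((lTensor_exact X (LinearMap.exact_subtype_mkQ J) J.mkQ_surjective) x).mp h2
  have h3 : f.rTensor J x' = y := by
    refine Module.Flat.lTensor_preserves_injective_linearMap (M := Y) J.subtype J.injective_subtype ?_
    rw [← hx, ← LinearMap.comp_apply, LinearMap.lTensor_comp_rTensor, ← LinearMap.rTensor_comp_lTensor, LinearMap.comp_apply]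
  rw [← h3, ← LinearMap.rTensor_comp_apply, hfg.linearMap_comp_eq_zero, LinearMap.rTensor_zero, LinearMap.zero_apply]

/-- One step over a local ring. -/
theorem step {R B : Type u} [CommRing R] [IsLocalRing R] [CommRing B] [Algebra R B] [Module.Free R B]
    [((IsLocalRing.maximalIdeal R).map (algebraMap R B)).IsPrime]
    (q : Ideal B) [q.IsPrime] [q.LiesOver (IsLocalRing.maximalIdeal R)]
    (M : Type u) [AddCommGroup M] [Module B M] [Module R M] [IsScalarTower R B M] (hflat : FlatCA.FlatAt R q M)
    {r : ℕ} (α : (Fin r → B) →ₗ[B] M)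
    (hα : Function.Injective (α.baseChange ((IsLocalRing.maximalIdeal R).map (algebraMap R B)).ResidueField)) :
    (∀ (Q : Type u) [AddCommGroup Q] [Module R Q], Function.Injective ((α.restrictScalars R).rTensor Q)) ∧
      FlatCA.FlatAt R q (M ⧸ LinearMap.range α) := by
  let m := IsLocalRing.maximalIdeal R
  let 𝔭 := m.map (algebraMap R B)
  let κ := 𝔭.ResidueField
  let η := LocalizedModule.mkLinearMap q.primeCompl M
  have h𝔭q : 𝔭 ≤ q := Ideal.map_le_iff_le_comap.mpr (q.over_def m).le
  haveI : Module.Flat R (LocalizedModule q.primeCompl M) := hflat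
  let u : (Fin r → B) →ₗ[R] LocalizedModule q.primeCompl M := (η.comp α).restrictScalars R
  let k := m.ResidueField
  have huniv := univInj_of_free u (by
    rw [injective_iff_map_eq_zero]
    intro y hy
    obtain ⟨x, rfl⟩ := TensorProduct.mk_surjective R (Fin r → B) k
      m.algebraMap_residueField_surjective y
    -- the residue field of `R` maps to that of the generic point
    let j : k →ₐ[R] κ := Ideal.ResidueField.liftₐ m (Algebra.ofId R κ) (fun a ha => by
        show algebraMap R κ a = 0
        rw [IsScalarTower.algebraMap_apply R B κ, Ideal.algebraMap_residueField_eq_zero]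
        exact Ideal.mem_map_of_mem _ ha)
      fun a ha => (IsLocalRing.notMem_maximalIdeal.mp ha).map (algebraMap R κ)
    have hu' : ∀ s : q.primeCompl, IsUnit (algebraMap B (Module.End B (κ ⊗[B] M)) s) := fun s => by
      rw [Module.End.isUnit_iff]
      have hs : algebraMap B κ (s : B) ≠ 0 := fun h => s.2 (h𝔭q (Ideal.algebraMap_residueField_eq_zero.mp h))
      constructor
      · intro a b hab
        simp only [Module.algebraMap_end_apply] at hab
        rw [← IsScalarTower.algebraMap_smul κ (s : B) a, ← IsScalarTower.algebraMap_smul κ (s : B) b] at hab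
        exact (IsUnit.mk0 _ hs).smul_left_cancel.mp hab
      · intro a
        refine ⟨(algebraMap B κ (s : B))⁻¹ • a, ?_⟩
        simp only [Module.algebraMap_end_apply]
        rw [← IsScalarTower.algebraMap_smul κ (s : B) ((algebraMap B κ (s : B))⁻¹ • a), ← mul_smul, mul_inv_cancel₀ hs, one_smul]
    let g := IsLocalizedModule.lift q.primeCompl η (TensorProduct.mk B κ M 1) hu'
    let Φ : k ⊗[R] LocalizedModule q.primeCompl M →ₗ[R] κ ⊗[B] M := TensorProduct.lift (LinearMap.mk₂ R
      (fun a y => j a • g y)
      (fun a b y => by rw [map_add, add_smul])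
      (fun c a y => by rw [map_smul, smul_assoc])
      (fun a y z => by rw [map_add, smul_add])
      (fun c a y => by rw [LinearMap.map_smul_of_tower g c y, smul_comm]))
    have h1 : Φ ((1 : k) ⊗ₜ[R] η (α x)) = α.baseChange κ ((1 : κ) ⊗ₜ x) := by
      simp [Φ, g, IsLocalizedModule.lift_apply]
    have h2 : α.baseChange κ ((1 : κ) ⊗ₜ x) = 0 := by
      rw [← h1, show (1 : k) ⊗ₜ[R] η (α x) = 0 from hy, map_zero]
    have h3 := hα (h2.trans (map_zero _).symm)
    have hxi : ∀ i, x i ∈ 𝔭 := fun i => by
      have := congrArg ((TensorProduct.rid B κ).toLinearMap ∘ₗ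
        (LinearMap.proj (R := B) (φ := fun _ : Fin r => B) i).lTensor κ) h3
      simp only [map_zero, LinearMap.comp_apply, LinearMap.lTensor_tmul, LinearMap.coe_proj, Function.eval,
        LinearEquiv.coe_coe, TensorProduct.rid_tmul] at this
      rw [Algebra.smul_def, mul_one] at this
      exact Ideal.algebraMap_residueField_eq_zero.mp this
    show (1 : k) ⊗ₜ[R] x = 0
    rw [pi_eq_sum_univ' x, TensorProduct.tmul_sum]
    refine Finset.sum_eq_zero fun i _ => ?_
    have hi : x i ∈ m • (⊤ : Submodule R B) := by
      rw [Ideal.smul_top_eq_map]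
      exact hxi i
    refine Submodule.smul_induction_on (p := fun b => (1 : k) ⊗ₜ[R] (b • (Pi.single i 1 : Fin r → B)) = 0) hi
      (fun a ha b _ => ?_) fun a b ha hb => by rw [add_smul, TensorProduct.tmul_add, ha, hb, add_zero]
    rw [smul_assoc, ← TensorProduct.smul_tmul, Algebra.smul_def, mul_one,
      Ideal.algebraMap_residueField_eq_zero.mpr ha, TensorProduct.zero_tmul])
  refine ⟨fun Q _ _ a b hab => huniv Q ?_, ?_⟩
  · show ((η.restrictScalars R) ∘ₗ (α.restrictScalars R)).rTensor Q a = ((η.restrictScalars R) ∘ₗ (α.restrictScalars R)).rTensor Q b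
    rw [LinearMap.rTensor_comp_apply, LinearMap.rTensor_comp_apply, hab]
  let T := q.primeCompl
  let αq := LocalizedModule.map T α
  let πq := LocalizedModule.map T (LinearMap.range α).mkQ
  haveI : IsScalarTower R (Localization T) (LocalizedModule T M) := IsScalarTower.of_algebraMap_smul fun a x => by
    rw [IsScalarTower.algebraMap_apply R B (Localization T), IsScalarTower.algebraMap_smul, IsScalarTower.algebraMap_smul]
  refine flat_coker ((αq.restrictScalars B).restrictScalars R) ((πq.restrictScalars B).restrictScalars R)
    (LocalizedModule.map_exact T α (LinearMap.range α).mkQ (LinearMap.exact_map_mkQ_range α))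
    (LocalizedModule.map_surjective T _ (Submodule.mkQ_surjective _)) fun Q _ _ => ?_
  rw [injective_iff_map_eq_zero]
  intro x hx
  let φ := AlgebraTensorModule.rTensor R Q (LocalizedModule.mkLinearMap T (Fin r → B))
  haveI : IsLocalizedModule T φ := inferInstance
  obtain ⟨⟨y, s⟩, hs⟩ := IsLocalizedModule.surj T φ x
  have hcomp : u = ((αq.restrictScalars B).restrictScalars R) ∘ₗ (LocalizedModule.mkLinearMap T (Fin r → B)).restrictScalars R :=
    LinearMap.ext fun z => (LocalizedModule.map_mk T α z 1).symm
  have h1 : u.rTensor Q y = 0 := by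
    rw [hcomp, LinearMap.rTensor_comp_apply]
    show ((αq.restrictScalars B).restrictScalars R).rTensor Q (φ y) = 0
    rw [← hs, Submonoid.smul_def]
    show AlgebraTensorModule.rTensor R Q (αq.restrictScalars B) ((s : B) • x) = 0
    rw [map_smul, show AlgebraTensorModule.rTensor R Q (αq.restrictScalars B) x = 0 from hx, smul_zero]
  rw [huniv Q (h1.trans (map_zero _).symm), map_zero] at hs
  exact ((Module.End.isUnit_iff _).mp (IsLocalizedModule.map_units φ s)).1 (hs.trans (map_zero _).symm)

/-- Flatness does not change along a finite algebra with one prime over the point. -/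
theorem flatAt_iff_of_unique {A : Type u} [CommRing A] [Algebra B A] [Module.Finite B A] (y : Ideal B) [y.IsPrime]
    (z : Ideal A) [z.IsPrime] [z.LiesOver y] (huniq : ∀ (Q : Ideal A) [Q.IsPrime], Q.LiesOver y → Q = z)
    (M : Type u) [AddCommGroup M] [Module A M] [Module B M] [IsScalarTower B A M] [Module R M] [IsScalarTower R B M]
    [Algebra R A] [IsScalarTower R B A] [IsScalarTower R A M] :
    FlatCA.FlatAt R z M ↔ FlatCA.FlatAt R y M := by
  haveI : Algebra.IsIntegral B A := Algebra.IsIntegral.of_finite _ _
  have hdiv : ∀ v ∉ z, ∃ w : A, ∃ c ∉ y, v * w = algebraMap B A c := by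
    intro v hv
    by_contra hcon
    push Not at hcon
    have hle : (Ideal.span {v}).comap (algebraMap B A) ≤ y := fun c hc => by
      by_contra hcy
      obtain ⟨w, hw⟩ := Ideal.mem_span_singleton.mp (show algebraMap B A c ∈ Ideal.span {v} from hc)
      exact hcon w c hcy hw.symm
    obtain ⟨P, hvP, hP, hPy⟩ := Ideal.exists_ideal_over_prime_of_isIntegral y _ hle
    haveI := hP
    exact hv (huniq P ⟨hPy.symm⟩ ▸ hvP (Ideal.mem_span_singleton_self v))
  haveI := HP.isLocalizedModule_of_unique y z (z.over_def y).symm hdiv M
  let e := (IsLocalizedModule.iso y.primeCompl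
    ((LocalizedModule.mkLinearMap z.primeCompl M).restrictScalars B)).restrictScalars R
  exact ⟨fun h => haveI : Module.Flat R (LocalizedModule z.primeCompl M) := h; Module.Flat.of_linearEquiv e,
    fun h => haveI : Module.Flat R (LocalizedModule y.primeCompl M) := h; Module.Flat.of_linearEquiv e.symm⟩

end Groth.Agent.HP.DevStep
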