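import Groth.Agent.HP.Etale

/-!
Common data of the étale forms of the neighbourhood theorem.
-/

set_option autoImplicit false

universe u

open TensorProduct

attribute [local instance] Algebra.TensorProduct.rightAlgebra

namespace Groth.Agent.HP

theorem exists_prime_away {SA : Type u} [CommRing SA] (Q : Ideal SA) [Q.IsPrime] (g : SA) (hg : g ∉ Q) :
    ∃ x' : Ideal (Localization.Away g), x'.IsPrime ∧ x'.comap (algebraMap SA (Localization.Away g)) = Q := by
  have hdisj : Disjoint (Submonoid.powers g : Set SA) (Q : Set SA) := by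
    refine Set.disjoint_left.mpr ?_
    rintro _ ⟨k, rfl⟩ hk
    exact hg ((inferInstance : Q.IsPrime).mem_of_pow_mem k hk)
  exact ⟨Q.map (algebraMap SA _), IsLocalization.isPrime_of_isPrime_disjoint (Submonoid.powers g) _ Q inferInstance hdisj,
    IsLocalization.under_map_of_isPrime_disjoint (Submonoid.powers g) _ inferInstance hdisj⟩

theorem fp_pushout {R S A SA : Type u} [CommRing R] [CommRing S] [CommRing A] [CommRing SA] [Algebra R S] [Algebra R A]
    [Algebra R SA] [Algebra S SA] [Algebra A SA] [IsScalarTower R S SA] [IsScalarTower R A SA]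
    [Algebra.IsPushout R S A SA] [Algebra.FinitePresentation R S] : Algebra.FinitePresentation A SA := by
  haveI : Algebra.IsPushout R A S SA := Algebra.IsPushout.symm inferInstance
  exact Algebra.FinitePresentation.equiv (Algebra.IsPushout.equiv R A S SA)

/-- The étale form along a fibre. -/
theorem exists_etale_fibre {R S : Type u} [CommRing R] [CommRing S] [Algebra R S] [Algebra.FiniteType R S]
    (N : Type u) [AddCommGroup N] [Module S N] [Module R N] [IsScalarTower R S N] [Module.Finite S N]
    (p : Ideal R) [p.IsPrime] (hflat : ∀ (q : Ideal S) [q.IsPrime], q.LiesOver p → FlatCA.FlatAt R q N) :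
    ∃ (R' : Type u) (_ : CommRing R') (_ : Algebra R R') (p' : Ideal R') (_ : p'.IsPrime), FlatCA.IsEtaleNhd R R' p p' ∧
      ∀ (SA NA : Type u) [CommRing SA] [Algebra R SA] [Algebra S SA] [Algebra (Localization.AtPrime p') SA]
        [IsScalarTower R S SA] [IsScalarTower R (Localization.AtPrime p') SA]
        [Algebra.IsPushout R S (Localization.AtPrime p') SA]
        [AddCommGroup NA] [Module SA NA] [Module S NA] [IsScalarTower S SA NA]
        (f : N →ₗ[S] NA), IsBaseChange SA f →
        ∃ (C : Type u) (_ : CommRing C) (_ : Algebra SA C) (_ : Algebra (Localization.AtPrime p') C)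
          (_ : IsScalarTower (Localization.AtPrime p') SA C) (_ : Algebra S C) (_ : IsScalarTower S SA C),
          Algebra.Etale SA C ∧
          (∀ (q : Ideal S) [q.IsPrime], q.LiesOver p → ∃ x' : Ideal C, x'.IsPrime ∧ x'.comap (algebraMap S C) = q ∧
            x'.LiesOver (IsLocalRing.maximalIdeal (Localization.AtPrime p'))) ∧
          Module.FinitePresentation C (C ⊗[SA] NA) ∧
          Module.Free (Localization.AtPrime p') (RestrictScalars (Localization.AtPrime p') C (C ⊗[SA] NA)) := by
  obtain ⟨R', _, _, p', _, hnhd, h⟩ := exists_nhd_fibre p N hflat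
  refine ⟨R', _, _, p', inferInstance, hnhd, ?_⟩
  intro SA NA _ _ _ _ _ _ _ _ _ _ _ f hf
  letI : Module (Localization.AtPrime p') NA := Module.compHom NA (algebraMap (Localization.AtPrime p') SA)
  haveI : IsScalarTower (Localization.AtPrime p') SA NA := IsScalarTower.of_algebraMap_smul fun _ _ => rfl
  obtain ⟨ι, _, g, hcov, hg⟩ := h SA NA f hf
  let C := Π i, Localization.Away (g i)
  haveI : IsScalarTower S SA C := inferInstance
  haveI := free_tensor_prod (A := Localization.AtPrime p') (NA := NA) g fun i => (hg i).2
  refine ⟨C, _, _, inferInstance, inferInstance, inferInstance, inferInstance, etale_prod g, fun q _ hq => ?_,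
    fp_tensor_prod g fun i => (hg i).1, free_restrictScalars⟩
  haveI := hq
  haveI := hnhd.2.1
  obtain ⟨Q, hQ, hQq, hQm⟩ := exists_prime_model p q p' SA
  haveI := hQ
  obtain ⟨i, hi⟩ := hcov Q hQm
  obtain ⟨y, hy, hyQ⟩ := exists_prime_away Q (g i) hi
  have hy' : Ideal.comap (algebraMap SA C) (y.comap (Pi.evalRingHom (fun j => Localization.Away (g j)) i)) = Q := by
    rw [Ideal.comap_comap, ← hyQ]
    rfl
  refine ⟨y.comap (Pi.evalRingHom (fun j => Localization.Away (g j)) i), Ideal.comap_isPrime _ _, ?_, ⟨?_⟩⟩
  · rw [IsScalarTower.algebraMap_eq S SA C, ← Ideal.comap_comap, hy']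
    exact (hQq.over).symm
  · rw [Ideal.under_def, IsScalarTower.algebraMap_eq (Localization.AtPrime p') SA C, ← Ideal.comap_comap, hy']
    exact hQm.over

/-- The étale form at a point. -/
theorem exists_etale_point {R S : Type u} [CommRing R] [CommRing S] [Algebra R S] [Algebra.FiniteType R S]
    (N : Type u) [AddCommGroup N] [Module S N] [Module R N] [IsScalarTower R S N] [Module.Finite S N]
    (p : Ideal R) [p.IsPrime] (q : Ideal S) [q.IsPrime] [q.LiesOver p] (hflat : FlatCA.FlatAt R q N) :
    ∃ (R' : Type u) (_ : CommRing R') (_ : Algebra R R') (p' : Ideal R') (_ : p'.IsPrime), FlatCA.IsEtaleNhd R R' p p' ∧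
      ∀ (SA NA : Type u) [CommRing SA] [Algebra R SA] [Algebra S SA] [Algebra (Localization.AtPrime p') SA]
        [IsScalarTower R S SA] [IsScalarTower R (Localization.AtPrime p') SA]
        [Algebra.IsPushout R S (Localization.AtPrime p') SA]
        [AddCommGroup NA] [Module SA NA] [Module S NA] [IsScalarTower S SA NA]
        (f : N →ₗ[S] NA), IsBaseChange SA f →
        ∃ (g : SA)
          (x' : Ideal (Localization.Away g)) (_ : x'.IsPrime) (hx : x'.LiesOver q),
          (x'.comap (algebraMap SA (Localization.Away g))).LiesOver q ∧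
          (x'.comap (algebraMap SA (Localization.Away g))).LiesOver (IsLocalRing.maximalIdeal (Localization.AtPrime p')) ∧
          Function.Bijective (Ideal.ResidueField.mapₐ q x' (Algebra.ofId S _) hx.over) ∧
          Module.FinitePresentation (Localization.Away g) (Localization.Away g ⊗[SA] NA) ∧
          Module.Free (Localization.AtPrime p')
            (RestrictScalars (Localization.AtPrime p') (Localization.Away g) (Localization.Away g ⊗[SA] NA)) := by
  obtain ⟨R', _, _, p', _, hnhd, h⟩ := exists_nhd_point_fp p N q hflat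
  refine ⟨R', _, _, p', inferInstance, hnhd, ?_⟩
  intro SA NA _ _ _ _ _ _ _ _ _ _ _ f hf
  letI : Module (Localization.AtPrime p') NA := Module.compHom NA (algebraMap (Localization.AtPrime p') SA)
  haveI : IsScalarTower (Localization.AtPrime p') SA NA := IsScalarTower.of_algebraMap_smul fun _ _ => rfl
  obtain ⟨g, ⟨Q, hQ, hQq, hQm⟩, hg, hfp, hfree⟩ := h SA NA f hf
  haveI := hQ
  obtain ⟨x', hx'p, hx'Q⟩ := exists_prime_away Q g (hg Q hQq hQm)
  haveI := hx'p
  haveI := hfp
  haveI := hfree
  haveI := free_tensor_away (A := Localization.AtPrime p') (NA := NA) g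
  have hxQq : (x'.comap (algebraMap SA (Localization.Away g))).LiesOver q := ⟨hQq.over.trans (congrArg _ hx'Q.symm)⟩
  have hxQm : (x'.comap (algebraMap SA (Localization.Away g))).LiesOver (IsLocalRing.maximalIdeal (Localization.AtPrime p')) :=
    ⟨hQm.over.trans (congrArg _ hx'Q.symm)⟩
  haveI hst : IsScalarTower S SA (Localization.Away g) := inferInstance
  have hx : x'.LiesOver q := ⟨by
    rw [Ideal.under_def, IsScalarTower.algebraMap_eq S SA (Localization.Away g), ← Ideal.comap_comap]
    exact hxQq.over⟩
  exact ⟨g, x', hx'p, hx, hxQq, hxQm, bijective_residue p p' hnhd g q x' hx hxQm, fp_tensor_away g,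
    free_restrictScalars⟩

end Groth.Agent.HP
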