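import Groth.Agent.HP.Transfer
import Groth.Agent.Hens.Construction

/-!
The henselization at a prime and its étale neighbourhoods.
-/

set_option autoImplicit false

universe u

open TensorProduct

attribute [local instance] Algebra.TensorProduct.rightAlgebra

namespace Groth.Agent.HP

variable {R : Type u} [CommRing R] (p : Ideal R) [p.IsPrime]

/-- The henselization of `R` at `p`. -/
abbrev Hp : Type u := Hens.EtLoc R p.ResidueField

theorem residue_frac (x : p.ResidueField) : ∃ (r u : R), u ∉ p ∧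
    algebraMap R p.ResidueField u * x = algebraMap R p.ResidueField r := by
  obtain ⟨a, b, hb, rfl⟩ := IsFractionRing.div_surjective (R ⧸ p) x
  obtain ⟨a, rfl⟩ := Ideal.Quotient.mk_surjective a
  obtain ⟨b, rfl⟩ := Ideal.Quotient.mk_surjective b
  have hbp : b ∉ p := fun h => nonZeroDivisors.ne_zero hb (Ideal.Quotient.eq_zero_iff_mem.mpr h)
  refine ⟨a, b, hbp, ?_⟩
  rw [← Ideal.Quotient.algebraMap_eq, ← IsScalarTower.algebraMap_apply, ← IsScalarTower.algebraMap_apply,
    mul_div_cancel₀ _ fun h => hbp (Ideal.algebraMap_residueField_eq_zero.mp h)]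

theorem point_surjective : Function.Surjective (Hens.point R p.ResidueField) := fun x => by
  obtain ⟨r, u, hu, hux⟩ := residue_frac p x
  have hu0 : algebraMap R p.ResidueField u ≠ 0 := fun h => hu (Ideal.algebraMap_residueField_eq_zero.mp h)
  let τ : Localization.Away u →ₐ[R] p.ResidueField :=
    IsLocalization.liftAlgHom (M := Submonoid.powers u) (f := Algebra.ofId R p.ResidueField) (by
      rintro ⟨_, k, rfl⟩
      rw [map_pow]
      exact (IsUnit.mk0 _ hu0).pow k)
  haveI : Algebra.Etale R (Localization.Away u) := Algebra.Etale.of_isLocalizationAway u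
  obtain ⟨θ, hθ, -⟩ := Hens.existsUnique_algHom_etLoc τ
  refine ⟨θ (algebraMap R _ r * IsLocalization.Away.invSelf (S := Localization.Away u) u), ?_⟩
  refine (AlgHom.congr_fun hθ _).trans (mul_left_cancel₀ hu0 ?_)
  rw [map_mul, AlgHom.commutes, hux, mul_left_comm]
  nth_rewrite 2 [← mul_one (algebraMap R p.ResidueField r)]
  congr 1
  rw [← τ.commutes u, ← map_mul, IsLocalization.Away.mul_invSelf, map_one]

theorem mem_max_iff (a : Hp p) : a ∈ IsLocalRing.maximalIdeal (Hp p) ↔ Hens.point R p.ResidueField a = 0 := by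
  haveI hloc : IsLocalHom (Hens.point R p.ResidueField).toRingHom := inferInstance
  constructor
  · intro ha
    by_contra h0
    exact ha (hloc.map_nonunit a (IsUnit.mk0 _ h0))
  · intro h0 hu
    exact (hu.map (Hens.point R p.ResidueField)).ne_zero h0

instance max_liesOver : (IsLocalRing.maximalIdeal (Hp p)).LiesOver p := ⟨by
  ext a
  rw [Ideal.mem_comap, mem_max_iff, AlgHom.commutes, Ideal.algebraMap_residueField_eq_zero]⟩

/-- Finitely many elements of the henselization come from one étale neighbourhood. -/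
theorem exists_nhd (s : Finset (Hp p)) :
    ∃ (R' : Type u) (_ : CommRing R') (_ : Algebra R R') (p' : Ideal R') (_ : p'.IsPrime),
      FlatCA.IsEtaleNhd R R' p p' ∧ ∃ θ : R' →ₐ[R] Hp p,
        p' = (IsLocalRing.maximalIdeal (Hp p)).comap θ.toRingHom ∧ ∀ z ∈ s, z ∈ θ.range := by
  obtain ⟨R', _, _, hR', θ, hθ⟩ := Hens.exists_stage_finset s
  let p' : Ideal R' := (IsLocalRing.maximalIdeal (Hp p)).comap θ.toRingHom
  haveI : p'.IsPrime := Ideal.comap_isPrime _ _
  haveI hlo : p'.LiesOver p := ⟨by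
    ext a
    rw [(IsLocalRing.maximalIdeal (Hp p)).over_def p]
    show algebraMap R (Hp p) a ∈ IsLocalRing.maximalIdeal (Hp p) ↔ θ (algebraMap R R' a) ∈ IsLocalRing.maximalIdeal (Hp p)
    rw [θ.commutes]⟩
  refine ⟨R', _, _, p', inferInstance, ⟨hR', hlo, ?_⟩, θ, rfl, hθ⟩
  let ψ : R' →ₐ[R] p.ResidueField := (Hens.point R p.ResidueField).comp θ
  have hψ : p' = RingHom.ker ψ.toRingHom := by
    ext a
    exact mem_max_iff p (θ a)
  let j := Ideal.ResidueField.mapₐ p p' (Algebra.ofId R R') hlo.over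
  let l : p'.ResidueField →+* p.ResidueField := Ideal.ResidueField.lift p' ψ.toRingHom hψ.le
    fun a (ha : a ∈ p'.primeCompl) => IsUnit.mk0 _ fun h => ha (hψ.ge h)
  have hl : ∀ x, l (j x) = x := fun x => by
    obtain ⟨r, u, hu, hux⟩ := residue_frac p x
    have hu0 : algebraMap R p.ResidueField u ≠ 0 := fun h => hu (Ideal.algebraMap_residueField_eq_zero.mp h)
    have hlj : ∀ a : R, l (j (algebraMap R p.ResidueField a)) = algebraMap R p.ResidueField a := fun a => by
      rw [AlgHom.commutes, IsScalarTower.algebraMap_apply R R' p'.ResidueField,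
        Ideal.ResidueField.lift_algebraMap]
      exact ψ.commutes a
    refine mul_left_cancel₀ hu0 ?_
    calc algebraMap R p.ResidueField u * l (j x) = l (j (algebraMap R p.ResidueField u * x)) := by
          rw [map_mul, map_mul, hlj]
      _ = algebraMap R p.ResidueField r := by rw [hux, hlj]
      _ = _ := hux.symm
  exact ⟨RingHom.injective j.toRingHom, fun y => ⟨l y, l.injective (hl (l y))⟩⟩

/-- The map from the local ring of an étale neighbourhood to the henselization. -/
theorem exists_local_map {R' : Type u} [CommRing R'] [Algebra R R'] [Algebra.Etale R R'] (θ : R' →ₐ[R] Hp p)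
    (p' : Ideal R') [p'.IsPrime] (hp' : p' = (IsLocalRing.maximalIdeal (Hp p)).comap θ.toRingHom) :
    ∃ φ : Localization.AtPrime p' →ₐ[R] Hp p,
      φ.comp (IsScalarTower.toAlgHom R R' (Localization.AtPrime p')) = θ ∧
      φ.toRingHom.FaithfullyFlat := by
  have hu : ∀ a : p'.primeCompl, IsUnit (θ a) := fun a =>
    IsLocalRing.notMem_maximalIdeal.mp fun h => a.2 (hp'.ge h)
  let φ : Localization.AtPrime p' →ₐ[R] Hp p := IsLocalization.liftAlgHom (M := p'.primeCompl) hu
  have hφ : ∀ a, φ (algebraMap R' _ a) = θ a := fun a => IsLocalization.lift_eq _ a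
  refine ⟨φ, AlgHom.ext hφ, ?_⟩
  letI : Algebra (Localization.AtPrime p') (Hp p) := φ.toRingHom.toAlgebra
  letI : Algebra R' (Hp p) := θ.toRingHom.toAlgebra
  haveI : IsScalarTower R' (Localization.AtPrime p') (Hp p) :=
    IsScalarTower.of_algebraMap_eq fun a => (hφ a).symm
  haveI : Module.Flat R' (Hp p) := Hens.flat_of_etale θ
  haveI : Module.Flat (Localization.AtPrime p') (Hp p) :=
    (Module.flat_iff_of_isLocalization (Localization.AtPrime p') p'.primeCompl (Hp p)).mpr inferInstance
  haveI : IsLocalHom (algebraMap (Localization.AtPrime p') (Hp p)) := ⟨fun a ha => by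
    obtain ⟨b, c, rfl⟩ := IsLocalization.exists_mk'_eq p'.primeCompl a
    rw [IsLocalization.AtPrime.isUnit_mk'_iff (Localization.AtPrime p') p' b c]
    intro hb
    have h1 : φ (algebraMap R' _ b) ∈ IsLocalRing.maximalIdeal (Hp p) := by
      rw [hφ]; exact hp'.le hb
    rw [← IsLocalization.mk'_spec (Localization.AtPrime p') b c, map_mul] at h1
    exact h1 (ha.mul ((IsLocalization.map_units _ c).map φ))⟩
  exact Module.FaithfullyFlat.of_flat_of_isLocalHom (A := Localization.AtPrime p') (B := Hp p)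

variable {S : Type u} [CommRing S] [Algebra R S]

/-- Above the closed point of the henselization there is only one prime over a prime of `S` over `p`. -/
theorem eq_of_liesOver (q : Ideal S) (Q₁ Q₂ : Ideal (Hp p ⊗[R] S)) [Q₁.IsPrime] [Q₂.IsPrime]
    [Q₁.LiesOver q] [Q₂.LiesOver q] [Q₁.LiesOver (IsLocalRing.maximalIdeal (Hp p))]
    [Q₂.LiesOver (IsLocalRing.maximalIdeal (Hp p))] : Q₁ = Q₂ := by
  let m := IsLocalRing.maximalIdeal (Hp p)
  have key : ∀ c : Hp p ⊗[R] S, ∃ (u : R) (s : S), u ∉ p ∧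
      algebraMap R (Hp p ⊗[R] S) u * c - (1 : Hp p) ⊗ₜ s ∈ m.map (algebraMap (Hp p) (Hp p ⊗[R] S)) := by
    intro c
    induction c with
    | zero => exact ⟨1, 0, p.primeCompl.one_mem, by simp⟩
    | tmul a s =>
      obtain ⟨r, u, hu, hux⟩ := residue_frac p (Hens.point R p.ResidueField a)
      refine ⟨u, algebraMap R S r * s, hu, ?_⟩
      have hd : algebraMap R (Hp p) u * a - algebraMap R (Hp p) r ∈ m := by
        rw [mem_max_iff, map_sub, map_mul, AlgHom.commutes, AlgHom.commutes, hux, sub_self]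
      have h2 : algebraMap R (Hp p ⊗[R] S) u * a ⊗ₜ s - (1 : Hp p) ⊗ₜ (algebraMap R S r * s) =
          algebraMap (Hp p) (Hp p ⊗[R] S) (algebraMap R (Hp p) u * a - algebraMap R (Hp p) r) * ((1 : Hp p) ⊗ₜ s) := by
        rw [show algebraMap (Hp p) (Hp p ⊗[R] S) (algebraMap R (Hp p) u * a - algebraMap R (Hp p) r) =
              (algebraMap R (Hp p) u * a - algebraMap R (Hp p) r) ⊗ₜ (1 : S) from rfl,
          Algebra.TensorProduct.tmul_mul_tmul, mul_one, one_mul, TensorProduct.sub_tmul,
          Algebra.TensorProduct.algebraMap_apply, Algebra.TensorProduct.tmul_mul_tmul, one_mul,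
          ← Algebra.smul_def r s, TensorProduct.tmul_smul, TensorProduct.smul_tmul', ← Algebra.algebraMap_eq_smul_one]
      rw [h2]
      exact Ideal.mul_mem_right _ _ (Ideal.mem_map_of_mem _ hd)
    | add c d hc hd =>
      obtain ⟨u, s, hu, hus⟩ := hc
      obtain ⟨v, t, hv, hvt⟩ := hd
      refine ⟨u * v, algebraMap R S v * s + algebraMap R S u * t, p.primeCompl.mul_mem hu hv, ?_⟩
      have h1 : ∀ (a : R) (b : S), (1 : Hp p) ⊗ₜ[R] (algebraMap R S a * b) =
          algebraMap R (Hp p ⊗[R] S) a * (1 : Hp p) ⊗ₜ b := fun a b => by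
        rw [Algebra.TensorProduct.algebraMap_apply, Algebra.TensorProduct.tmul_mul_tmul, one_mul, mul_one,
          ← Algebra.smul_def a b, TensorProduct.tmul_smul, TensorProduct.smul_tmul', Algebra.algebraMap_eq_smul_one]
      rw [TensorProduct.tmul_add, h1, h1, show algebraMap R (Hp p ⊗[R] S) (u * v) * (c + d) -
          (algebraMap R _ v * (1 : Hp p) ⊗ₜ s + algebraMap R _ u * (1 : Hp p) ⊗ₜ t) =
          algebraMap R _ v * (algebraMap R _ u * c - (1 : Hp p) ⊗ₜ s) +
          algebraMap R _ u * (algebraMap R _ v * d - (1 : Hp p) ⊗ₜ t) by rw [map_mul]; ring]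
      exact add_mem (Ideal.mul_mem_left _ _ hus) (Ideal.mul_mem_left _ _ hvt)
  have hiff : ∀ (Q : Ideal (Hp p ⊗[R] S)) [Q.IsPrime] [Q.LiesOver q] [Q.LiesOver m] (c : Hp p ⊗[R] S)
      (u : R) (s : S), u ∉ p →
      algebraMap R (Hp p ⊗[R] S) u * c - (1 : Hp p) ⊗ₜ s ∈ m.map (algebraMap (Hp p) (Hp p ⊗[R] S)) →
      (c ∈ Q ↔ s ∈ q) := by
    intro Q _ _ _ c u s hu hus
    have hus' := Ideal.map_le_iff_le_comap.mpr (Q.over_def m).le hus
    have huQ : algebraMap R (Hp p ⊗[R] S) u ∉ Q := fun h => hu (by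
      rw [(IsLocalRing.maximalIdeal (Hp p)).over_def p, Ideal.mem_comap]
      refine (Q.over_def m).ge ?_
      rw [Ideal.mem_comap, ← IsScalarTower.algebraMap_apply]
      exact h)
    rw [Q.over_def q, Ideal.mem_comap]
    show c ∈ Q ↔ (1 : Hp p) ⊗ₜ s ∈ Q
    constructor
    · intro hc
      have := sub_mem (Q.mul_mem_left (algebraMap R _ u) hc) hus'
      rwa [sub_sub_cancel] at this
    · intro hs
      have := add_mem hus' hs
      rw [sub_add_cancel] at this
      exact ((inferInstance : Q.IsPrime).mem_or_mem this).resolve_left huQ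
  ext c
  obtain ⟨u, s, hu, hus⟩ := key c
  rw [hiff Q₁ c u s hu hus, hiff Q₂ c u s hu hus]

end Groth.Agent.HP
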