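import Groth.Agent.HP.Sep
import Groth.Agent.RGFlat.LocTor
import Groth.Agent.HP.Setting
import Groth.Agent.Hensel.Local
import Mathlib.RingTheory.Etale.QuasiFinite

/-!
A finite module over a local ring essentially of finite type with separated relations is flat.
-/

set_option autoImplicit false

universe u

open MvPolynomial TensorProduct

attribute [local instance] MvPolynomial.algebraMvPolynomial Algebra.TensorProduct.rightAlgebra

namespace Groth.Agent.HP.Sep

/-- A flat extension detects flatness. -/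
theorem flat_of_faithfullyFlat {A B L : Type u} [CommRing A] [CommRing B] [CommRing L] [Algebra A B] [Algebra A L]
    [Algebra B L] [IsScalarTower A B L] [Module.FaithfullyFlat B L] (N : Type u) [AddCommGroup N] [Module B N]
    [Module A N] [IsScalarTower A B N] [Module.Flat A (L ⊗[B] N)] : Module.Flat A N := by
  let j : N →ₗ[A] L ⊗[B] N := (TensorProduct.mk B L N 1).restrictScalars A
  refine flat_of_univInj j fun X _ _ => ?_
  intro x y hxy
  refine Module.FaithfullyFlat.tensorProduct_mk_injective (A := B) (B := L) (N ⊗[A] X) ?_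
  let e := (AlgebraTensorModule.assoc A B L L N X).restrictScalars A
  have he : ∀ z, e (j.rTensor X z) = (1 : L) ⊗ₜ[B] z := fun z => by
    induction z with
    | zero => simp
    | tmul n e => rfl
    | add u v hu hv => simp only [map_add, TensorProduct.tmul_add, hu, hv]
  show (1 : L) ⊗ₜ[B] x = (1 : L) ⊗ₜ[B] y
  rw [← he, ← he, hxy]

/-- The statement for rational points quasi-finite over affine `n`-space over a henselian ring. -/
def SF (n : ℕ) : Prop :=
  ∀ (A : Type u) [CommRing A] [HenselianLocalRing A] (C : Type u) [CommRing C] [Algebra A C] [Algebra.FiniteType A C]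
    (z : Ideal C) [z.IsPrime],
    (IsLocalRing.maximalIdeal A).map (algebraMap A C) ≤ z → (∀ c : C, ∃ a : A, c - algebraMap A C a ∈ z) →
    ∀ [Algebra (MvPolynomial (Fin n) A) C] [IsScalarTower A (MvPolynomial (Fin n) A) C],
    (∀ i, algebraMap _ C (X i : MvPolynomial (Fin n) A) ∈ z) → Algebra.QuasiFiniteAt (MvPolynomial (Fin n) A) z →
    ∀ (Cz : Type u) [CommRing Cz] [Algebra C Cz] [Algebra A Cz] [IsScalarTower A C Cz] [IsLocalization.AtPrime Cz z]
      (N : Type u) [AddCommGroup N] [Module Cz N] [Module A N] [IsScalarTower A Cz N] [Module.Finite Cz N],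
      Sep A N → Module.Flat A N

open RGFlat (exists_coeff exists_params quasiFiniteAt_of_minimal sub_C_mem isMaximal_of_rational exists_comap_localRingHom)

variable {n : ℕ}

theorem sf_section (H : ∀ k < n, SF.{u} k) {A : Type u} [CommRing A] [HenselianLocalRing A] {E : Type u} [CommRing E]
    [Algebra (MvPolynomial (Fin n) A) E] [Algebra.Etale (MvPolynomial (Fin n) A) E]
    [Algebra A E] [IsScalarTower A (MvPolynomial (Fin n) A) E]
    (ε : E →ₐ[A] A) (hX : ∀ i, ε (algebraMap _ E (X i : MvPolynomial (Fin n) A)) = 0)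
    (y : Ideal E) (hy : y = (IsLocalRing.maximalIdeal A).comap ε) [y.IsPrime]
    {D : Type u} [CommRing D] [Algebra A D] [Algebra E D] [IsScalarTower A E D] [IsLocalization.AtPrime D y]
    {G : Type u} [AddCommGroup G] [Module D G] [Module A G] [IsScalarTower A D G] [Module.Finite D G]
    (hG : Sep A G) : Module.Flat A G := by
  subst hy
  haveI : Algebra.FinitePresentation A E := Algebra.FinitePresentation.trans A (MvPolynomial (Fin n) A) E
  obtain ⟨co, hsep, hprime⟩ := exists_coeff ε hX (D := D)
  obtain ⟨r, α, s, hs, hsQ, hα, hcontent⟩ := exists_step hG co hsep hprime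
  let Q := LinearMap.range α
  suffices hGQ : Module.Flat A (G ⧸ Q) by
    haveI : Module.Flat A (MvPolynomial (Fin n) A) := inferInstance
    haveI : Module.Flat A E := Module.Flat.trans A (MvPolynomial (Fin n) A) E
    haveI : Module.Flat E D := IsLocalization.flat D ((IsLocalRing.maximalIdeal A).comap ε).primeCompl
    haveI : Module.Flat A D := Module.Flat.trans A E D
    haveI : Module.Flat A (G ⧸ LinearMap.range α) := hGQ
    exact flat_of_coker α hα
  have hQ : Sep A (G ⧸ Q) := sep_coker α hG hcontent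
  set y := (IsLocalRing.maximalIdeal A).comap ε
  obtain ⟨⟨s0, u⟩, hsu⟩ := IsLocalization.surj y.primeCompl s
  have hs0 : algebraMap E D s0 ∉ (IsLocalRing.maximalIdeal A).map (algebraMap A D) := fun h =>
    hs ((Ideal.mul_unit_mem_iff_mem _ (IsLocalization.map_units D u)).mp (hsu ▸ h))
  have hkill : ∀ x : G ⧸ Q, algebraMap E D s0 • x = 0 := by
    intro x
    obtain ⟨x, rfl⟩ := Q.mkQ_surjective x
    rw [← map_smul, Submodule.mkQ_apply, Submodule.Quotient.mk_eq_zero, ← hsu, mul_comm, mul_smul]
    exact Q.smul_mem _ (hsQ x)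
  by_cases hsy : s0 ∈ y
  swap
  · haveI : Subsingleton (G ⧸ Q) := ⟨fun a b => by
      have hu : IsUnit (algebraMap E D s0) := IsLocalization.map_units D (⟨s0, hsy⟩ : y.primeCompl)
      rw [hu.smul_eq_zero.mp (hkill a), hu.smul_eq_zero.mp (hkill b)]⟩
    exact inferInstance
  obtain ⟨d, e, hd, he, hmin⟩ := exists_params ε hX hprime s0 hsy hs0
  let I : Ideal E := Ideal.span {s0}
  have hIy : I ≤ y := (Ideal.span_singleton_le_iff_mem _).mpr hsy
  let J' : Ideal D := I.map (algebraMap E D)
  have hJ : J' = Ideal.span {algebraMap E D s0} := by simp [J', I, Ideal.map_span]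
  have hT : Module.IsTorsionBySet D (G ⧸ Q) (J' : Set D) := fun x a => by
    obtain ⟨c, hc⟩ := Ideal.mem_span_singleton'.mp (show (a : D) ∈ Ideal.span {algebraMap E D s0} from hJ ▸ a.2)
    show (a : D) • x = 0
    rw [← hc, mul_smul, hkill, smul_zero]
  letI : Module (D ⧸ J') (G ⧸ Q) := hT.module
  haveI : IsScalarTower D (D ⧸ J') (G ⧸ Q) := IsScalarTower.of_algebraMap_smul fun c x => rfl
  haveI : IsScalarTower A (D ⧸ J') (G ⧸ Q) := IsScalarTower.of_algebraMap_smul fun a x => by
    show algebraMap A D a • x = a • x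
    rw [IsScalarTower.algebraMap_smul]
  haveI : Module.Finite (D ⧸ J') (G ⧸ Q) := Module.Finite.of_restrictScalars_finite D _ _
  let z : Ideal (E ⧸ I) := y.map (Ideal.Quotient.mk I)
  haveI : z.IsPrime := Ideal.map_isPrime_of_surjective Ideal.Quotient.mk_surjective (by rw [Ideal.mk_ker]; exact hIy)
  have hzmem : ∀ {v : E}, Ideal.Quotient.mk I v ∈ z → v ∈ y := fun {v} hv => by
    rwa [Ideal.mem_quotient_iff_mem_sup, sup_eq_left.mpr hIy] at hv
  haveI : IsLocalization.AtPrime (D ⧸ J') z := by
    have h := (inferInstance : IsLocalization (Algebra.algebraMapSubmonoid (E ⧸ I) y.primeCompl) (D ⧸ J'))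
    have heq : Algebra.algebraMapSubmonoid (E ⧸ I) y.primeCompl = z.primeCompl := by
      ext v
      constructor
      · rintro ⟨v, hv, rfl⟩ hvz
        exact hv (hzmem hvz)
      · intro hv
        obtain ⟨v, rfl⟩ := Ideal.Quotient.mk_surjective v
        exact ⟨v, fun h => hv (Ideal.mem_map_of_mem _ h), rfl⟩
    show IsLocalization z.primeCompl (D ⧸ J')
    rw [← heq]
    exact h
  haveI : Algebra.FiniteType A (E ⧸ I) := Algebra.FiniteType.of_surjective (Ideal.Quotient.mkₐ A I) Ideal.Quotient.mk_surjective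
  let φ : MvPolynomial (Fin d) A →ₐ[A] E ⧸ I := aeval fun i => Ideal.Quotient.mk I (e i)
  letI : Algebra (MvPolynomial (Fin d) A) (E ⧸ I) := φ.toRingHom.toAlgebra
  haveI : IsScalarTower A (MvPolynomial (Fin d) A) (E ⧸ I) :=
    IsScalarTower.of_algebraMap_eq fun a => (φ.commutes a).symm
  have hXz : ∀ i, algebraMap _ (E ⧸ I) (X i : MvPolynomial (Fin d) A) ∈ z := fun i => by
    show φ (X i) ∈ z
    simp only [φ, aeval_X]
    exact Ideal.mem_map_of_mem _ (he i)
  have hmz : (IsLocalRing.maximalIdeal A).map (algebraMap A (E ⧸ I)) ≤ z := by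
    rw [IsScalarTower.algebraMap_eq A E (E ⧸ I), ← Ideal.map_map]
    refine Ideal.map_mono (Ideal.map_le_iff_le_comap.mpr fun a ha => ?_)
    show ε (algebraMap A E a) ∈ IsLocalRing.maximalIdeal A
    rwa [ε.commutes]
  have hrat : ∀ c : E ⧸ I, ∃ a : A, c - algebraMap A (E ⧸ I) a ∈ z := by
    intro c
    obtain ⟨c, rfl⟩ := Ideal.Quotient.mk_surjective c
    refine ⟨ε c, ?_⟩
    rw [IsScalarTower.algebraMap_apply A E (E ⧸ I), Ideal.Quotient.algebraMap_eq, ← map_sub]
    refine Ideal.mem_map_of_mem _ ?_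
    show ε (c - algebraMap A E (ε c)) ∈ IsLocalRing.maximalIdeal A
    simp
  have hqf : Algebra.QuasiFiniteAt (MvPolynomial (Fin d) A) z := by
    refine quasiFiniteAt_of_minimal z hrat hmz fun Q' hQ' hQz hmQ hPQ => ?_
    haveI := hQ'
    have h1 := hmin (Q'.comap (Ideal.Quotient.mk I)) inferInstance
      (fun v hv => hzmem (hQz hv)) ?_ ?_ fun i => ?_
    · rw [← Ideal.map_comap_of_surjective (Ideal.Quotient.mk I) Ideal.Quotient.mk_surjective Q', h1]
    · refine Ideal.map_le_iff_le_comap.mp ?_
      rw [Ideal.map_map]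
      exact hmQ
    · show Ideal.Quotient.mk I s0 ∈ Q'
      rw [Ideal.Quotient.eq_zero_iff_mem.mpr (Ideal.mem_span_singleton_self s0)]
      exact zero_mem _
    · show Ideal.Quotient.mk I (e i) ∈ Q'
      have h2 : φ (X i) ∈ Q' := hPQ (Ideal.mem_map_of_mem _ (hXz i))
      simpa [φ] using h2
  haveI : IsScalarTower A (E ⧸ I) (D ⧸ J') := IsScalarTower.of_algebraMap_eq fun a => by
    show Ideal.Quotient.mk J' (algebraMap A D a) = Ideal.Quotient.mk J' (algebraMap E D (algebraMap A E a))
    rw [← IsScalarTower.algebraMap_apply]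
  exact H d hd A (E ⧸ I) z hmz hrat hXz hqf (D ⧸ J') (G ⧸ Q) hQ

theorem sf_qf (H : ∀ k < n, SF.{u} k) : SF.{u} n := by
  intro A _ _ C _ _ _ z _ hz hrat _ _ hX hqf Cz _ _ _ _ _ N _ _ _ _ _ hN
  haveI := hqf
  let P := MvPolynomial (Fin n) A
  haveI : Algebra.FiniteType P C := .of_restrictScalars_finiteType A P C
  let y0 : Ideal P := z.comap (algebraMap P C)
  haveI : y0.IsPrime := Ideal.comap_isPrime _ _
  haveI : z.LiesOver y0 := ⟨rfl⟩
  obtain ⟨E, _, _, _, y, _, _, e, he, P', _, _, hP'z, heP', hbij, hfin, huniq⟩ :=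
    Algebra.exists_etale_isIdempotentElem_forall_liesOver_eq y0 z
  have hy0rat : ∀ p : P, p - algebraMap A P (MvPolynomial.constantCoeff p) ∈ y0 := fun p => by
    refine SetLike.le_def.mp ?_ (sub_C_mem A p)
    rw [show MvPolynomial.idealOfVars (Fin n) A = Ideal.span (Set.range X) from rfl, Ideal.span_le]
    rintro _ ⟨i, rfl⟩
    exact hX i
  have hy0m : (IsLocalRing.maximalIdeal A).map (algebraMap A P) ≤ y0 := by
    refine Ideal.map_le_iff_le_comap.mpr fun a ha => ?_
    show algebraMap P C (algebraMap A P a) ∈ z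
    rw [← IsScalarTower.algebraMap_apply]
    exact hz (Ideal.mem_map_of_mem _ ha)
  haveI : y0.IsMaximal := isMaximal_of_rational y0 hy0m fun p => ⟨_, hy0rat p⟩
  have hy0y : ∀ p ∈ y0, algebraMap P E p ∈ y := fun p hp => (y.over_def y0).le hp
  letI : Algebra A E := ((algebraMap P E).comp (algebraMap A P)).toAlgebra
  haveI : IsScalarTower A P E := IsScalarTower.of_algebraMap_eq' rfl
  have hym : (IsLocalRing.maximalIdeal A).map (algebraMap A E) ≤ y := by
    refine Ideal.map_le_iff_le_comap.mpr fun a ha => ?_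
    exact hy0y _ (hy0m (Ideal.mem_map_of_mem _ ha))
  have hyrat : ∀ v : E, ∃ a : A, v - algebraMap A E a ∈ y := by
    intro v
    obtain ⟨w, hw⟩ := hbij.2 (algebraMap E y.ResidueField v)
    obtain ⟨p, rfl⟩ := y0.algebraMap_residueField_surjective w
    have h1 : v - algebraMap P E p ∈ y := by
      rw [← Ideal.algebraMap_residueField_eq_zero, map_sub, ← hw, ← IsScalarTower.algebraMap_apply,
        AlgHom.commutes, sub_self]
    refine ⟨MvPolynomial.constantCoeff p, ?_⟩
    have h2 := add_mem h1 (hy0y _ (hy0rat p))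
    rwa [map_sub, sub_add_sub_cancel, ← IsScalarTower.algebraMap_apply A P E] at h2
  let m := IsLocalRing.maximalIdeal A
  letI : Field (A ⧸ m) := Ideal.Quotient.field m
  let j : A ⧸ m →ₐ[A] E ⧸ y := Ideal.Quotient.liftₐ m (Algebra.ofId A (E ⧸ y)) fun a ha =>
    Ideal.Quotient.eq_zero_iff_mem.mpr (hym (Ideal.mem_map_of_mem _ ha))
  have hj : Function.Bijective j := by
    refine ⟨RingHom.injective (j : A ⧸ m →+* E ⧸ y), fun v => ?_⟩
    obtain ⟨v, rfl⟩ := Ideal.Quotient.mk_surjective v
    obtain ⟨a, ha⟩ := hyrat v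
    exact ⟨Ideal.Quotient.mk m a, (Ideal.Quotient.eq.mpr ha).symm⟩
  let g : E →ₐ[A] A ⧸ m := (AlgEquiv.ofBijective j hj).symm.toAlgHom.comp (Ideal.Quotient.mkₐ A y)
  have hg : ∀ v, g v = 0 ↔ v ∈ y := fun v => by
    show (AlgEquiv.ofBijective j hj).symm (Ideal.Quotient.mk y v) = 0 ↔ _
    rw [map_eq_zero_iff _ (AlgEquiv.ofBijective j hj).symm.injective, Ideal.Quotient.eq_zero_iff_mem]
  letI : Algebra P A := (MvPolynomial.constantCoeff : P →+* A).toAlgebra
  haveI : IsScalarTower A P A := IsScalarTower.of_algebraMap_eq fun a => (constantCoeff_C _ a).symm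
  have hgP : ∀ p : P, g (algebraMap P E p) = algebraMap P (A ⧸ m) p := fun p => by
    have h : g.comp (IsScalarTower.toAlgHom A P E) = IsScalarTower.toAlgHom A P (A ⧸ m) :=
      MvPolynomial.algHom_ext fun i => by
        show g (algebraMap P E (X i)) = Ideal.Quotient.mk m (MvPolynomial.constantCoeff (X i : P))
        rw [(hg _).mpr (hy0y _ (hX i)), constantCoeff_X, map_zero]
    exact AlgHom.congr_fun h p
  let gP : E →ₐ[P] IsLocalRing.ResidueField A := { toRingHom := g.toRingHom, commutes' := hgP }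
  obtain ⟨f, hf, -⟩ := Hensel.existsUnique_algHom_residue (R := P) (T := A) E gP
  let ε : E →ₐ[A] A := f.restrictScalars A
  have hεX : ∀ i, ε (algebraMap P E (X i)) = 0 := fun i => (f.commutes (X i)).trans (constantCoeff_X (R := A) i)
  have hεy : y = m.comap ε := by
    ext v
    rw [Ideal.mem_comap, ← IsLocalRing.residue_eq_zero_iff, show ε v = f v from rfl, hf, ← hg]
    rfl
  let EC := E ⊗[P] C
  let T := Localization.Away e
  let D := Localization.AtPrime y
  let L := Localization.AtPrime P'
  obtain ⟨gD, hgD, -⟩ := exists_comap_localRingHom y P' (algebraMap E EC) (P'.over_def y).symm D L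
  letI : Algebra D L := gD.toAlgebra
  haveI : IsScalarTower E D L := IsScalarTower.of_algebraMap_eq' (by
    rw [RingHom.algebraMap_toAlgebra, hgD, ← IsScalarTower.algebraMap_eq])
  haveI : Module.Finite D L := by
    let ψ : T →ₐ[E] L := IsLocalization.liftAlgHom (M := Submonoid.powers e) (f := IsScalarTower.toAlgHom E EC L) (by
      rintro ⟨_, k, rfl⟩
      rw [IsScalarTower.coe_toAlgHom', map_pow]
      exact (IsLocalization.map_units L (⟨e, heP'⟩ : P'.primeCompl)).pow k)
    have hψ : ∀ v : EC, ψ (algebraMap EC T v) = algebraMap EC L v := fun v => IsLocalization.lift_eq _ v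
    let Φ : D ⊗[E] T →ₐ[D] L := Algebra.TensorProduct.lift (Algebra.ofId D L) ψ fun _ _ => Commute.all _ _
    haveI : Module.Finite D (D ⊗[E] T) := inferInstance
    haveI : Algebra.IsIntegral D (D ⊗[E] T) := Algebra.IsIntegral.of_finite _ _
    haveI : IsLocalRing D := inferInstance
    let ρ : EC →+* D ⊗[E] T := (Algebra.TensorProduct.includeRight (R := E) (A := D) (B := T)).toRingHom.comp (algebraMap EC T)
    have hunit : ∀ v : EC, v ∉ P' → IsUnit (ρ v) := by
      intro v hv
      by_contra hu
      obtain ⟨M, hM, hvM⟩ := exists_max_ideal_of_mem_nonunits hu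
      refine hv ?_
      have hMD : M.comap (algebraMap D (D ⊗[E] T)) = IsLocalRing.maximalIdeal D :=
        IsLocalRing.eq_maximalIdeal (Ideal.isMaximal_comap_of_isIntegral_of_isMaximal M)
      have hover : (M.comap ρ).LiesOver y := ⟨by
        refine (IsLocalization.AtPrime.under_maximalIdeal D y).symm.trans ?_
        rw [← hMD]
        show Ideal.comap _ (Ideal.comap _ M) = Ideal.comap _ (Ideal.comap ρ M)
        rw [Ideal.comap_comap, Ideal.comap_comap]
        congr 1
        ext v
        simp [ρ, ← IsScalarTower.algebraMap_apply E EC T]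
        rfl⟩
      have heM : e ∉ M.comap ρ := fun h =>
        hM.ne_top (M.eq_top_of_isUnit_mem h ((IsLocalization.Away.algebraMap_isUnit (S := T) e).map (Algebra.TensorProduct.includeRight (R := E) (A := D) (B := T))))
      rw [← huniq _ (Ideal.comap_isPrime _ _) hover heM]
      exact hvM
    have hΦ : ∀ v : EC, Φ (ρ v) = algebraMap EC L v := fun v => by
      show Φ ((1 : D) ⊗ₜ[E] algebraMap EC T v) = _
      simp [Φ, hψ]
    refine Module.Finite.of_surjective Φ.toLinearMap fun x => ?_
    obtain ⟨b, s, rfl⟩ := IsLocalization.exists_mk'_eq P'.primeCompl x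
    refine ⟨ρ b * ((hunit _ s.2).unit⁻¹ : (D ⊗[E] T)ˣ), ?_⟩
    show Φ _ = _
    rw [IsLocalization.eq_mk'_iff_mul_eq, map_mul, ← hΦ s, ← hΦ b, mul_assoc, ← map_mul,
      IsUnit.val_inv_mul, map_one, mul_one]
  obtain ⟨gC, hgC, hlocC⟩ := exists_comap_localRingHom z P' Algebra.TensorProduct.includeRight.toRingHom hP'z Cz L
  letI : Algebra Cz L := gC.toAlgebra
  haveI : IsScalarTower C Cz L := IsScalarTower.of_algebraMap_eq' (by
    rw [RingHom.algebraMap_toAlgebra gC, hgC, IsScalarTower.algebraMap_eq C EC L]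
    rfl)
  haveI : IsLocalHom (algebraMap Cz L) := hlocC
  haveI : IsLocalRing Cz := IsLocalization.AtPrime.isLocalRing Cz z
  haveI : Module.Flat C EC := by
    haveI : Algebra.IsPushout P C E EC := Algebra.IsPushout.symm inferInstance
    exact Module.Flat.isBaseChange P C E EC (Algebra.IsPushout.out (R := P) (S := C) (R' := E) (S' := EC))
  haveI : Module.Flat EC L := IsLocalization.flat L P'.primeCompl
  haveI : Module.Flat C L := Module.Flat.trans C EC L
  haveI : Module.Flat Cz L := (Module.flat_iff_of_isLocalization Cz z.primeCompl L).mpr inferInstance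
  haveI : Module.FaithfullyFlat Cz L := Module.FaithfullyFlat.of_flat_of_isLocalHom
  haveI : IsScalarTower A C EC := IsScalarTower.of_algebraMap_eq fun a => by
    rw [IsScalarTower.algebraMap_apply A P C, ← IsScalarTower.algebraMap_apply P C EC,
      IsScalarTower.algebraMap_apply P E EC, ← IsScalarTower.algebraMap_apply A P E,
      ← IsScalarTower.algebraMap_apply A E EC]
  haveI : IsScalarTower A Cz L := IsScalarTower.of_algebraMap_eq fun a => by
    rw [IsScalarTower.algebraMap_apply A C Cz, ← IsScalarTower.algebraMap_apply C Cz L,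
      IsScalarTower.algebraMap_apply C EC L, ← IsScalarTower.algebraMap_apply A C EC,
      ← IsScalarTower.algebraMap_apply A EC L]
  haveI : IsScalarTower A D L := IsScalarTower.of_algebraMap_eq fun a => by
    rw [IsScalarTower.algebraMap_apply A E D, ← IsScalarTower.algebraMap_apply E D L,
      IsScalarTower.algebraMap_apply E EC L, ← IsScalarTower.algebraMap_apply A E EC,
      ← IsScalarTower.algebraMap_apply A EC L]
  have hG : Sep A (L ⊗[Cz] N) := sep_tensor hN
  haveI : Module.Finite L (L ⊗[Cz] N) := inferInstance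
  haveI : Module.Finite D (L ⊗[Cz] N) := Module.Finite.trans L _
  haveI : Module.Flat A (L ⊗[Cz] N) := sf_section H ε hεX y hεy (D := D) hG
  exact flat_of_faithfullyFlat (B := Cz) (L := L) N

theorem sf_all (n : ℕ) : SF.{u} n := by
  induction n using Nat.strong_induction_on with
  | _ n ih => exact sf_qf ih

/-- The statement at rational points. -/
theorem flat_of_sep_rational {A : Type u} [CommRing A] [HenselianLocalRing A] {C : Type u} [CommRing C] [Algebra A C]
    [Algebra.FiniteType A C] (z : Ideal C) [z.IsPrime]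
    (hz : (IsLocalRing.maximalIdeal A).map (algebraMap A C) ≤ z) (hrat : ∀ c : C, ∃ a : A, c - algebraMap A C a ∈ z)
    (Cz : Type u) [CommRing Cz] [Algebra C Cz] [Algebra A Cz] [IsScalarTower A C Cz] [IsLocalization.AtPrime Cz z]
    (N : Type u) [AddCommGroup N] [Module Cz N] [Module A N] [IsScalarTower A Cz N] [Module.Finite Cz N]
    (hN : Sep A N) : Module.Flat A N := by
  obtain ⟨n, π, hπ⟩ := Algebra.FiniteType.iff_quotient_mvPolynomial''.mp (inferInstance : Algebra.FiniteType A C)
  choose a ha using fun i => hrat (π (X i))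
  let φ : MvPolynomial (Fin n) A →ₐ[A] C := aeval fun i => π (X i) - algebraMap A C (a i)
  have hφ : Function.Surjective φ := fun c => by
    obtain ⟨p, rfl⟩ := hπ c
    have h : φ.comp (aeval fun i => (X i : MvPolynomial (Fin n) A) + MvPolynomial.C (a i)) = π :=
      MvPolynomial.algHom_ext fun i => by simp [φ]
    exact ⟨_, AlgHom.congr_fun h p⟩
  letI : Algebra (MvPolynomial (Fin n) A) C := φ.toRingHom.toAlgebra
  haveI : IsScalarTower A (MvPolynomial (Fin n) A) C := IsScalarTower.of_algebraMap_eq fun b => (φ.commutes b).symm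
  haveI : Module.Finite (MvPolynomial (Fin n) A) C := Module.Finite.of_surjective (Algebra.linearMap _ C) hφ
  haveI : Algebra.QuasiFinite (MvPolynomial (Fin n) A) C := inferInstance
  refine sf_all n A C z hz hrat (fun i => ?_) inferInstance Cz N hN
  show φ (X i) ∈ z
  simpa [φ] using ha i

end Groth.Agent.HP.Sep
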