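import Groth.Agent.HP.Points
import Mathlib.RingTheory.Finiteness.ModuleFinitePresentation

/-!
The algebra form: flat and finitely presented near a point after an étale localization.
-/

set_option autoImplicit false

universe u

open TensorProduct

attribute [local instance] Algebra.TensorProduct.rightAlgebra

namespace Groth.Agent.HP

set_option maxHeartbeats 1600000 in
theorem exists_nhd_algebra {R S : Type u} [CommRing R] [CommRing S] [Algebra R S] [Algebra.FiniteType R S]
    (p : Ideal R) [p.IsPrime] (q : Ideal S) [q.IsPrime] [q.LiesOver p]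
    (hflat : Module.Flat R (Localization.AtPrime q)) :
    ∃ (R' : Type u) (_ : CommRing R') (_ : Algebra R R') (p' : Ideal R') (_ : p'.IsPrime), FlatCA.IsEtaleNhd R R' p p' ∧
      ∀ (SA : Type u) [CommRing SA] [Algebra R SA] [Algebra S SA] [Algebra (Localization.AtPrime p') SA]
        [IsScalarTower R S SA] [IsScalarTower R (Localization.AtPrime p') SA]
        [Algebra.IsPushout R S (Localization.AtPrime p') SA],
        ∃ g : SA, (∀ (Q : Ideal SA) [Q.IsPrime], Q.LiesOver q → Q.LiesOver (IsLocalRing.maximalIdeal (Localization.AtPrime p')) → g ∉ Q) ∧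
          Module.Flat (Localization.AtPrime p') (Localization.Away g) ∧
          Algebra.FinitePresentation (Localization.AtPrime p') (Localization.Away g) := by
  obtain ⟨n, π, hπ⟩ := Algebra.FiniteType.iff_quotient_mvPolynomial''.mp (inferInstance : Algebra.FiniteType R S)
  let P := MvPolynomial (Fin n) R
  letI : Algebra P S := π.toRingHom.toAlgebra
  haveI : IsScalarTower R P S := IsScalarTower.of_algebraMap_eq fun a => (π.commutes a).symm
  haveI : Module.Finite P S := Module.Finite.of_surjective (Algebra.linearMap P S) hπ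
  let qP : Ideal P := q.comap (algebraMap P S)
  haveI : qP.IsPrime := Ideal.comap_isPrime _ _
  haveI : qP.LiesOver p := ⟨by rw [q.over_def p, Ideal.under_def, Ideal.under_def, Ideal.comap_comap, ← IsScalarTower.algebraMap_eq]⟩
  have hflatP : FlatCA.FlatAt R qP S := by
    refine (RGFlat.flatAt_comap_iff (P := P) (S := S) (M := S) hπ q).mpr ?_
    exact hflat
  obtain ⟨R', _, _, p', _, hnhd, h⟩ := exists_nhd_point_fp p (S := P) S qP hflatP
  refine ⟨R', _, _, p', inferInstance, hnhd, ?_⟩
  intro SA _ _ _ _ _ _ _
  let A := Localization.AtPrime p'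
  let PA := A ⊗[R] P
  letI : Algebra P SA := ((algebraMap S SA).comp (algebraMap P S)).toAlgebra
  haveI : IsScalarTower P S SA := IsScalarTower.of_algebraMap_eq' rfl
  haveI : IsScalarTower R P SA := IsScalarTower.of_algebraMap_eq fun a => by
    rw [IsScalarTower.algebraMap_apply R S SA, IsScalarTower.algebraMap_apply R P S, ← IsScalarTower.algebraMap_apply P S SA]
  haveI : IsScalarTower R P PA := IsScalarTower.of_algebraMap_eq fun a => by
    show algebraMap R A a ⊗ₜ[R] (1 : P) = (1 : A) ⊗ₜ[R] algebraMap R P a
    rw [Algebra.algebraMap_eq_smul_one, Algebra.algebraMap_eq_smul_one, TensorProduct.smul_tmul]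
  haveI : Algebra.IsPushout R P A PA := Algebra.IsPushout.symm inferInstance
  let ψ : PA →ₐ[R] SA := Algebra.TensorProduct.lift (IsScalarTower.toAlgHom R A SA) (IsScalarTower.toAlgHom R P SA)
    fun _ _ => Commute.all _ _
  letI : Algebra PA SA := ψ.toRingHom.toAlgebra
  haveI : IsScalarTower P PA SA := IsScalarTower.of_algebraMap_eq fun b => by
    show algebraMap P SA b = ψ ((1 : A) ⊗ₜ b)
    rw [Algebra.TensorProduct.lift_tmul, map_one, one_mul, IsScalarTower.coe_toAlgHom']
  haveI : IsScalarTower A PA SA := IsScalarTower.of_algebraMap_eq fun b => by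
    show algebraMap A SA b = ψ (b ⊗ₜ (1 : P))
    rw [Algebra.TensorProduct.lift_tmul, map_one, mul_one, IsScalarTower.coe_toAlgHom']
  haveI : Algebra.IsPushout P PA S SA := (Algebra.IsPushout.comp_iff R P A PA (T := S) (T' := SA)).mp
    inferInstance |> Algebra.IsPushout.symm
  have hbc : IsBaseChange PA (IsScalarTower.toAlgHom P S SA).toLinearMap :=
    (Algebra.IsPushout.out : IsBaseChange PA _)
  obtain ⟨g, -, hg, hfp, hfree⟩ := h PA SA _ hbc
  let g' := algebraMap PA SA g
  have hsurj : Function.Surjective (algebraMap PA SA) := fun c => by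
    induction c using (Algebra.IsPushout.out (R := R) (S := S) (R' := A) (S' := SA)).inductionOn with
    | zero => exact ⟨0, map_zero _⟩
    | tmul a =>
      refine ⟨a ⊗ₜ 1, ?_⟩
      show ψ (a ⊗ₜ (1 : P)) = _
      rw [Algebra.TensorProduct.lift_tmul, map_one, mul_one]
      rfl
    | smul s a ha =>
      obtain ⟨a, rfl⟩ := ha
      obtain ⟨b, rfl⟩ := hπ s
      refine ⟨((1 : A) ⊗ₜ b) * a, ?_⟩
      rw [map_mul, Algebra.smul_def]
      congr 1
      show ψ _ = _
      rw [Algebra.TensorProduct.lift_tmul, map_one, one_mul]
      rfl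
    | add a b ha hb =>
      obtain ⟨a, rfl⟩ := ha
      obtain ⟨b, rfl⟩ := hb
      exact ⟨a + b, map_add _ _ _⟩
  refine ⟨g', fun Q _ hQq hQm => ?_, ?_⟩
  · haveI := hQq
    haveI := hQm
    haveI : (Q.comap (algebraMap PA SA)).IsPrime := Ideal.comap_isPrime _ _
    refine fun hgQ => hg (Q.comap (algebraMap PA SA)) ⟨?_⟩ ⟨?_⟩ hgQ
    · show q.comap (algebraMap P S) = (Q.comap (algebraMap PA SA)).comap (algebraMap P PA)
      rw [Q.over_def q, Ideal.under_def, Ideal.comap_comap, Ideal.comap_comap, ← IsScalarTower.algebraMap_eq,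
        ← IsScalarTower.algebraMap_eq]
    · rw [Ideal.under_def, Ideal.comap_comap, ← IsScalarTower.algebraMap_eq]
      exact Q.over_def _
  let S' := Localization.Away g'
  let Pg := Localization.Away g
  haveI := RGFlat.isLocalizedModule_away_restrict (P := PA) (S := SA) (M := SA) g
  let φ : Pg →ₐ[PA] S' := IsLocalization.liftAlgHom (M := Submonoid.powers g) (f := Algebra.ofId PA S') (by
    rintro ⟨_, k, rfl⟩
    rw [map_pow, Algebra.ofId_apply, IsScalarTower.algebraMap_apply PA SA S']
    exact (IsLocalization.Away.algebraMap_isUnit (S := S') g').pow k)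
  letI : Algebra Pg S' := φ.toRingHom.toAlgebra
  haveI : IsScalarTower PA Pg S' := IsScalarTower.of_algebraMap_eq fun b => (φ.commutes b).symm
  haveI : IsScalarTower A Pg S' := IsScalarTower.of_algebraMap_eq fun a => by
    rw [IsScalarTower.algebraMap_apply A PA Pg, ← IsScalarTower.algebraMap_apply PA Pg S',
      IsScalarTower.algebraMap_apply A SA S', IsScalarTower.algebraMap_apply A PA SA,
      ← IsScalarTower.algebraMap_apply PA SA S']
  let lin : SA →ₗ[PA] S' := (IsScalarTower.toAlgHom PA SA S').toLinearMap
  haveI : IsLocalizedModule (Submonoid.powers g) lin := by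
    haveI : IsLocalization (Submonoid.powers g') S' := inferInstance
    exact FlatOpen.isLocalizedModule_restrict (Submonoid.powers g) (Submonoid.powers g') (Submonoid.map_powers _ g).symm
      (Algebra.linearMap SA S')
  let e := IsLocalizedModule.iso (Submonoid.powers g) lin
  constructor
  · haveI := hfree
    haveI : Module.Free A S' := Module.Free.of_equiv (e.restrictScalars A)
    infer_instance
  · let eP : LocalizedModule (Submonoid.powers g) SA ≃ₗ[Pg] S' :=
      LinearEquiv.ofBijective (e.toLinearMap.extendScalarsOfIsLocalization (Submonoid.powers g) Pg) e.bijective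
    haveI := hfp
    haveI : Module.FinitePresentation Pg S' := Module.FinitePresentation.of_equiv eP
    haveI : Algebra.FinitePresentation Pg S' := inferInstance
    haveI : Algebra.FinitePresentation A PA := inferInstance
    haveI : Algebra.FinitePresentation PA Pg := IsLocalization.Away.finitePresentation g
    haveI : Algebra.FinitePresentation A Pg := Algebra.FinitePresentation.trans A PA Pg
    exact Algebra.FinitePresentation.trans A Pg S'

end Groth.Agent.HP
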