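import Groth.Agent.RGFlat.WeakAssTensor
import Groth.Agent.SecComp.FlatNbhd
import Groth.Agent.GrpdLib.SepDense
import Groth.Agent.EGA4Lib.SmoothRegular
import Groth.Agent.CycCover.Regular

/-!
Smooth algebras with a section over a local ring: near the section every associated point of a
fibre lies below the closed point of the section.
-/

set_option autoImplicit false

universe u

open TensorProduct AlgebraicGeometry CategoryTheory

attribute [local instance] Algebra.TensorProduct.rightAlgebra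

namespace Groth.Agent.HP

/-- In a smooth algebra over a field the prime below a point is unique among the associated primes. -/
theorem eq_of_le_of_le {K B : Type u} [Field K] [CommRing B] [Algebra K B] [Algebra.Smooth K B]
    (P₁ P₂ : Ideal B) (h₁ : P₁ ∈ minimalPrimes B) (h₂ : P₂ ∈ minimalPrimes B) (M : Ideal B) [M.IsPrime]
    (l₁ : P₁ ≤ M) (l₂ : P₂ ≤ M) : P₁ = P₂ := by
  haveI : IsNoetherianRing B := Algebra.FiniteType.isNoetherianRing K B
  haveI : IsRegularLocalRing (Localization.AtPrime M) :=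
    EGA4Lib.mem_regLocus_of_smooth (R := K) ⟨M, inferInstance⟩
      (show IsRegularLocalRing (Localization.AtPrime _) from inferInstance)
  haveI := RegLoc.isDomain (Localization.AtPrime M)
  let K0 : Ideal B := RingHom.ker (algebraMap B (Localization.AtPrime M))
  haveI : K0.IsPrime := RingHom.ker_isPrime _
  have key : ∀ P : Ideal B, P ∈ minimalPrimes B → P ≤ M → P = K0 := fun P hP hPM => by
    haveI : P.IsPrime := hP.1.1
    have hle : K0 ≤ P := fun a ha => by
      obtain ⟨⟨s, hs⟩, hsa⟩ := (IsLocalization.map_eq_zero_iff M.primeCompl _ a).mp ha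
      exact ((inferInstance : P.IsPrime).mem_or_mem (show s * a ∈ P by rw [hsa]; exact zero_mem _)).resolve_left
        fun h => hs (hPM h)
    exact le_antisymm (hP.2 ⟨inferInstance, bot_le⟩ hle) hle
  rw [key P₁ h₁ l₁, key P₂ h₂ l₂]

variable {A : Type u} [CommRing A] [IsLocalRing A] {E : Type u} [CommRing E] [Algebra A E] [Algebra.Smooth A E]

/-- Near a section of a smooth algebra, the associated points of the fibres are below the closed point. -/
theorem exists_nbhd_relAss_le (ε : E →ₐ[A] A) (y : Ideal E) (hy : y = (IsLocalRing.maximalIdeal A).comap ε) :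
    ∃ h : E, h ∉ y ∧ ∀ (p : Ideal A) (Q : Ideal E) [p.IsPrime] [Q.IsPrime] [Q.LiesOver p],
      h ∉ Q → FlatCA.fiberIdeal p Q ∈ associatedPrimes (p.Fiber E) (FlatCA.fiberMod p E E) → Q ≤ y := by
  classical
  let f : Spec (CommRingCat.of E) ⟶ Spec (CommRingCat.of A) := Spec.map (CommRingCat.ofHom (algebraMap A E))
  let s : Spec (CommRingCat.of A) ⟶ Spec (CommRingCat.of E) := Spec.map (CommRingCat.ofHom ε.toRingHom)
  have hs : s ≫ f = 𝟙 _ := by
    rw [← Spec.map_comp, ← Spec.map_id]
    congr 1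
    ext a
    exact ε.commutes a
  haveI : Smooth f := (HasRingHomProperty.Spec_iff (P := @Smooth)).mpr
    (RingHom.smooth_algebraMap.mpr inferInstance)
  let c : ↥(Spec (CommRingCat.of A)) := IsLocalRing.closedPoint A
  haveI : Smooth (f.fiberToSpecResidueField c) := MorphismProperty.pullback_snd _ _ inferInstance
  haveI : GeometricallyReduced (f.fiberToSpecResidueField c) :=
    GrpdLib.SepDense.geometricallyReduced_of_smooth _
  have hint := SecComp.component_subset_interior_fp f s hs c fun x hx => by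
    have hxy : f x = c := connectedComponentIn_subset (f ⁻¹' {c}) _ hx
    refine SecComp.isGeomReducedAt_of_fiber f x hxy fun x' _ => ?_
    exact SecComp.isGeomReducedAt_of_geometricallyReduced (k := (Spec (CommRingCat.of A)).residueField c) _ x'
  have hsc : f (s c) = c := by rw [← Scheme.Hom.comp_apply, hs]; rfl
  have hmem : s c ∈ interior (MoreMor.sectionComponents f s) :=
    hint (mem_connectedComponentIn hsc)
  obtain ⟨_, ⟨h, rfl⟩, hch, hsub⟩ :=
    PrimeSpectrum.isTopologicalBasis_basic_opens.exists_subset_of_mem_open hmem isOpen_interior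
  have hsy : (s c).asIdeal = y := by rw [hy]; rfl
  refine ⟨h, fun hh => hch (hsy.symm ▸ hh), fun p Q _ _ _ hhQ hass => ?_⟩
  let pp : PrimeSpectrum A := ⟨p, inferInstance⟩
  let QQ : PrimeSpectrum E := ⟨Q, inferInstance⟩
  have hQsc : QQ ∈ MoreMor.sectionComponents f s := interior_subset (hsub hhQ)
  have hfQ : f QQ = pp := PrimeSpectrum.ext (Q.over_def p).symm
  let S0 : Set (PrimeSpectrum E) := PrimeSpectrum.comap (algebraMap A E) ⁻¹' {pp}
  have hQ : (QQ : PrimeSpectrum E) ∈ S0 := hfQ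
  have hσ : (PrimeSpectrum.comap ε.toRingHom pp) ∈ S0 := by
    show PrimeSpectrum.comap (algebraMap A E) (PrimeSpectrum.comap ε.toRingHom pp) = pp
    rw [← PrimeSpectrum.comap_comp_apply, show ε.toRingHom.comp (algebraMap A E) = RingHom.id A from
      RingHom.ext ε.commutes, PrimeSpectrum.comap_id]
  have hconn : (QQ : PrimeSpectrum E) ∈ connectedComponentIn S0 (PrimeSpectrum.comap ε.toRingHom pp) := by
    have h1 : QQ ∈ connectedComponentIn (f ⁻¹' {f QQ}) (s (f QQ)) := hQsc
    rw [hfQ] at h1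
    exact h1
  let B := p.Fiber E
  haveI : Algebra.Smooth p.ResidueField B := inferInstance
  haveI : IsNoetherianRing B := Algebra.FiniteType.isNoetherianRing p.ResidueField B
  haveI : IsRegularRing B := (isRegularRing_iff (R := B)).2 fun M hM =>
    EGA4Lib.mem_regLocus_of_smooth (R := p.ResidueField) ⟨M, hM⟩
      (show IsRegularLocalRing (Localization.AtPrime _) from inferInstance)
  haveI : IsReduced B := CycCover.isReduced_of_isRegularRing
  let φ := PrimeSpectrum.preimageHomeomorphFiber A E pp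
  have hφ : ∀ (P : S0), (φ P).asIdeal.comap Algebra.TensorProduct.includeRight.toRingHom = P.1.asIdeal := fun P => by
    have := congrArg (fun z => (z : S0).1.asIdeal) (φ.symm_apply_apply P)
    exact this
  haveI hqB : (FlatCA.fiberIdeal p Q).IsPrime := hass.1
  have hmin : FlatCA.fiberIdeal p Q ∈ minimalPrimes B := by
    let e : FlatCA.fiberMod p E E ≃ₗ[B] B := AlgebraTensorModule.rid E B B
    have h1 : FlatCA.fiberIdeal p Q ∈ associatedPrimes B B := by rwa [← LinearEquiv.AssociatedPrimes.eq e]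
    rw [← WeakAss.weakAss_self_of_isReduced]
    obtain ⟨-, x, hx⟩ := isAssociatedPrime_iff.mp h1
    refine WeakAss.mem_weakAss_of_mem_ass ⟨hass.1, x, hx.trans ?_⟩
    ext a
    rw [Submodule.mem_colon_singleton, Submodule.mem_bot, WeakAss.mem_ann]
  have hφQ : (φ ⟨QQ, hQ⟩).asIdeal = FlatCA.fiberIdeal p Q := by
    refine le_antisymm ?_ (Ideal.map_le_iff_le_comap.mpr (hφ ⟨QQ, hQ⟩).ge)
    intro b hb
    obtain ⟨r, hr, t, hrt⟩ := Ideal.Fiber.exists_smul_eq_one_tmul p b
    have ht : t ∈ Q := by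
      have h2 := hφ ⟨QQ, hQ⟩
      rw [← show (⟨QQ, hQ⟩ : S0).1.asIdeal = Q from rfl, ← h2, Ideal.mem_comap]
      show (1 : p.ResidueField) ⊗ₜ[A] t ∈ (φ ⟨QQ, hQ⟩).asIdeal
      rw [← hrt, Algebra.smul_def]
      exact Ideal.mul_mem_left _ _ hb
    have h3 : (1 : p.ResidueField) ⊗ₜ[A] t ∈ FlatCA.fiberIdeal p Q := Ideal.mem_map_of_mem _ ht
    rw [← hrt, Algebra.smul_def, IsScalarTower.algebraMap_apply A p.ResidueField B] at h3
    refine (Ideal.unit_mul_mem_iff_mem _ (IsUnit.map _ ?_)).mp h3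
    rw [isUnit_iff_ne_zero, Ne, Ideal.algebraMap_residueField_eq_zero]
    exact hr
  let Z : Set (PrimeSpectrum B) := PrimeSpectrum.zeroLocus (FlatCA.fiberIdeal p Q : Set B)
  have hfin : (minimalPrimes B).Finite := minimalPrimes.finite_of_isNoetherianRing B
  have hZ : IsClopen Z := by
    refine ⟨PrimeSpectrum.isClosed_zeroLocus _, isClosed_compl_iff.mp ?_⟩
    have hc : Zᶜ = ⋃ P ∈ minimalPrimes B \ {FlatCA.fiberIdeal p Q}, PrimeSpectrum.zeroLocus (P : Set B) := by
      ext M
      simp only [Set.mem_compl_iff, Set.mem_iUnion, Z, PrimeSpectrum.mem_zeroLocus, SetLike.coe_subset_coe]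
      constructor
      · intro hM
        obtain ⟨P, hP, hPM⟩ := Ideal.exists_minimalPrimes_le (bot_le : ⊥ ≤ M.asIdeal)
        exact ⟨P, ⟨hP, fun hPe => hM ((Set.mem_singleton_iff.mp hPe) ▸ hPM)⟩, hPM⟩
      · rintro ⟨P, ⟨hP, hne⟩, hPM⟩ hQM
        exact hne (eq_of_le_of_le (K := p.ResidueField) P _ hP hmin M.asIdeal hPM hQM)
    rw [hc]
    exact (hfin.subset Set.sdiff_subset).isClosed_biUnion fun P _ => PrimeSpectrum.isClosed_zeroLocus _
  let T : Set S0 := φ ⁻¹' Z
  have hT : IsClopen T := hZ.preimage φ.continuous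
  let σ' : S0 := ⟨_, hσ⟩
  have hQσ : (⟨QQ, hQ⟩ : S0) ∈ connectedComponent σ' := by
    rw [connectedComponentIn_eq_image hσ] at hconn
    obtain ⟨z, hz, hzQ⟩ := hconn
    rwa [show (⟨QQ, hQ⟩ : S0) = z from Subtype.ext hzQ.symm]
  have hQT : (⟨QQ, hQ⟩ : S0) ∈ T := by
    show φ ⟨QQ, hQ⟩ ∈ PrimeSpectrum.zeroLocus _
    rw [PrimeSpectrum.mem_zeroLocus, hφQ]
  have hσT : σ' ∈ T := by
    refine hT.connectedComponent_subset hQT ?_
    rw [← connectedComponent_eq hQσ]
    exact mem_connectedComponent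
  have hle : Q ≤ (PrimeSpectrum.comap ε.toRingHom pp).asIdeal := by
    rw [← hφ σ']
    refine le_trans ?_ (Ideal.comap_mono (PrimeSpectrum.mem_zeroLocus _ _ |>.mp hσT))
    exact Ideal.le_comap_map
  rw [hy]
  exact hle.trans (Ideal.comap_mono (IsLocalRing.le_maximalIdeal (Ideal.IsPrime.ne_top inferInstance)))

omit [IsLocalRing A] [Algebra.Smooth A E] in
/-- If the associated points of the fibres in `D(h)` lie below `y`, then `D(h)` sees no more than `y`. -/
theorem eq_zero_nbhd [Algebra.FiniteType A E] {N : Type u} [AddCommGroup N] [Module E N] [Module A N]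
    [IsScalarTower A E N] [Module.Finite E N] (y : Ideal E) [y.IsPrime] (h : E)
    (hflat : ∀ (Q : Ideal E) [Q.IsPrime], h ∉ Q → FlatCA.FlatAt A Q N)
    (hle : ∀ (p : Ideal A) (Q : Ideal E) [p.IsPrime] [Q.IsPrime] [Q.LiesOver p],
      h ∉ Q → FlatCA.fiberIdeal p Q ∈ associatedPrimes (p.Fiber E) (FlatCA.fiberMod p E N) → Q ≤ y)
    (X : Type u) [AddCommGroup X] [Module A X] (x : N ⊗[A] X) (hx : ∃ t ∉ y, t • x = 0) :
    ∃ k : ℕ, h ^ k • x = 0 := by
  obtain ⟨t, ht, htx⟩ := hx
  have : h ∈ ((Submodule.span E {x}).annihilator).radical := by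
    rw [← Ideal.sInf_minimalPrimes, Submodule.mem_sInf]
    intro (Q : Ideal E) hQ
    haveI : Q.IsPrime := hQ.1.1
    by_contra hhQ
    haveI : (Q.comap (algebraMap A E)).IsPrime := Ideal.comap_isPrime _ _
    haveI : Q.LiesOver (Q.comap (algebraMap A E)) := ⟨rfl⟩
    obtain ⟨-, hass⟩ := (RGFlat.mem_weakAss_tensor_iff (M := X) (Q.comap (algebraMap A E)) Q (hflat Q hhQ)).mp ⟨x, hQ⟩
    exact ht (hle (Q.comap (algebraMap A E)) Q hhQ hass (hQ.1.2 (WeakAss.mem_ann.mpr htx)))
  obtain ⟨k, hk⟩ := this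
  exact ⟨k, WeakAss.mem_ann.mp hk⟩

end Groth.Agent.HP
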