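import Groth.Agent.HP.Descend
import Groth.Agent.Hens.GaloisStage
import Groth.Agent.FlatMor.FlatAtBC
import Groth.Agent.MLMod.BaseChange
import Groth.Agent.S6381
import Mathlib.RingTheory.Jacobson.Ring
import Mathlib.RingTheory.Finiteness.ModuleFinitePresentation

/-!
The killing property and the Mittag-Leffler property at closed points of the closed fibre.
-/

set_option autoImplicit false

universe u

open MvPolynomial TensorProduct

attribute [local instance] Algebra.TensorProduct.rightAlgebra

namespace Groth.Agent.HP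

/-- The master statement at rational points. -/
theorem hp_rational {A : Type u} [CommRing A] [HenselianLocalRing A] {C : Type u} [CommRing C] [Algebra A C]
    [Algebra.FiniteType A C] (z : Ideal C) [z.IsPrime]
    (hz : (IsLocalRing.maximalIdeal A).map (algebraMap A C) ≤ z) (hrat : ∀ c : C, ∃ a : A, c - algebraMap A C a ∈ z)
    (N : Type u) [AddCommGroup N] [Module C N] [Module A N] [IsScalarTower A C N] [Module.Finite C N]
    (hN : FlatCA.FlatAt A z N) :
    (∃ g ∉ z, Kill A N z g) ∧ CAlg.IsMittagLeffler A (LocalizedModule z.primeCompl N) := by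
  obtain ⟨n, π, hπ⟩ := Algebra.FiniteType.iff_quotient_mvPolynomial''.mp (inferInstance : Algebra.FiniteType A C)
  choose a ha using fun i => hrat (π (X i))
  let φ : MvPolynomial (Fin n) A →ₐ[A] C := aeval fun i => π (X i) - algebraMap A C (a i)
  have hφ : Function.Surjective φ := fun c => by
    obtain ⟨p, rfl⟩ := hπ c
    have h : φ.comp (aeval fun i => (X i : MvPolynomial (Fin n) A) + MvPolynomial.C (a i)) = π :=
      MvPolynomial.algHom_ext fun i => by simp [φ]
    exact ⟨_, AlgHom.congr_fun h p⟩
  letI : Algebra (MvPolynomial (Fin n) A) C := φ.toRingHom.toAlgebra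
  haveI : IsScalarTower A (MvPolynomial (Fin n) A) C := IsScalarTower.of_algebraMap_eq fun b => (φ.commutes b).symm
  haveI : Module.Finite (MvPolynomial (Fin n) A) C := Module.Finite.of_surjective (Algebra.linearMap _ C) hφ
  haveI : Algebra.QuasiFinite (MvPolynomial (Fin n) A) C := inferInstance
  refine sp_all n A C z hz hrat (fun i => ?_) inferInstance N hN
  show φ (X i) ∈ z
  simpa [φ] using ha i

set_option maxHeartbeats 800000 in
/-- The master statement at closed points of the closed fibre. -/
theorem hp_closed {A : Type u} [CommRing A] [HenselianLocalRing A] {C : Type u} [CommRing C] [Algebra A C]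
    [Algebra.FiniteType A C] (z : Ideal C) [z.IsMaximal]
    (hz : (IsLocalRing.maximalIdeal A).map (algebraMap A C) ≤ z)
    (N : Type u) [AddCommGroup N] [Module C N] [Module A N] [IsScalarTower A C N] [Module.Finite C N]
    (hN : FlatCA.FlatAt A z N) :
    (∃ g ∉ z, Kill A N z g) ∧ CAlg.IsMittagLeffler A (LocalizedModule z.primeCompl N) := by
  let m := IsLocalRing.maximalIdeal A
  haveI : z.LiesOver m := ⟨(IsLocalRing.maximalIdeal.isMaximal A).eq_of_le (Ideal.comap_ne_top _ Ideal.IsPrime.ne_top')
    (Ideal.map_le_iff_le_comap.mp hz)⟩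
  let L := z.ResidueField
  letI : Algebra m.ResidueField L := (Ideal.ResidueField.mapₐ m z (Algebra.ofId A C) (z.over_def m)).toRingHom.toAlgebra
  haveI : IsScalarTower A m.ResidueField L := IsScalarTower.of_algebraMap_eq fun a =>
    ((Ideal.ResidueField.mapₐ m z (Algebra.ofId A C) (z.over_def m)).commutes a).symm
  haveI : Algebra.FiniteType C L :=
    Algebra.FiniteType.of_surjective (Algebra.ofId C L) z.algebraMap_residueField_surjective
  haveI : Algebra.FiniteType A L := Algebra.FiniteType.trans (inferInstance : Algebra.FiniteType A C) inferInstance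
  haveI : Algebra.FiniteType m.ResidueField L := Algebra.FiniteType.of_restrictScalars_finiteType A _ _
  haveI : FiniteDimensional m.ResidueField L := finite_of_finite_type_of_isJacobsonRing _ _
  obtain ⟨A', _, _, _, _, hm', e, he⟩ := S6381.result A m L
  haveI := hm'
  let m' : Ideal A' := m.map (algebraMap A A')
  have hmax : ∀ M : Ideal A', M.IsMaximal → m' ≤ M := fun M hM => by
    haveI : Algebra.IsIntegral A A' := Algebra.IsIntegral.of_finite _ _
    exact Ideal.map_le_iff_le_comap.mpr
      (IsLocalRing.eq_maximalIdeal (Ideal.isMaximal_comap_of_isIntegral_of_isMaximal M)).ge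
  have hm'max : m'.IsMaximal := by
    haveI : Algebra.IsIntegral A A' := Algebra.IsIntegral.of_finite _ _
    refine Ideal.isMaximal_of_isIntegral_of_isMaximal_comap (R := A) m' ?_
    rw [show m'.comap (algebraMap A A') = m from ((IsLocalRing.maximalIdeal.isMaximal A).eq_of_le
      (Ideal.comap_ne_top _ hm'.ne_top) Ideal.le_comap_map).symm]
    infer_instance
  haveI : IsLocalRing A' := IsLocalRing.of_unique_max_ideal
    ⟨m', hm'max, fun M hM => (hm'max.eq_of_le hM.ne_top (hmax M hM)).symm⟩
  have hmA' : IsLocalRing.maximalIdeal A' = m' := (IsLocalRing.eq_maximalIdeal hm'max).symm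
  haveI : HenselianLocalRing A' := Hens.henselianLocalRing_of_finite (A := A) A'
  let f : A' →ₐ[A] L :=
    { toRingHom := e.toRingHom.comp (algebraMap A' m'.ResidueField)
      commutes' := fun a => by
        show e (algebraMap A' m'.ResidueField (algebraMap A A' a)) = _
        rw [← IsScalarTower.algebraMap_apply]
        exact he a }
  have hf : Function.Surjective f := fun x => by
    haveI := hm'max
    obtain ⟨a, ha⟩ := m'.algebraMap_residueField_surjective (e.symm x)
    exact ⟨a, show e _ = x by rw [ha, e.apply_symm_apply]⟩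
  let T := A' ⊗[A] C
  let l : T →ₐ[A] L := Algebra.TensorProduct.lift f (IsScalarTower.toAlgHom A C L) fun _ _ => Commute.all _ _
  have hl : ∀ (a : A') (c : C), l (a ⊗ₜ c) = f a * algebraMap C L c := fun a c =>
    Algebra.TensorProduct.lift_tmul _ _ _ a c
  let z' : Ideal T := RingHom.ker l
  haveI : z'.IsPrime := RingHom.ker_isPrime _
  haveI : z'.LiesOver z := ⟨by
    ext c
    show c ∈ z ↔ l ((1 : A') ⊗ₜ c) = 0
    rw [hl, map_one, one_mul, Ideal.algebraMap_residueField_eq_zero]⟩
  haveI : IsScalarTower A C T := IsScalarTower.of_algebraMap_eq fun a => by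
    show algebraMap A A' a ⊗ₜ[A] (1 : C) = (1 : A') ⊗ₜ[A] algebraMap A C a
    rw [Algebra.algebraMap_eq_smul_one, Algebra.algebraMap_eq_smul_one, TensorProduct.smul_tmul]
  haveI : Module.Flat C T := by
    haveI : Algebra.IsPushout A C A' T := Algebra.IsPushout.symm inferInstance
    exact Module.Flat.isBaseChange A C A' T (Algebra.IsPushout.out (R := A) (S := C) (R' := A') (S' := T))
  haveI : Module.FinitePresentation A A' := Module.finitePresentation_of_projective _ _
  haveI : Algebra.FinitePresentation A A' := inferInstance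
  haveI : Algebra.FinitePresentation C T := Algebra.FinitePresentation.equiv
    (AlgEquiv.ofRingEquiv (f := (Algebra.TensorProduct.comm A C A').toRingEquiv) fun c => rfl :
      C ⊗[A] A' ≃ₐ[C] T)
  have hz' : (IsLocalRing.maximalIdeal A').map (algebraMap A' T) ≤ z' := by
    rw [hmA', Ideal.map_le_iff_le_comap]
    intro a ha
    show l (a ⊗ₜ (1 : C)) = 0
    rw [hl, map_one, mul_one]
    show e (algebraMap A' m'.ResidueField a) = 0
    rw [Ideal.algebraMap_residueField_eq_zero.mpr ha, map_zero]
  have hrat : ∀ c : T, ∃ a : A', c - algebraMap A' T a ∈ z' := fun c => by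
    obtain ⟨a, ha⟩ := hf (l c)
    refine ⟨a, show l (c - a ⊗ₜ (1 : C)) = 0 from ?_⟩
    rw [map_sub, hl, map_one, mul_one, ha, sub_self]
  haveI : Algebra.IsPushout A C A' T := Algebra.IsPushout.symm inferInstance
  have hflat : FlatCA.FlatAt A' z' (T ⊗[C] N) :=
    FlatMor.FlatAtBC.flatAt_of_baseChange (R := A) (S := C) (R' := A') (S' := T) (TensorProduct.mk C T N 1)
      (TensorProduct.isBaseChange C N T) z z' (z'.over_def z).symm hN
  obtain ⟨⟨g', hg', hK⟩, hML⟩ := hp_rational z' hz' hrat (T ⊗[C] N) hflat
  refine ⟨?_, isMittagLeffler_of_tensor z z' (LocalizedModule.mkLinearMap z'.primeCompl (T ⊗[C] N))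
    (MLMod.isMittagLeffler_restrictScalars_of_fp (R := A) (S := A') hML)⟩
  obtain ⟨g, hg, hcov⟩ := exists_subset_image z z' hg'
  refine ⟨g, hg, kill_of_cover z g g' hcov fun M _ _ x ⟨t, ht, htx⟩ => ?_⟩
  let c1 := AlgebraTensorModule.cancelBaseChange A A' T (T ⊗[C] N) M
  let a1 := AlgebraTensorModule.assoc A C T T N M
  obtain ⟨k, hk⟩ := hK (A' ⊗[A] M) ((c1.trans a1).symm ((1 : T) ⊗ₜ[C] x))
    ⟨algebraMap C T t, fun h => ht ((z'.over_def z).ge h), by
      rw [← map_smul, IsScalarTower.algebraMap_smul, ← TensorProduct.tmul_smul, htx, TensorProduct.tmul_zero, map_zero]⟩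
  refine ⟨k, (c1.trans a1).symm.injective ?_⟩
  rw [map_smul, map_zero]
  exact hk

end Groth.Agent.HP
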