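import Groth.Agent.HP.Main
import Groth.Agent.ProjDesc.Basic
import Groth.Agent.S0582

/-!
Flatness, projectivity and freeness on the neighbourhood given by the master theorem.
-/

set_option autoImplicit false

universe u

open TensorProduct MvPolynomial

attribute [local instance] Algebra.TensorProduct.rightAlgebra

namespace Groth.Agent.HP

variable {A : Type u} [CommRing A] {C : Type u} [CommRing C] [Algebra A C]
  {N : Type u} [AddCommGroup N] [Module C N] [Module A N] [IsScalarTower A C N]

/-- A finite module over a finite type algebra is countably generated over the base. -/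
theorem countablyGenerated_of_finite [Algebra.FiniteType A C] [Module.Finite C N] :
    CAlg.IsCountablyGenerated A N := by
  obtain ⟨n, π, hπ⟩ := Algebra.FiniteType.iff_quotient_mvPolynomial''.mp (inferInstance : Algebra.FiniteType A C)
  obtain ⟨r, g, hg⟩ := Module.Finite.exists_fin (R := C) (M := N)
  let e : (Fin n →₀ ℕ) × Fin r → N := fun x => π (monomial x.1 1) • g x.2
  refine ⟨Set.range e, Set.countable_range e, eq_top_iff.mpr fun v _ => ?_⟩
  obtain ⟨c, rfl⟩ := (Submodule.mem_span_range_iff_exists_fun C).mp (hg.symm ▸ Submodule.mem_top : v ∈ Submodule.span C (Set.range g))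
  refine Submodule.sum_mem _ fun i _ => ?_
  obtain ⟨p, hp⟩ := hπ (c i)
  rw [← hp]
  clear hp
  induction p using MvPolynomial.induction_on' with
  | monomial ν a =>
    rw [show monomial ν a = a • monomial ν (1 : A) by rw [MvPolynomial.smul_monomial, smul_eq_mul, mul_one],
      map_smul, smul_assoc]
    exact Submodule.smul_mem _ a (Submodule.subset_span ⟨(ν, i), rfl⟩)
  | add p₁ p₂ h₁ h₂ => rw [map_add, add_smul]; exact add_mem h₁ h₂

theorem Kill.congr {N' : Type u} [AddCommGroup N'] [Module C N'] [Module A N'] [IsScalarTower A C N']
    (e : N ≃ₗ[C] N') {z : Ideal C} {g : C} (h : Kill A N z g) : Kill A N' z g := fun X _ _ x ⟨t, ht, htx⟩ => by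
  let eX := AlgebraTensorModule.congr e (LinearEquiv.refl A X)
  obtain ⟨k, hk⟩ := h X (eX.symm x) ⟨t, ht, by rw [← map_smul, htx, map_zero]⟩
  exact ⟨k, eX.symm.injective (by rw [map_smul, hk, map_zero])⟩

theorem countablyGenerated_away [Algebra.FiniteType A C] [Module.Finite C N] (g : C) :
    CAlg.IsCountablyGenerated A (LocalizedModule (Submonoid.powers g) N) := by
  haveI : Module.Finite (Localization.Away g) (LocalizedModule (Submonoid.powers g) N) :=
    Module.Finite.of_isLocalizedModule (Submonoid.powers g) (LocalizedModule.mkLinearMap _ N)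
  haveI : Algebra.FiniteType C (Localization.Away g) := IsLocalization.finiteType_of_monoid_fg (Submonoid.powers g) _
  haveI : Algebra.FiniteType A (Localization.Away g) :=
    Algebra.FiniteType.trans (inferInstance : Algebra.FiniteType A C) inferInstance
  haveI : IsScalarTower A (Localization.Away g) (LocalizedModule (Submonoid.powers g) N) :=
    IsScalarTower.of_algebraMap_smul fun a x => by
      rw [IsScalarTower.algebraMap_apply A C (Localization.Away g), IsScalarTower.algebraMap_smul,
        IsScalarTower.algebraMap_smul]
  exact countablyGenerated_of_finite (C := Localization.Away g)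

theorem Kill.projective [Algebra.FiniteType A C] [Module.Finite C N] {q : Ideal C} [q.IsPrime] {g : C} (hg : g ∉ q)
    (h : Kill A N q g) (hf : FlatCA.FlatAt A q N) (hML : CAlg.IsMittagLeffler A (LocalizedModule q.primeCompl N)) :
    Module.Projective A (LocalizedModule (Submonoid.powers g) N) := by
  haveI := h.flat hg hf
  obtain ⟨j, hj⟩ := h.univInj hg
  exact ProjDesc.projective_of_countable A _ (MLMod.isMittagLeffler_of_universallyInjective j hj hML)
    (countablyGenerated_away g)

/-- The neighbourhood form of the master theorem. -/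
theorem exists_nbhd {A : Type u} [CommRing A] [HenselianLocalRing A] {C : Type u} [CommRing C] [Algebra A C]
    [Algebra.FiniteType A C] (q : Ideal C) [q.IsPrime] [q.LiesOver (IsLocalRing.maximalIdeal A)]
    (N : Type u) [AddCommGroup N] [Module C N] [Module A N] [IsScalarTower A C N] [Module.Finite C N]
    (hN : FlatCA.FlatAt A q N) :
    ∃ g ∉ q, Kill A N q g ∧ ∀ v ∉ q, Module.Projective A (LocalizedModule (Submonoid.powers (g * v)) N) := by
  obtain ⟨⟨g, hg, hK⟩, hML⟩ := hp_main q N hN
  exact ⟨g, hg, hK, fun v hv => (hK.mul v).projective (q.primeCompl.mul_mem hg hv) hN hML⟩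

end Groth.Agent.HP
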