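import Groth.Agent.HP.Section
import Groth.Agent.Hensel.Local
import Mathlib.RingTheory.Etale.QuasiFinite

/-!
Descent from the section case to rational quasi-finite points over a henselian base.
-/

set_option autoImplicit false

universe u

open MvPolynomial TensorProduct

attribute [local instance] MvPolynomial.algebraMvPolynomial Algebra.TensorProduct.rightAlgebra

namespace Groth.Agent.HP

/-- A localization of a module over a finite algebra with a single prime over `y`. -/
theorem isLocalizedModule_of_unique {E T : Type u} [CommRing E] [CommRing T] [Algebra E T] (y : Ideal E) [y.IsPrime]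
    (P : Ideal T) [P.IsPrime] (hP : P.comap (algebraMap E T) = y)
    (hdiv : ∀ v ∉ P, ∃ w : T, ∃ c ∉ y, v * w = algebraMap E T c)
    (G : Type u) [AddCommGroup G] [Module T G] [Module E G] [IsScalarTower E T G] :
    IsLocalizedModule y.primeCompl ((LocalizedModule.mkLinearMap P.primeCompl G).restrictScalars E) := by
  let f := LocalizedModule.mkLinearMap P.primeCompl G
  have hc : ∀ c : y.primeCompl, algebraMap E T c ∈ P.primeCompl := fun c h => c.2 (hP.le h)
  refine ⟨fun c => ?_, fun x => ?_, fun {a b} hab => ?_⟩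
  · have h := IsLocalizedModule.map_units f (⟨_, hc c⟩ : P.primeCompl)
    rw [Module.End.isUnit_iff] at h ⊢
    convert h using 1
    funext x
    simp only [Module.algebraMap_end_apply]
    exact (IsScalarTower.algebraMap_smul T (c : E) x).symm
  · obtain ⟨⟨g, v⟩, hv⟩ := IsLocalizedModule.surj P.primeCompl f x
    obtain ⟨w, c, hc', hvw⟩ := hdiv v v.2
    refine ⟨⟨w • g, ⟨c, hc'⟩⟩, ?_⟩
    show c • x = f (w • g)
    rw [map_smul, ← hv, Submonoid.smul_def, ← IsScalarTower.algebraMap_smul T c x, ← hvw, mul_comm, mul_smul]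
  · obtain ⟨v, hv⟩ := IsLocalizedModule.exists_of_eq (S := P.primeCompl) (f := f) hab
    obtain ⟨w, c, hc', hvw⟩ := hdiv v v.2
    refine ⟨⟨c, hc'⟩, ?_⟩
    show c • a = c • b
    rw [← IsScalarTower.algebraMap_smul T c a, ← IsScalarTower.algebraMap_smul T c b, ← hvw, mul_comm, mul_smul,
      mul_smul]
    exact congrArg (w • ·) hv

variable {A C T : Type u} [CommRing A] [CommRing C] [Algebra A C] [CommRing T] [Algebra C T] [Algebra A T]
  [IsScalarTower A C T] [Module.Flat C T]
  {N : Type u} [AddCommGroup N] [Module C N] [Module A N] [IsScalarTower A C N]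

/-- Flatness at a point survives a flat extension. -/
theorem flatAt_tensor (z : Ideal C) [z.IsPrime] (P : Ideal T) [P.IsPrime] [P.LiesOver z]
    (h : FlatCA.FlatAt A z N) : FlatCA.FlatAt A P (T ⊗[C] N) := by
  let Cz := Localization.AtPrime z
  let L := Localization.AtPrime P
  let Nz := LocalizedModule z.primeCompl N
  haveI : Module.Flat A Nz := h
  obtain ⟨g, hg, -⟩ := RGFlat.exists_comap_localRingHom z P (algebraMap C T) (P.over_def z).symm Cz L
  letI : Algebra Cz L := g.toAlgebra
  haveI : IsScalarTower C Cz L := IsScalarTower.of_algebraMap_eq' (by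
    rw [RingHom.algebraMap_toAlgebra, hg, ← IsScalarTower.algebraMap_eq])
  haveI : IsScalarTower A Cz L := IsScalarTower.of_algebraMap_eq fun a => by
    rw [IsScalarTower.algebraMap_apply A C Cz, ← IsScalarTower.algebraMap_apply C Cz L,
      ← IsScalarTower.algebraMap_apply A C L]
  haveI : IsScalarTower A Cz Nz := IsScalarTower.of_algebraMap_smul fun a x => by
    rw [IsScalarTower.algebraMap_apply A C Cz, IsScalarTower.algebraMap_smul, IsScalarTower.algebraMap_smul]
  haveI : Module.Flat T L := IsLocalization.flat L P.primeCompl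
  haveI : Module.Flat C L := Module.Flat.trans C T L
  haveI : Module.Flat Cz L := (Module.flat_iff_of_isLocalization Cz z.primeCompl L).mpr inferInstance
  haveI := RGFlat.flat_tensor A Cz L Nz
  have h1 : IsBaseChange L (LocalizedModule.mkLinearMap P.primeCompl (T ⊗[C] N)) :=
    (isLocalizedModule_iff_isBaseChange P.primeCompl _ _).mp inferInstance
  have h2 : IsBaseChange Cz (LocalizedModule.mkLinearMap z.primeCompl N) :=
    (isLocalizedModule_iff_isBaseChange z.primeCompl _ _).mp inferInstance
  let e : L ⊗[Cz] Nz ≃ₗ[L] LocalizedModule P.primeCompl (T ⊗[C] N) :=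
    ((AlgebraTensorModule.congr (LinearEquiv.refl L L) h2.equiv.symm).trans
      (AlgebraTensorModule.cancelBaseChange C Cz L L N)).trans
      ((AlgebraTensorModule.cancelBaseChange C T L L N).symm.trans h1.equiv)
  exact Module.Flat.of_linearEquiv (e.restrictScalars A).symm

/-- The localization at `z` is Mittag-Leffler when the localization above it is. -/
theorem isMittagLeffler_of_tensor (z : Ideal C) [z.IsPrime] (P : Ideal T) [P.IsPrime] [P.LiesOver z]
    {M : Type u} [AddCommGroup M] [Module T M] [Module C M] [Module A M] [IsScalarTower C T M] [IsScalarTower A C M]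
    (fG : (T ⊗[C] N) →ₗ[T] M) [IsLocalizedModule P.primeCompl fG] (hM : CAlg.IsMittagLeffler A M) :
    CAlg.IsMittagLeffler A (LocalizedModule z.primeCompl N) := by
  haveI : IsScalarTower A T M := IsScalarTower.of_algebraMap_smul fun a x => by
    rw [IsScalarTower.algebraMap_apply A C T, IsScalarTower.algebraMap_smul, IsScalarTower.algebraMap_smul]
  refine isMittagLeffler_localized z.primeCompl ((fG.restrictScalars C).comp (TensorProduct.mk C T N 1))
    (fun s => ?_) (fun X _ _ x hx => ?_) hM
  · have h := IsLocalizedModule.map_units fG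
      (⟨algebraMap C T s, fun h => s.2 ((P.over_def z).ge h)⟩ : P.primeCompl)
    rw [Module.End.isUnit_iff] at h ⊢
    convert h using 1
    funext x
    simp only [Module.algebraMap_end_apply]
    exact (IsScalarTower.algebraMap_smul T (s : C) x).symm
  · let a := AlgebraTensorModule.assoc A C T T N X
    have ha : ∀ x, a (((TensorProduct.mk C T N 1).restrictScalars A).rTensor X x) = (1 : T) ⊗ₜ[C] x := fun x => by
      induction x with
      | zero => simp
      | tmul n e => rfl
      | add u v hu hv => simp only [map_add, TensorProduct.tmul_add, hu, hv]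
    obtain ⟨v, hv⟩ := (rTensor_mk_eq_zero_iff P.primeCompl fG X
      (((TensorProduct.mk C T N 1).restrictScalars A).rTensor X x)).mp (by
        rw [← LinearMap.rTensor_comp_apply]
        exact hx)
    obtain ⟨t, ht, htx⟩ := exists_ann_of_flat z P x v.2 (by rw [← ha, ← map_smul, hv, map_zero])
    exact ⟨t, ht, htx⟩

theorem sp_qf {n : ℕ} (H : ∀ k < n, SP.{u} k) : SP.{u} n := by
  intro A _ _ C _ _ _ z _ hz hrat _ _ hX hqf N _ _ _ _ _ hN
  haveI := hqf
  let P := MvPolynomial (Fin n) A
  haveI : Algebra.FiniteType P C := .of_restrictScalars_finiteType A P C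
  let y0 : Ideal P := z.comap (algebraMap P C)
  haveI : y0.IsPrime := Ideal.comap_isPrime _ _
  haveI : z.LiesOver y0 := ⟨rfl⟩
  obtain ⟨E, _, _, _, y, _, _, e, he, P', _, _, hP'z, heP', hbij, hfin, huniq⟩ :=
    Algebra.exists_etale_isIdempotentElem_forall_liesOver_eq y0 z
  have hy0rat : ∀ p : P, p - algebraMap A P (MvPolynomial.constantCoeff p) ∈ y0 := fun p => by
    refine SetLike.le_def.mp ?_ (RGFlat.sub_C_mem A p)
    rw [show MvPolynomial.idealOfVars (Fin n) A = Ideal.span (Set.range X) from rfl, Ideal.span_le]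
    rintro _ ⟨i, rfl⟩
    exact hX i
  have hy0m : (IsLocalRing.maximalIdeal A).map (algebraMap A P) ≤ y0 := by
    refine Ideal.map_le_iff_le_comap.mpr fun a ha => ?_
    show algebraMap P C (algebraMap A P a) ∈ z
    rw [← IsScalarTower.algebraMap_apply]
    exact hz (Ideal.mem_map_of_mem _ ha)
  haveI : y0.IsMaximal := RGFlat.isMaximal_of_rational y0 hy0m fun p => ⟨_, hy0rat p⟩
  have hy0y : ∀ p ∈ y0, algebraMap P E p ∈ y := fun p hp => (y.over_def y0).le hp
  letI : Algebra A E := ((algebraMap P E).comp (algebraMap A P)).toAlgebra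
  haveI : IsScalarTower A P E := IsScalarTower.of_algebraMap_eq' rfl
  have hym : (IsLocalRing.maximalIdeal A).map (algebraMap A E) ≤ y := by
    refine Ideal.map_le_iff_le_comap.mpr fun a ha => ?_
    exact hy0y _ (hy0m (Ideal.mem_map_of_mem _ ha))
  have hyrat : ∀ v : E, ∃ a : A, v - algebraMap A E a ∈ y := by
    intro v
    obtain ⟨w, hw⟩ := hbij.2 (algebraMap E y.ResidueField v)
    obtain ⟨p, rfl⟩ := y0.algebraMap_residueField_surjective w
    have h1 : v - algebraMap P E p ∈ y := by
      rw [← Ideal.algebraMap_residueField_eq_zero, map_sub, ← hw, ← IsScalarTower.algebraMap_apply,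
        AlgHom.commutes, sub_self]
    refine ⟨MvPolynomial.constantCoeff p, ?_⟩
    have h2 := add_mem h1 (hy0y _ (hy0rat p))
    rwa [map_sub, sub_add_sub_cancel, ← IsScalarTower.algebraMap_apply A P E] at h2
  -- the section
  let m := IsLocalRing.maximalIdeal A
  letI : Field (A ⧸ m) := Ideal.Quotient.field m
  let j : A ⧸ m →ₐ[A] E ⧸ y := Ideal.Quotient.liftₐ m (Algebra.ofId A (E ⧸ y)) fun a ha =>
    Ideal.Quotient.eq_zero_iff_mem.mpr (hym (Ideal.mem_map_of_mem _ ha))
  have hj : Function.Bijective j := by
    refine ⟨RingHom.injective (j : A ⧸ m →+* E ⧸ y), fun v => ?_⟩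
    obtain ⟨v, rfl⟩ := Ideal.Quotient.mk_surjective v
    obtain ⟨a, ha⟩ := hyrat v
    exact ⟨Ideal.Quotient.mk m a, (Ideal.Quotient.eq.mpr ha).symm⟩
  let g : E →ₐ[A] A ⧸ m := (AlgEquiv.ofBijective j hj).symm.toAlgHom.comp (Ideal.Quotient.mkₐ A y)
  have hg : ∀ v, g v = 0 ↔ v ∈ y := fun v => by
    show (AlgEquiv.ofBijective j hj).symm (Ideal.Quotient.mk y v) = 0 ↔ _
    rw [map_eq_zero_iff _ (AlgEquiv.ofBijective j hj).symm.injective, Ideal.Quotient.eq_zero_iff_mem]
  letI : Algebra P A := (MvPolynomial.constantCoeff : P →+* A).toAlgebra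
  haveI : IsScalarTower A P A := IsScalarTower.of_algebraMap_eq fun a => (constantCoeff_C _ a).symm
  have hgP : ∀ p : P, g (algebraMap P E p) = algebraMap P (A ⧸ m) p := fun p => by
    have h : g.comp (IsScalarTower.toAlgHom A P E) = IsScalarTower.toAlgHom A P (A ⧸ m) :=
      MvPolynomial.algHom_ext fun i => by
        show g (algebraMap P E (X i)) = Ideal.Quotient.mk m (MvPolynomial.constantCoeff (X i : P))
        rw [(hg _).mpr (hy0y _ (hX i)), constantCoeff_X, map_zero]
    exact AlgHom.congr_fun h p
  let gP : E →ₐ[P] IsLocalRing.ResidueField A := { toRingHom := g.toRingHom, commutes' := hgP }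
  obtain ⟨f, hf, -⟩ := Hensel.existsUnique_algHom_residue (R := P) (T := A) E gP
  let ε : E →ₐ[A] A := f.restrictScalars A
  have hεX : ∀ i, ε (algebraMap P E (X i)) = 0 := fun i => (f.commutes (X i)).trans (constantCoeff_X (R := A) i)
  have hεy : y = m.comap ε := by
    ext v
    rw [Ideal.mem_comap, ← IsLocalRing.residue_eq_zero_iff, show ε v = f v from rfl, hf, ← hg]
    rfl
  -- the finite part over `E`
  let EC := E ⊗[P] C
  let T := Localization.Away e
  haveI : IsScalarTower A C EC := IsScalarTower.of_algebraMap_eq fun a => by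
    rw [IsScalarTower.algebraMap_apply A P C, ← IsScalarTower.algebraMap_apply P C EC,
      IsScalarTower.algebraMap_apply P E EC, ← IsScalarTower.algebraMap_apply A P E,
      ← IsScalarTower.algebraMap_apply A E EC]
  haveI : IsScalarTower A C T := IsScalarTower.of_algebraMap_eq fun a => by
    rw [IsScalarTower.algebraMap_apply A EC T, IsScalarTower.algebraMap_apply A C EC,
      ← IsScalarTower.algebraMap_apply C EC T]
  haveI : Module.Flat C EC := by
    haveI : Algebra.IsPushout P C E EC := Algebra.IsPushout.symm inferInstance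
    exact Module.Flat.isBaseChange P C E EC (Algebra.IsPushout.out (R := P) (S := C) (R' := E) (S' := EC))
  haveI : Module.Flat EC T := IsLocalization.flat T (Submonoid.powers e)
  haveI : Module.Flat C T := Module.Flat.trans C EC T
  haveI : Algebra.FinitePresentation C EC := Algebra.FinitePresentation.equiv
    (AlgEquiv.ofRingEquiv (f := (Algebra.TensorProduct.comm P C E).toRingEquiv) fun c => rfl :
      C ⊗[P] E ≃ₐ[C] EC)
  haveI : Algebra.FinitePresentation EC T := IsLocalization.Away.finitePresentation e
  haveI : Algebra.FinitePresentation C T := Algebra.FinitePresentation.trans C EC T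
  haveI : Module.Finite E T := hfin
  haveI : Algebra.IsIntegral E T := Algebra.IsIntegral.of_finite _ _
  have hdisj : Disjoint (Submonoid.powers e : Set EC) (P' : Set EC) := by
    refine Set.disjoint_left.mpr ?_
    rintro _ ⟨k, rfl⟩ hk
    exact heP' ((inferInstance : P'.IsPrime).mem_of_pow_mem k hk)
  let P2 : Ideal T := P'.map (algebraMap EC T)
  haveI : P2.IsPrime := IsLocalization.isPrime_of_isPrime_disjoint (Submonoid.powers e) T P' inferInstance hdisj
  have hP2 : P2.comap (algebraMap EC T) = P' :=
    IsLocalization.under_map_of_isPrime_disjoint (Submonoid.powers e) T inferInstance hdisj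
  haveI : P2.LiesOver z := ⟨by
    rw [Ideal.under_def, IsScalarTower.algebraMap_eq C EC T, ← Ideal.comap_comap, hP2]
    exact hP'z.symm⟩
  have hP2y : P2.comap (algebraMap E T) = y := by
    rw [IsScalarTower.algebraMap_eq E EC T, ← Ideal.comap_comap, hP2]
    exact (P'.over_def y).symm
  have hdiv : ∀ v ∉ P2, ∃ w : T, ∃ c ∉ y, v * w = algebraMap E T c := by
    intro v hv
    by_contra hcon
    push Not at hcon
    have hle : (Ideal.span {v}).comap (algebraMap E T) ≤ y := fun c hc => by
      by_contra hcy
      obtain ⟨w, hw⟩ := Ideal.mem_span_singleton.mp (show algebraMap E T c ∈ Ideal.span {v} from hc)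
      exact hcon w c hcy hw.symm
    obtain ⟨M, hvM, hM, hMy⟩ := Ideal.exists_ideal_over_prime_of_isIntegral y _ hle
    have hMP : M.comap (algebraMap EC T) = P' := by
      refine huniq _ (Ideal.comap_isPrime _ _) ⟨?_⟩ fun h => ?_
      · rw [Ideal.under_def, Ideal.comap_comap, ← IsScalarTower.algebraMap_eq]
        exact hMy.symm
      · exact hM.ne_top (M.eq_top_of_isUnit_mem h (IsLocalization.Away.algebraMap_isUnit e))
    refine hv ?_
    show v ∈ P'.map (algebraMap EC T)
    rw [← hMP, IsLocalization.map_under (Submonoid.powers e) T M]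
    exact hvM (Ideal.mem_span_singleton_self v)
  haveI : Module.Finite E (T ⊗[C] N) := Module.Finite.trans T _
  haveI hloc := isLocalizedModule_of_unique y P2 hP2y hdiv (T ⊗[C] N)
  let eloc := (IsLocalizedModule.iso y.primeCompl
    ((LocalizedModule.mkLinearMap P2.primeCompl (T ⊗[C] N)).restrictScalars E)).restrictScalars A
  have hG : FlatCA.FlatAt A y (T ⊗[C] N) := by
    haveI : Module.Flat A (LocalizedModule P2.primeCompl (T ⊗[C] N)) := flatAt_tensor z P2 hN
    exact Module.Flat.of_linearEquiv eloc
  obtain ⟨⟨gE, hgE, hK⟩, hML⟩ := sp_section H ε hεX y hεy (T ⊗[C] N) hG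
  refine ⟨?_, ?_⟩
  · have hgP2 : algebraMap E T gE ∉ P2 := fun h => hgE (hP2y.le h)
    obtain ⟨g0, hg0, hcov⟩ := exists_subset_image z P2 hgP2
    refine ⟨g0, hg0, kill_of_cover z g0 (algebraMap E T gE) hcov fun M _ _ x ⟨t, ht, htx⟩ => ?_⟩
    let a := AlgebraTensorModule.assoc A C T T N M
    let x' := a.symm ((1 : T) ⊗ₜ[C] x)
    have hv : algebraMap C T t ∉ P2 := fun h => ht ((P2.over_def z).ge h)
    obtain ⟨w, c, hc, hvw⟩ := hdiv _ hv
    obtain ⟨k, hk⟩ := hK M x' ⟨c, hc, by
      rw [← IsScalarTower.algebraMap_smul T c x', ← hvw, mul_comm, mul_smul, ← map_smul,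
        IsScalarTower.algebraMap_smul, ← TensorProduct.tmul_smul, htx, TensorProduct.tmul_zero, map_zero, smul_zero]⟩
    refine ⟨k, a.symm.injective ?_⟩
    rw [map_smul, map_zero, ← map_pow, IsScalarTower.algebraMap_smul]
    exact hk
  · haveI : IsScalarTower A C (LocalizedModule P2.primeCompl (T ⊗[C] N)) := inferInstance
    exact isMittagLeffler_of_tensor z P2 (LocalizedModule.mkLinearMap P2.primeCompl (T ⊗[C] N))
      (MLMod.isMittagLeffler_congr (M := LocalizedModule y.primeCompl (T ⊗[C] N))
        (N := LocalizedModule P2.primeCompl (T ⊗[C] N)) eloc hML)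

theorem sp_all (n : ℕ) : SP.{u} n := by
  induction n using Nat.strong_induction_on with
  | _ n ih => exact sp_qf ih

end Groth.Agent.HP
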