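import Groth.Agent.HP.Main

/-!
Flat finite modules over essentially finite type local extensions of henselian rings are Mittag-Leffler.
-/

set_option autoImplicit false

universe u

open TensorProduct

namespace Groth.Agent.HP

theorem exists_model_local {A B : Type u} [CommRing A] [IsLocalRing A] [CommRing B] [IsLocalRing B] [Algebra A B]
    [IsLocalHom (algebraMap A B)] [Algebra.EssFiniteType A B]
    (N : Type u) [AddCommGroup N] [Module B N] [Module A N] [IsScalarTower A B N] [Module.Finite B N] :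
    ∃ (S₀ : Type u) (_ : CommRing S₀) (_ : Algebra A S₀) (q : Ideal S₀) (_ : q.IsPrime)
      (N₀ : Type u) (_ : AddCommGroup N₀) (_ : Module S₀ N₀) (_ : Module A N₀) (_ : IsScalarTower A S₀ N₀),
      Algebra.FiniteType A S₀ ∧ q.LiesOver (IsLocalRing.maximalIdeal A) ∧ Module.Finite S₀ N₀ ∧
        Nonempty (LocalizedModule q.primeCompl N₀ ≃ₗ[A] N) := by
  let S₀ := Algebra.EssFiniteType.subalgebra A B
  let q : Ideal S₀ := (IsLocalRing.maximalIdeal B).comap (algebraMap S₀ B)
  haveI : q.IsPrime := Ideal.comap_isPrime _ _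
  have hq : q.LiesOver (IsLocalRing.maximalIdeal A) := ⟨by
    show IsLocalRing.maximalIdeal A = Ideal.comap (algebraMap A S₀) (Ideal.comap (algebraMap S₀ B) (IsLocalRing.maximalIdeal B))
    rw [Ideal.comap_comap, ← IsScalarTower.algebraMap_eq]
    exact (IsLocalRing.maximalIdeal_comap (algebraMap A B)).symm⟩
  obtain ⟨r, g, hg⟩ := Module.Finite.exists_fin (R := B) (M := N)
  let N₀ := Submodule.span S₀ (Set.range g)
  haveI : Module.Finite S₀ N₀ := Module.Finite.span_of_finite S₀ (Set.finite_range g)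
  let M₀ := Algebra.EssFiniteType.submonoid A B
  have hM₀ : ∀ s ∈ M₀, s ∉ q := fun s hs hsq =>
    IsLocalRing.notMem_maximalIdeal.mpr (IsLocalization.map_units B (⟨s, hs⟩ : M₀)) hsq
  let f : N₀ →ₗ[S₀] N := N₀.subtype
  haveI : IsLocalizedModule q.primeCompl f := by
    refine ⟨fun s => ?_, fun y => ?_, fun {a b} hab => ⟨1, by rw [N₀.injective_subtype hab]⟩⟩
    · obtain ⟨u, hu⟩ : IsUnit (algebraMap S₀ B s) := IsLocalRing.notMem_maximalIdeal.mp s.2
      refine ⟨⟨algebraMap S₀ (Module.End S₀ N) s,
        (LinearMap.lsmul B N (↑u⁻¹ : B)).restrictScalars S₀, ?_, ?_⟩, rfl⟩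
      · ext y
        show (s : S₀) • ((↑u⁻¹ : B) • y) = y
        rw [← IsScalarTower.algebraMap_smul B (s : S₀), ← mul_smul, ← hu, Units.mul_inv, one_smul]
      · ext y
        show (↑u⁻¹ : B) • ((s : S₀) • y) = y
        rw [← IsScalarTower.algebraMap_smul B (s : S₀) y, ← mul_smul, ← hu, Units.inv_mul, one_smul]
    · obtain ⟨c, hc⟩ := (Submodule.mem_span_range_iff_exists_fun B).mp (hg.symm ▸ Submodule.mem_top : y ∈ Submodule.span B (Set.range g))
      obtain ⟨b, hb⟩ := IsLocalization.exist_integer_multiples M₀ Finset.univ c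
      choose a ha using fun i => hb i (Finset.mem_univ i)
      refine ⟨⟨⟨∑ i, a i • g i, Submodule.sum_mem _ fun i _ => Submodule.smul_mem _ _ (Submodule.subset_span ⟨i, rfl⟩)⟩,
        ⟨b, hM₀ b b.2⟩⟩, ?_⟩
      show (b : S₀) • y = ∑ i, a i • g i
      rw [← hc, Finset.smul_sum]
      refine Finset.sum_congr rfl fun i _ => ?_
      rw [← smul_assoc]
      exact (congrArg (fun z : B => z • g i) (ha i).symm).trans (IsScalarTower.algebraMap_smul B (a i) (g i))
  exact ⟨S₀, inferInstance, inferInstance, q, inferInstance, N₀, inferInstance, inferInstance, inferInstance, inferInstance,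
    inferInstance, hq, inferInstance, ⟨(IsLocalizedModule.iso q.primeCompl f).restrictScalars A⟩⟩

theorem isMittagLeffler_of_essFiniteType {A B : Type u} [CommRing A] [HenselianLocalRing A] [CommRing B] [IsLocalRing B]
    [Algebra A B] [IsLocalHom (algebraMap A B)] [Algebra.EssFiniteType A B]
    (N : Type u) [AddCommGroup N] [Module B N] [Module A N] [IsScalarTower A B N] [Module.Finite B N]
    [Module.Flat A N] : CAlg.IsMittagLeffler A N := by
  obtain ⟨S₀, _, _, q, _, N₀, _, _, _, _, _, hq, _, ⟨e⟩⟩ := exists_model_local (A := A) (B := B) N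
  haveI := hq
  exact MLMod.isMittagLeffler_congr e (hp_main q N₀ (Module.Flat.of_linearEquiv e)).2

end Groth.Agent.HP
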