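import Groth.Agent.HP.Closed
import Groth.Agent.Hens.Construction

/-!
The flat locus in a fibre of a finite type algebra is open.
-/

set_option autoImplicit false

universe u

open TensorProduct

namespace Groth.Agent.HP

theorem flatAt_of_flat_away {A C : Type u} [CommRing A] [CommRing C] [Algebra A C] {N : Type u} [AddCommGroup N]
    [Module C N] [Module A N] [IsScalarTower A C N] (g : C)
    (hf : Module.Flat A (LocalizedModule (Submonoid.powers g) N)) (Q : Ideal C) [Q.IsPrime] (hg : g ∉ Q) :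
    FlatCA.FlatAt A Q N := by
  let M := LocalizedModule (Submonoid.powers g) N
  let η : N →ₗ[C] M := LocalizedModule.mkLinearMap (Submonoid.powers g) N
  let ηQ : M →ₗ[C] LocalizedModule Q.primeCompl M := LocalizedModule.mkLinearMap Q.primeCompl M
  have hle : ∀ c : Submonoid.powers g, (c : C) ∈ Q.primeCompl := fun c =>
    (Submonoid.powers_le.mpr (show g ∈ Q.primeCompl from hg)) c.2
  haveI : IsLocalizedModule Q.primeCompl (ηQ.comp η) := by
    refine ⟨fun c => IsLocalizedModule.map_units ηQ c, fun x => ?_, fun {a b} hab => ?_⟩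
    · obtain ⟨⟨v, c⟩, hc⟩ := IsLocalizedModule.surj Q.primeCompl ηQ x
      obtain ⟨⟨n, d⟩, hd⟩ := IsLocalizedModule.surj (Submonoid.powers g) η v
      refine ⟨⟨n, ⟨d, hle d⟩ * c⟩, ?_⟩
      show ((d : C) * (c : C)) • x = ηQ (η n)
      rw [mul_smul, ← Submonoid.smul_def c, hc, ← hd, ← map_smul, Submonoid.smul_def]
    · obtain ⟨c, hc⟩ := IsLocalizedModule.exists_of_eq (S := Q.primeCompl) (f := ηQ) hab
      rw [Submonoid.smul_def, Submonoid.smul_def, ← map_smul, ← map_smul] at hc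
      obtain ⟨d, hd⟩ := IsLocalizedModule.exists_of_eq (S := Submonoid.powers g) (f := η) hc
      refine ⟨⟨d, hle d⟩ * c, ?_⟩
      show ((d : C) * (c : C)) • a = ((d : C) * (c : C)) • b
      rw [mul_smul, mul_smul]
      exact hd
  haveI : Module.Flat A (LocalizedModule Q.primeCompl M) := RGFlat.flatAt_of_flat (R := A) (M := M) Q
  exact Module.Flat.of_linearEquiv ((IsLocalizedModule.iso Q.primeCompl (ηQ.comp η)).restrictScalars A)

/-- An open neighbourhood in a fibre covered by `D(g1)` after extending the residue field. -/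
theorem exists_open_of_field {R S A1 k B K : Type u} [CommRing R] [CommRing S] [CommRing A1] [Field k] [CommRing B]
    [Field K] [Algebra R S] [Algebra R A1] [Algebra R k] [Algebra k B] [Algebra R B] [IsScalarTower R k B]
    [Algebra k K] [Algebra R K] [IsScalarTower R k K]
    (ιS : S →ₐ[R] B) (ψ : A1 →ₐ[R] K) (μ0 : B →ₐ[k] K) (x : PrimeSpectrum B) (hx : x.asIdeal = RingHom.ker μ0)
    (g1 : A1 ⊗[R] S)
    (hg1 : Algebra.TensorProduct.lift ψ ((μ0.restrictScalars R).comp ιS) (fun _ _ => Commute.all _ _) g1 ≠ 0) :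
    ∃ W : Set (PrimeSpectrum B), IsOpen W ∧ x ∈ W ∧ ∀ v ∈ W, ∃ Q1 : Ideal (A1 ⊗[R] S), Q1.IsPrime ∧ g1 ∉ Q1 ∧
      Q1.comap (Algebra.TensorProduct.includeRight : S →ₐ[R] A1 ⊗[R] S).toRingHom = v.asIdeal.comap ιS.toRingHom ∧
      Q1.comap (algebraMap A1 (A1 ⊗[R] S)) = RingHom.ker ψ := by
  let B1 := B ⊗[k] K
  let μ : B1 →ₐ[k] K := Algebra.TensorProduct.lift μ0 (AlgHom.id _ K) fun _ _ => Commute.all _ _
  let θ : A1 ⊗[R] S →ₐ[R] B1 := Algebra.TensorProduct.lift
    (((Algebra.TensorProduct.includeRight : K →ₐ[k] B1).restrictScalars R).comp ψ)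
    (((Algebra.TensorProduct.includeLeft : B →ₐ[k] B1).restrictScalars R).comp ιS) fun _ _ => Commute.all _ _
  have hμ : ∀ (b : B) (c : K), μ (b ⊗ₜ[k] c) = μ0 b * c := fun b c => Algebra.TensorProduct.lift_tmul _ _ _ b c
  have hθt : ∀ (a : A1) (s : S), θ (a ⊗ₜ s) = (1 : B) ⊗ₜ[k] ψ a * (ιS s) ⊗ₜ[k] (1 : K) := fun a s =>
    Algebra.TensorProduct.lift_tmul _ _ _ a s
  have hθ : ∀ c, μ (θ c) = Algebra.TensorProduct.lift ψ ((μ0.restrictScalars R).comp ιS) (fun _ _ => Commute.all _ _) c :=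
    fun c => by
    induction c with
    | zero => simp
    | tmul a s =>
      rw [hθt, map_mul, hμ, hμ, map_one, one_mul, mul_one]
      exact (Algebra.TensorProduct.lift_tmul ψ ((μ0.restrictScalars R).comp ιS) (fun _ _ => Commute.all _ _) a s).symm
    | add a b ha hb => simp only [map_add, ha, hb]
  let w0 : PrimeSpectrum B1 := ⟨RingHom.ker μ, RingHom.ker_isPrime _⟩
  refine ⟨PrimeSpectrum.comap (algebraMap B B1) '' (PrimeSpectrum.basicOpen (θ g1) : Set _),
    PrimeSpectrum.isOpenMap_comap_algebraMap_tensorProduct_of_field _ PrimeSpectrum.isOpen_basicOpen,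
    ⟨w0, show θ g1 ∉ RingHom.ker μ from fun h => hg1 ((hθ g1).symm.trans h), PrimeSpectrum.ext ?_⟩, ?_⟩
  · rw [hx]
    ext b
    show μ (b ⊗ₜ (1 : K)) = 0 ↔ μ0 b = 0
    rw [hμ, mul_one]
  rintro _ ⟨w, hw, rfl⟩
  refine ⟨w.asIdeal.comap θ.toRingHom, Ideal.comap_isPrime _ _, hw, ?_, ?_⟩
  · ext s
    show θ ((1 : A1) ⊗ₜ s) ∈ w.asIdeal ↔ (ιS s) ⊗ₜ[k] (1 : K) ∈ w.asIdeal
    rw [hθt, map_one ψ, ← Algebra.TensorProduct.one_def, one_mul]
  · ext a
    show θ (a ⊗ₜ (1 : S)) ∈ w.asIdeal ↔ ψ a = 0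
    have heq : θ (a ⊗ₜ (1 : S)) = (1 : B) ⊗ₜ[k] ψ a := by
      rw [hθt, map_one ιS, ← Algebra.TensorProduct.one_def, mul_one]
    rw [heq]
    constructor
    · intro h
      by_contra h0
      exact w.2.ne_top (Ideal.eq_top_of_isUnit_mem _ h ((IsUnit.mk0 _ h0).map
        (Algebra.TensorProduct.includeRight : K →ₐ[k] B1)))
    · intro h
      rw [h, TensorProduct.tmul_zero]
      exact zero_mem _

attribute [local instance] Algebra.TensorProduct.rightAlgebra

theorem fiber_ext {R S : Type u} [CommRing R] [CommRing S] [Algebra R S] (p : Ideal R) [p.IsPrime]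
    (P₁ P₂ : PrimeSpectrum (p.Fiber S))
    (h : P₁.asIdeal.comap (Algebra.TensorProduct.includeRight (R := R) (A := p.ResidueField) (B := S)).toRingHom =
      P₂.asIdeal.comap (Algebra.TensorProduct.includeRight (R := R) (A := p.ResidueField) (B := S)).toRingHom) :
    P₁ = P₂ := by
  refine (PrimeSpectrum.preimageHomeomorphFiber R S ⟨p, inferInstance⟩).symm.injective (Subtype.ext ?_)
  exact PrimeSpectrum.ext h

set_option maxHeartbeats 1600000 in
theorem isOpen_flatLocus {R S : Type u} [CommRing R] [CommRing S] [Algebra R S] [Algebra.FiniteType R S]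
    (N : Type u) [AddCommGroup N] [Module S N] [Module R N] [IsScalarTower R S N] [Module.Finite S N]
    (p : Ideal R) [p.IsPrime] :
    IsOpen {x : PrimeSpectrum (p.Fiber S) |
      FlatCA.FlatAt R (x.asIdeal.comap (Algebra.TensorProduct.includeRight (R := R) (A := p.ResidueField) (B := S)).toRingHom) N} := by
  rw [isOpen_iff_mem_nhds]
  intro x hx
  let B := p.Fiber S
  let ιS : S →ₐ[R] B := Algebra.TensorProduct.includeRight
  let q : Ideal S := x.asIdeal.comap ιS.toRingHom
  haveI : q.IsPrime := Ideal.comap_isPrime _ _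
  haveI : q.LiesOver p := ⟨by
    ext a
    show a ∈ p ↔ ιS (algebraMap R S a) ∈ x.asIdeal
    rw [ιS.commutes, IsScalarTower.algebraMap_apply R p.ResidueField B]
    constructor
    · intro ha
      rw [Ideal.algebraMap_residueField_eq_zero.mpr ha, map_zero]
      exact zero_mem _
    · intro ha
      by_contra hap
      exact x.2.ne_top (Ideal.eq_top_of_isUnit_mem _ ha ((IsUnit.mk0 _ fun h0 =>
        hap (Ideal.algebraMap_residueField_eq_zero.mp h0)).map _))⟩
  obtain ⟨n, π, hπ⟩ := Algebra.FiniteType.iff_quotient_mvPolynomial''.mp (inferInstance : Algebra.FiniteType R S)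
  let P := MvPolynomial (Fin n) R
  let K := q.ResidueField
  let Q : Ideal P := q.comap π
  haveI : Q.IsPrime := Ideal.comap_isPrime _ _
  let A0 := Localization.AtPrime Q
  have hu : ∀ b : Q.primeCompl, IsUnit (((IsScalarTower.toAlgHom R S K).comp π) b) := fun b =>
    IsUnit.mk0 _ fun h => b.2 ((Ideal.algebraMap_residueField_eq_zero (I := q)).mp h)
  let f : A0 →ₐ[R] K := IsLocalization.liftAlgHom (M := Q.primeCompl) hu
  have hf : ∀ b : P, f (algebraMap P A0 b) = algebraMap S K (π b) := fun b => IsLocalization.lift_eq _ b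
  have hfsurj : Function.Surjective f := by
    intro v
    obtain ⟨a, b, hb, rfl⟩ := IsFractionRing.div_surjective (S ⧸ q) v
    obtain ⟨a, rfl⟩ := Ideal.Quotient.mk_surjective a
    obtain ⟨b, rfl⟩ := Ideal.Quotient.mk_surjective b
    obtain ⟨a, rfl⟩ := hπ a
    obtain ⟨b, rfl⟩ := hπ b
    have hbQ : b ∈ Q.primeCompl := fun h => nonZeroDivisors.ne_zero hb (Ideal.Quotient.eq_zero_iff_mem.mpr h)
    refine ⟨IsLocalization.mk' A0 a ⟨b, hbQ⟩, ?_⟩
    rw [← Ideal.Quotient.algebraMap_eq, ← IsScalarTower.algebraMap_apply, ← IsScalarTower.algebraMap_apply, ← hf, ← hf,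
      eq_div_iff (by rw [hf]; exact fun h => hbQ ((Ideal.algebraMap_residueField_eq_zero (I := q)).mp h)), ← map_mul,
      IsLocalization.mk'_spec_mk]
  letI : Algebra A0 K := f.toRingHom.toAlgebra
  haveI : IsScalarTower R A0 K := IsScalarTower.of_algebraMap_eq fun a => (f.commutes a).symm
  let A1 := Hens.EtLoc A0 K
  letI : Algebra R A1 := ((algebraMap A0 A1).comp (algebraMap R A0)).toAlgebra
  haveI : IsScalarTower R A0 A1 := IsScalarTower.of_algebraMap_eq' rfl
  haveI : Module.Flat P A0 := IsLocalization.flat A0 Q.primeCompl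
  haveI : Module.Flat R A0 := Module.Flat.trans R P A0
  haveI : Module.Flat R A1 := Module.Flat.trans R A0 A1
  let ψ : A1 →ₐ[R] K := (Hens.point A0 K).restrictScalars R
  have hψsurj : Function.Surjective ψ := fun v => by
    obtain ⟨a, rfl⟩ := hfsurj v
    exact ⟨algebraMap A0 A1 a, (Hens.point A0 K).commutes a⟩
  have hψm : ∀ a : A1, a ∈ IsLocalRing.maximalIdeal A1 ↔ ψ a = 0 := fun a => by
    haveI hloc : IsLocalHom (Hens.point A0 K).toRingHom := inferInstance
    constructor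
    · intro ha
      by_contra h0
      exact ha (hloc.map_nonunit a (IsUnit.mk0 _ h0))
    · intro h0 hu
      exact (hu.map ψ).ne_zero h0
  let T := A1 ⊗[R] S
  let l : T →ₐ[R] K := Algebra.TensorProduct.lift ψ (IsScalarTower.toAlgHom R S K) fun _ _ => Commute.all _ _
  have hl : ∀ (a : A1) (s : S), l (a ⊗ₜ s) = ψ a * algebraMap S K s := fun a s =>
    Algebra.TensorProduct.lift_tmul _ _ _ a s
  let z : Ideal T := RingHom.ker l
  haveI : z.IsPrime := RingHom.ker_isPrime _
  haveI : z.LiesOver q := ⟨by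
    ext s
    show s ∈ q ↔ l ((1 : A1) ⊗ₜ s) = 0
    rw [hl, map_one, one_mul, Ideal.algebraMap_residueField_eq_zero]⟩
  have hz : (IsLocalRing.maximalIdeal A1).map (algebraMap A1 T) ≤ z := by
    refine Ideal.map_le_iff_le_comap.mpr fun a ha => ?_
    show l (a ⊗ₜ (1 : S)) = 0
    rw [hl, (hψm a).mp ha, zero_mul]
  have hrat : ∀ c : T, ∃ a : A1, c - algebraMap A1 T a ∈ z := fun c => by
    obtain ⟨a, ha⟩ := hψsurj (l c)
    refine ⟨a, show l (c - a ⊗ₜ (1 : S)) = 0 from ?_⟩
    rw [map_sub, hl, map_one, mul_one, ha, sub_self]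
  haveI : IsScalarTower R S T := IsScalarTower.of_algebraMap_eq fun a => by
    show algebraMap R A1 a ⊗ₜ[R] (1 : S) = (1 : A1) ⊗ₜ[R] algebraMap R S a
    rw [Algebra.algebraMap_eq_smul_one, Algebra.algebraMap_eq_smul_one, TensorProduct.smul_tmul]
  haveI : Algebra.IsPushout R S A1 T := Algebra.IsPushout.symm inferInstance
  have hbc : IsBaseChange T (TensorProduct.mk S T N 1) := TensorProduct.isBaseChange S N T
  have hflat : FlatCA.FlatAt A1 z (T ⊗[S] N) :=
    FlatMor.FlatAtBC.flatAt_of_baseChange (R := R) (S := S) (R' := A1) (S' := T) _ hbc q z (z.over_def q).symm hx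
  obtain ⟨⟨g1, hg1, hK⟩, -⟩ := hp_rational z hz hrat (T ⊗[S] N) hflat
  have hflat1 := hK.flat hg1 hflat
  -- the fibre map
  let jK : p.ResidueField →ₐ[R] K := Ideal.ResidueField.mapₐ p q (Algebra.ofId R S) (q.over_def p)
  letI : Algebra p.ResidueField K := jK.toRingHom.toAlgebra
  haveI : IsScalarTower R p.ResidueField K := IsScalarTower.of_algebraMap_eq fun a => (jK.commutes a).symm
  let μ0 : B →ₐ[p.ResidueField] K :=
    Algebra.TensorProduct.lift (Algebra.ofId p.ResidueField K) (IsScalarTower.toAlgHom R S K) fun _ _ => Commute.all _ _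
  have hμ0 : ∀ s, μ0 (ιS s) = algebraMap S K s := fun s =>
    (Algebra.TensorProduct.lift_tmul _ _ _ _ _).trans (by rw [map_one, one_mul]; rfl)
  have hxμ : x.asIdeal = RingHom.ker μ0 := congrArg PrimeSpectrum.asIdeal (fiber_ext p x ⟨RingHom.ker μ0, RingHom.ker_isPrime _⟩ (by
    ext s
    show s ∈ q ↔ μ0 (ιS s) = 0
    rw [hμ0, Ideal.algebraMap_residueField_eq_zero]))
  have hl' : ∀ c : T, Algebra.TensorProduct.lift ψ ((μ0.restrictScalars R).comp ιS) (fun _ _ => Commute.all _ _) c = l c := fun c => by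
    induction c using TensorProduct.induction_on with
    | zero => simp
    | tmul a s =>
      rw [hl, Algebra.TensorProduct.lift_tmul]
      exact congrArg _ (hμ0 s)
    | add a b ha hb => simp only [map_add, ha, hb]
  obtain ⟨W, hW, hxW, hWv⟩ := exists_open_of_field ιS ψ μ0 x hxμ g1 (fun h => hg1 ((hl' g1).symm.trans h))
  refine mem_nhds_iff.mpr ⟨W, fun v hv => ?_, hW, hxW⟩
  obtain ⟨Q1, hQ1p, hgQ1, hQ1S, hQ1A⟩ := hWv v hv
  have hQ1 : FlatCA.FlatAt A1 Q1 (T ⊗[S] N) := flatAt_of_flat_away g1 hflat1 Q1 hgQ1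
  refine FlatMor.FlatAtBC.flatAt_of_descent (R := R) (S := S) (R' := A1) (S' := T) _ hbc _ Q1 hQ1S
    (IsLocalRing.maximalIdeal A1) (hQ1A.trans (Ideal.ext fun a => (hψm a).symm)) ?_ hQ1
  haveI : Module.Flat A1 (Localization.AtPrime (IsLocalRing.maximalIdeal A1)) :=
    IsLocalization.flat _ (IsLocalRing.maximalIdeal A1).primeCompl
  exact Module.Flat.trans R A1 _

end Groth.Agent.HP
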