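import Groth.Agent.HP.EssML
import Groth.Agent.HP.Setting
import Mathlib.RingTheory.Unramified.LocalRing

/-!
Over a henselian base an element of `W ⊗ X` killed by powers of the maximal ideal which dies in a flat
module receiving `W` injectively modulo the maximal ideal is zero.
-/

set_option autoImplicit false

universe u

open TensorProduct

namespace Groth.Agent.HP

theorem mem_map_of_mem_max {R : Type u} [CommRing R] (p : Ideal R) [p.IsPrime] {a : Hp p}
    (ha : a ∈ IsLocalRing.maximalIdeal (Hp p)) : a ∈ p.map (algebraMap R (Hp p)) := by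
  obtain ⟨R', _, _, p', _, ⟨_, hlo, -⟩, θ, hp', hθ⟩ := exists_nhd p {a}
  haveI := hlo
  obtain ⟨b, rfl⟩ := hθ a (Finset.mem_singleton_self a)
  obtain ⟨φ, hφ, -⟩ := exists_local_map p θ p' hp'
  have hb : b ∈ p' := hp'.ge ha
  have hunr : Algebra.IsUnramifiedAt R p' := inferInstance
  letI := (Localization.localRingHom p p' (algebraMap R R') (p'.over_def p)).toAlgebra
  haveI : Localization.AtPrime.IsLiesOverAlgebra p p' := ⟨rfl⟩
  obtain ⟨-, heq⟩ := (Algebra.isUnramifiedAt_iff_map_eq R p p').mp hunr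
  have h1 : algebraMap R' (Localization.AtPrime p') b ∈ p.map (algebraMap R (Localization.AtPrime p')) := by
    rw [heq]
    exact (IsLocalization.AtPrime.to_map_mem_maximal_iff _ p' b).mpr hb
  have h2 := Ideal.mem_map_of_mem φ.toRingHom h1
  rw [Ideal.map_map] at h2
  rw [show φ.toRingHom.comp (algebraMap R (Localization.AtPrime p')) = algebraMap R (Hp p) from φ.comp_algebraMap] at h2
  rw [← hφ]
  exact h2

/-- Injectivity of `u ⊗ Y` for modules killed by the maximal ideal. -/
theorem injective_of_killed {A : Type u} [CommRing A] [IsLocalRing A] {W M : Type u} [AddCommGroup W] [Module A W]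
    [AddCommGroup M] [Module A M] (u : W →ₗ[A] M)
    (h : Function.Injective (u.lTensor (IsLocalRing.ResidueField A)))
    (Y : Type u) [AddCommGroup Y] [Module A Y] (hY : ∀ a ∈ IsLocalRing.maximalIdeal A, ∀ y : Y, a • y = 0) :
    Function.Injective (u.lTensor Y) := by
  let k := IsLocalRing.ResidueField A
  letI : Module k Y := Module.IsTorsionBySet.module (R := A) (I := IsLocalRing.maximalIdeal A) fun y a => hY a a.2 y
  haveI : IsScalarTower A k Y := IsScalarTower.of_algebraMap_smul fun c x => rfl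
  have h' : Function.Injective ((u.baseChange k).lTensor Y) :=
    Module.Flat.lTensor_preserves_injective_linearMap (u.baseChange k) h
  let eW := AlgebraTensorModule.cancelBaseChange A k k Y W
  let eM := AlgebraTensorModule.cancelBaseChange A k k Y M
  have hcomm : ∀ z, eM ((u.baseChange k).lTensor Y z) = u.lTensor Y (eW z) := fun z => by
    induction z with
    | zero => simp
    | tmul a b =>
      induction b with
      | zero => simp
      | tmul c n => simp [eW, eM]
      | add c d hc hd => simp only [TensorProduct.tmul_add, map_add, hc, hd]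
    | add c d hc hd => simp only [map_add, hc, hd]
  intro y y' hy
  refine eW.symm.injective (h' (eM.injective ?_))
  rw [hcomm, hcomm, eW.apply_symm_apply, eW.apply_symm_apply, hy]

variable {A : Type u} [CommRing A] {C : Type u} [CommRing C] [Algebra A C]

/-- Killing on a localization. -/
theorem kill_localized (T : Submonoid C) {W0 W : Type u} [AddCommGroup W0] [Module C W0] [Module A W0]
    [IsScalarTower A C W0] [AddCommGroup W] [Module C W] [Module A W] [IsScalarTower A C W]
    (f : W0 →ₗ[C] W) [IsLocalizedModule T f] (P : Ideal C) [P.IsPrime] (hTP : ∀ t ∈ T, t ∉ P) {g : C}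
    (h : Kill A W0 P g) : Kill A W P g := fun X _ _ x ⟨t, ht, htx⟩ => by
  let φ := AlgebraTensorModule.rTensor A X f
  haveI : IsLocalizedModule T φ := inferInstance
  obtain ⟨⟨x0, s⟩, hs⟩ := IsLocalizedModule.surj T φ x
  have h0 : φ (t • x0) = 0 := by
    rw [map_smul, ← hs, Submonoid.smul_def, smul_comm, htx, smul_zero]
  obtain ⟨s', hs'⟩ := (IsLocalizedModule.eq_zero_iff T φ).mp h0
  rw [Submonoid.smul_def, ← mul_smul] at hs'
  obtain ⟨k, hk⟩ := h X x0 ⟨(s' : C) * t, P.primeCompl.mul_mem (hTP _ s'.2) ht, hs'⟩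
  refine ⟨k, ((Module.End.isUnit_iff _).mp (IsLocalizedModule.map_units φ s)).1 ?_⟩
  show (s : C) • g ^ k • x = (s : C) • 0
  rw [smul_comm, smul_zero, ← Submonoid.smul_def, hs, ← map_smul, hk, map_zero]

theorem isLocalizedModule_comp (T : Submonoid C) {W0 W : Type u} [AddCommGroup W0] [Module C W0]
    [AddCommGroup W] [Module C W] (f : W0 →ₗ[C] W) [IsLocalizedModule T f] (P : Ideal C) [P.IsPrime]
    (hTP : ∀ t ∈ T, t ∉ P) :
    IsLocalizedModule P.primeCompl ((LocalizedModule.mkLinearMap P.primeCompl W).comp f) := by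
  let η := LocalizedModule.mkLinearMap P.primeCompl W
  refine ⟨fun s => IsLocalizedModule.map_units η s, fun y => ?_, fun {a b} hab => ?_⟩
  · obtain ⟨⟨v, s⟩, hv⟩ := IsLocalizedModule.surj P.primeCompl η y
    obtain ⟨⟨v0, t⟩, hv0⟩ := IsLocalizedModule.surj T f v
    refine ⟨⟨v0, (⟨t, hTP _ t.2⟩ : P.primeCompl) * s⟩, ?_⟩
    show _ = η (f v0)
    rw [← hv0, Submonoid.smul_def, Submonoid.smul_def, map_smul, ← hv, Submonoid.smul_def, Submonoid.coe_mul, mul_smul]
  · obtain ⟨s, hs⟩ := IsLocalizedModule.exists_of_eq (S := P.primeCompl) (f := η) hab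
    rw [Submonoid.smul_def, Submonoid.smul_def, ← map_smul, ← map_smul] at hs
    obtain ⟨t, ht⟩ := IsLocalizedModule.exists_of_eq (S := T) (f := f) hs
    refine ⟨(⟨t, hTP _ t.2⟩ : P.primeCompl) * s, ?_⟩
    simpa [Submonoid.smul_def, mul_smul] using ht

/-- The core statement. -/
theorem eq_zero_of_torsion {A : Type u} [CommRing A] [HenselianLocalRing A] {C : Type u} [CommRing C] [Algebra A C]
    [Algebra.FiniteType A C] (T : Submonoid C) {W0 W M : Type u} [AddCommGroup W0] [Module C W0] [Module A W0]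
    [IsScalarTower A C W0] [Module.Finite C W0] [AddCommGroup W] [Module C W] [Module A W] [IsScalarTower A C W]
    (f : W0 →ₗ[C] W) [IsLocalizedModule T f] [Module.Flat A W] [AddCommGroup M] [Module A M] [Module.Flat A M]
    (u : W →ₗ[A] M) (hu : Function.Injective (u.lTensor (IsLocalRing.ResidueField A)))
    {X : Type u} [AddCommGroup X] [Module A X] (x : W ⊗[A] X) (hux : u.rTensor X x = 0)
    (hkill : ∀ a ∈ IsLocalRing.maximalIdeal A, ∃ k : ℕ, a ^ k • x = 0) : x = 0 := by
  classical
  let m := IsLocalRing.maximalIdeal A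
  -- vanishing is local on the closed fibre
  have hzero : ∀ {X' : Type u} [AddCommGroup X'] [Module A X'] (y : W ⊗[A] X'),
      (∀ a ∈ m, ∃ k : ℕ, a ^ k • y = 0) →
      (∀ (P : Ideal C) [P.IsPrime], P.LiesOver m → (∀ t ∈ T, t ∉ P) → ∃ t ∉ P, t • y = 0) → y = 0 := by
    intro X' _ _ y hy hP
    let J : Ideal C := LinearMap.ker (LinearMap.toSpanSingleton C (W ⊗[A] X') y)
    haveI : IsLocalizedModule T (AlgebraTensorModule.rTensor A X' f) := inferInstance
    have hdisj : Disjoint (J : Set C) (T : Set C) ∨ y = 0 := by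
      by_cases h : ∃ t ∈ T, t ∈ J
      · obtain ⟨t, ht, htJ⟩ := h
        exact Or.inr (((Module.End.isUnit_iff _).mp (IsLocalizedModule.map_units
          (AlgebraTensorModule.rTensor A X' f) (⟨t, ht⟩ : T))).1
          (show t • y = t • 0 by rw [smul_zero]; exact htJ))
      · push Not at h
        exact Or.inl (Set.disjoint_left.mpr fun a ha ha' => h a ha' ha)
    rcases hdisj with hdisj | h
    swap
    · exact h
    obtain ⟨P, hPp, hJP, hPT⟩ := Ideal.exists_le_prime_disjoint J T hdisj
    haveI := hPp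
    have hlo : P.LiesOver m := ⟨(IsLocalRing.maximalIdeal.isMaximal A).eq_of_le (Ideal.comap_ne_top _ hPp.ne_top)
      fun a ha => by
        obtain ⟨k, hk⟩ := hy a ha
        refine hPp.mem_of_pow_mem k (hJP ?_)
        show algebraMap A C a ^ k • y = 0
        rw [← map_pow, IsScalarTower.algebraMap_smul, hk]⟩
    obtain ⟨t, ht, hty⟩ := hP P hlo fun t ht h => Set.disjoint_left.mp hPT h ht
    exact absurd (hJP (show t ∈ J from hty)) ht
  -- data at the points of the closed fibre
  have hflat : ∀ (P : Ideal C) [P.IsPrime], FlatCA.FlatAt A P W := fun P _ => RGFlat.flatAt_of_flat P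
  let V := {P : PrimeSpectrum C // P.asIdeal.LiesOver m ∧ ∀ t ∈ T, t ∉ P.asIdeal}
  have hpt : ∀ v : V, (∃ g ∉ v.1.asIdeal, Kill A W v.1.asIdeal g) ∧
      CAlg.IsMittagLeffler A (LocalizedModule v.1.asIdeal.primeCompl W) := fun v => by
    haveI := v.2.1
    haveI := isLocalizedModule_comp T f v.1.asIdeal v.2.2
    let e := (IsLocalizedModule.iso v.1.asIdeal.primeCompl
      ((LocalizedModule.mkLinearMap v.1.asIdeal.primeCompl W).comp f)).restrictScalars A
    haveI : Module.Flat A (LocalizedModule v.1.asIdeal.primeCompl W) := hflat v.1.asIdeal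
    obtain ⟨⟨g, hg, hK⟩, hML⟩ := hp_main v.1.asIdeal W0 (Module.Flat.of_linearEquiv e)
    exact ⟨⟨g, hg, kill_localized T f v.1.asIdeal v.2.2 hK⟩, MLMod.isMittagLeffler_congr e hML⟩
  -- lift to a free module
  obtain ⟨S, hS⟩ := TensorProduct.exists_finset x
  let F := S → A
  let φ : F →ₗ[A] X := Fintype.linearCombination A fun s => s.1.2
  let w : W ⊗[A] F := ∑ s : S, s.1.1 ⊗ₜ Pi.single s 1
  have hw : φ.lTensor W w = x := by
    rw [hS, map_sum, ← Finset.sum_coe_sort S fun s => s.1 ⊗ₜ[A] s.2]
    exact Finset.sum_congr rfl fun s _ => by rw [LinearMap.lTensor_tmul]; congr 1; exact (Fintype.linearCombination_apply_single A (fun s : S => s.1.2) s 1).trans (one_smul A _)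
  let η : ∀ v : V, W →ₗ[C] LocalizedModule v.1.asIdeal.primeCompl W := fun v => LocalizedModule.mkLinearMap _ W
  have hsm : ∀ v : V, ∃ F' : Submodule A F, F'.FG ∧
      ((η v).restrictScalars A).rTensor (F ⧸ F') (F'.mkQ.lTensor W w) = 0 ∧
      ∀ F'' : Submodule A F, ((η v).restrictScalars A).rTensor (F ⧸ F'') (F''.mkQ.lTensor W w) = 0 → F' ≤ F'' := by
    intro v
    let G := LocalizedModule v.1.asIdeal.primeCompl W
    haveI : Module.Flat A G := hflat v.1.asIdeal
    let wG := ((η v).restrictScalars A).rTensor F w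
    obtain ⟨F', hfg, hF', hmin⟩ := MLMod.exists_smallest (hpt v).2 ((TensorProduct.comm A F G).symm wG)
    have key : ∀ F'' : Submodule A F, (TensorProduct.comm A F G).symm wG ∈ LinearMap.range (F''.subtype.rTensor G) ↔
        ((η v).restrictScalars A).rTensor (F ⧸ F'') (F''.mkQ.lTensor W w) = 0 := fun F'' => by
      rw [mem_range_iff_mkQ, LinearEquiv.apply_symm_apply, ← LinearMap.comp_apply (F''.mkQ.lTensor G),
        LinearMap.lTensor_comp_rTensor, ← LinearMap.rTensor_comp_lTensor, LinearMap.comp_apply]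
    exact ⟨F', hfg, (key F').mp hF', fun F'' h'' => hmin F'' ((key F'').mpr h'')⟩
  choose F' hfg hF' hmin using hsm
  choose g hg hK using fun v => (hpt v).1
  -- finitely many points suffice
  let CT := Localization T
  let Z : Set (PrimeSpectrum CT) := PrimeSpectrum.zeroLocus (m.map (algebraMap A CT) : Set CT)
  have hV : ∀ Q ∈ Z, (Ideal.comap (algebraMap C CT) Q.asIdeal).LiesOver m ∧
      ∀ t ∈ T, t ∉ Ideal.comap (algebraMap C CT) Q.asIdeal := fun Q hQ => by
    refine ⟨⟨(IsLocalRing.maximalIdeal.isMaximal A).eq_of_le (Ideal.comap_ne_top _ (Ideal.comap_ne_top _ Q.2.ne_top))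
      fun a ha => ?_⟩, fun t ht h => Q.2.ne_top (Q.asIdeal.eq_top_of_isUnit_mem h (IsLocalization.map_units CT ⟨t, ht⟩))⟩
    show algebraMap C CT (algebraMap A C a) ∈ Q.asIdeal
    rw [← IsScalarTower.algebraMap_apply]
    exact (PrimeSpectrum.mem_zeroLocus _ _).mp hQ (Ideal.mem_map_of_mem _ ha)
  obtain ⟨s, hs⟩ := ((PrimeSpectrum.isClosed_zeroLocus _).isCompact : IsCompact Z).elim_finite_subcover
    (fun v : V => (PrimeSpectrum.basicOpen (algebraMap C CT (g v)) : Set (PrimeSpectrum CT)))
    (fun _ => PrimeSpectrum.isOpen_basicOpen) (fun Q hQ =>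
      Set.mem_iUnion.mpr ⟨⟨⟨_, Ideal.comap_isPrime _ _⟩, hV Q hQ⟩, hg ⟨⟨_, Ideal.comap_isPrime _ _⟩, hV Q hQ⟩⟩)
  let F'' := s.sup F'
  let C0 := F''.map φ
  have hx0 : C0.mkQ.lTensor W x = 0 := by
    refine hzero _ (fun a ha => ?_) fun P hPp hlo hPT => ?_
    · obtain ⟨k, hk⟩ := hkill a ha
      exact ⟨k, by rw [← map_smul, hk, map_zero]⟩
    let Q : Ideal CT := P.map (algebraMap C CT)
    have hdisj : Disjoint (T : Set C) (P : Set C) := Set.disjoint_left.mpr hPT
    haveI : Q.IsPrime := IsLocalization.isPrime_of_isPrime_disjoint T CT P hPp hdisj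
    have hQ : Q.comap (algebraMap C CT) = P := IsLocalization.under_map_of_isPrime_disjoint T CT hPp hdisj
    have hQZ : (⟨Q, inferInstance⟩ : PrimeSpectrum CT) ∈ Z := by
      refine (PrimeSpectrum.mem_zeroLocus _ _).mpr (Ideal.map_le_iff_le_comap.mpr ?_)
      rw [IsScalarTower.algebraMap_eq A C CT, ← Ideal.comap_comap, hQ]
      exact (P.over_def m).le
    obtain ⟨v, hv, hvQ⟩ := Set.mem_iUnion₂.mp (hs hQZ)
    have hle : F' v ≤ LinearMap.ker (C0.mkQ.comp φ) := fun z hz => by
      simpa [C0] using Submodule.mem_map_of_mem (f := φ) ((Finset.le_sup hv : F' v ≤ F'') hz)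
    have hzv : ((η v).restrictScalars A).rTensor (X ⧸ C0) (C0.mkQ.lTensor W x) = 0 := by
      have h1 := congrArg (((F' v).liftQ (C0.mkQ.comp φ) hle).lTensor _) (hF' v)
      rw [map_zero, ← LinearMap.comp_apply (((F' v).liftQ (C0.mkQ.comp φ) hle).lTensor _),
        LinearMap.lTensor_comp_rTensor, ← LinearMap.rTensor_comp_lTensor, LinearMap.comp_apply,
        ← LinearMap.lTensor_comp_apply, Submodule.liftQ_mkQ, LinearMap.lTensor_comp_apply, hw] at h1
      exact h1
    obtain ⟨t, ht⟩ := (rTensor_mk_eq_zero_iff v.1.asIdeal.primeCompl (η v) (X ⧸ C0) _).mp hzv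
    obtain ⟨k, hk⟩ := hK v (X ⧸ C0) _ ⟨t, t.2, ht⟩
    exact ⟨g v ^ k, fun h => hvQ (hQ.ge (hPp.mem_of_pow_mem k h)), hk⟩
  obtain ⟨z, hz⟩ := ((lTensor_exact W (LinearMap.exact_subtype_mkQ C0) C0.mkQ_surjective) x).mp hx0
  have huz : u.rTensor C0 z = 0 := by
    refine Module.Flat.lTensor_preserves_injective_linearMap (M := M) C0.subtype C0.injective_subtype ?_
    rw [map_zero, ← LinearMap.comp_apply, LinearMap.lTensor_comp_rTensor, ← LinearMap.rTensor_comp_lTensor,
      LinearMap.comp_apply, hz, hux]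
  let mC : Submodule A C0 := m • ⊤
  have hz0 : mC.mkQ.lTensor W z = 0 := by
    have hinj : Function.Injective (u.rTensor (C0 ⧸ mC)) := by
      rw [← LinearMap.lTensor_inj_iff_rTensor_inj]
      refine injective_of_killed u hu _ fun a ha y => ?_
      obtain ⟨y, rfl⟩ := Submodule.Quotient.mk_surjective mC y
      rw [← Submodule.Quotient.mk_smul, Submodule.Quotient.mk_eq_zero]
      exact Submodule.smul_mem_smul ha trivial
    refine hinj ?_
    rw [map_zero, ← LinearMap.comp_apply, LinearMap.rTensor_comp_lTensor, ← LinearMap.lTensor_comp_rTensor,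
      LinearMap.comp_apply, huz, map_zero]
  have hxm : (m • C0).mkQ.lTensor W x = 0 := by
    have hfac : mC ≤ LinearMap.ker ((m • C0).mkQ.comp C0.subtype) := fun c hc => by
      have := Submodule.mem_map_of_mem (f := C0.subtype) hc
      rw [Submodule.map_smul'', Submodule.map_subtype_top] at this
      simpa using this
    rw [← hz, ← LinearMap.lTensor_comp_apply, ← Submodule.liftQ_mkQ mC _ hfac, LinearMap.lTensor_comp_apply, hz0,
      map_zero]
  let D := Submodule.comap φ (m • C0)
  have hwD : D.mkQ.lTensor W w = 0 := by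
    let j : F ⧸ D →ₗ[A] X ⧸ m • C0 := D.mapQ (m • C0) φ le_rfl
    have hj : Function.Injective j := by
      rw [← LinearMap.ker_eq_bot]
      exact Submodule.ker_liftQ_eq_bot _ _ _ fun c hc => by simpa [D] using hc
    refine Module.Flat.lTensor_preserves_injective_linearMap (M := W) j hj ?_
    rw [map_zero, ← LinearMap.lTensor_comp_apply, Submodule.mapQ_mkQ, LinearMap.lTensor_comp_apply, hw, hxm]
  have hC0 : C0 = ⊥ := by
    refine Submodule.eq_bot_of_le_smul_of_le_jacobson_bot m C0 ?_ (Submodule.map_le_iff_le_comap.mpr (Finset.sup_le fun v _ => ?_))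
      (IsLocalRing.maximalIdeal_le_jacobson ⊥)
    · refine Submodule.FG.map φ ?_
      exact Finset.sup_induction Submodule.fg_bot (fun a ha b hb => ha.sup hb) fun v _ => hfg v
    · exact hmin v D (by rw [hwD, map_zero])
  haveI : Subsingleton C0 := by rw [hC0]; infer_instance
  rw [← hz, show z = 0 from ?_, map_zero]
  clear hz huz hz0
  induction z with
  | zero => rfl
  | tmul a c => rw [Subsingleton.elim c 0, TensorProduct.tmul_zero]
  | add a b ha hb => rw [ha, hb, add_zero]

end Groth.Agent.HP
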