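import Mathlib.RingTheory.Spectrum.Prime.Chevalley
import Groth.Agent.RGFlat.UnivInj
import Groth.Agent.RGFlat.LocTor
import Groth.Agent.RGFlat.GenericWeakAss
import Groth.Agent.MLMod.Flat
import Groth.Agent.MLMod.Tensor
import Groth.Agent.ProjDesc.Basic

/-!
Neighbourhoods `D(g)` of a point `z` on which `N ⊗ X` sees no more than at `z`, for every `X`.
-/

set_option autoImplicit false

universe u

open TensorProduct

namespace Groth.Agent.HP

variable {A : Type u} [CommRing A] {C : Type u} [CommRing C] [Algebra A C]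
  {N : Type u} [AddCommGroup N] [Module C N] [Module A N] [IsScalarTower A C N]

variable (A N) in
/-- An element of `N ⊗ X` vanishing at `z` vanishes on `D(g)`. -/
def Kill (z : Ideal C) (g : C) : Prop :=
  ∀ (X : Type u) [AddCommGroup X] [Module A X] (x : N ⊗[A] X), (∃ t ∉ z, t • x = 0) → ∃ k : ℕ, g ^ k • x = 0

theorem Kill.mul {z : Ideal C} {g : C} (h : Kill A N z g) (v : C) : Kill A N z (g * v) := fun X _ _ x hx => by
  obtain ⟨k, hk⟩ := h X x hx
  exact ⟨k, by rw [mul_pow, mul_comm, mul_smul, hk, smul_zero]⟩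

/-- The kernel of a localization after tensoring. -/
theorem rTensor_mk_eq_zero_iff (S : Submonoid C) {M : Type u} [AddCommGroup M] [Module C M] [Module A M]
    [IsScalarTower A C M] (f : N →ₗ[C] M) [IsLocalizedModule S f] (X : Type u) [AddCommGroup X] [Module A X]
    (x : N ⊗[A] X) : (f.restrictScalars A).rTensor X x = 0 ↔ ∃ s : S, (s : C) • x = 0 := by
  haveI : IsLocalizedModule S (AlgebraTensorModule.rTensor A X f) := inferInstance
  exact IsLocalizedModule.eq_zero_iff S (AlgebraTensorModule.rTensor A X f)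

/-- A further localization is universally injective when it kills nothing new. -/
theorem univInj_lift (S T : Submonoid C) (hST : S ≤ T)
    (hk : ∀ (X : Type u) [AddCommGroup X] [Module A X] (x : N ⊗[A] X),
      (∃ t ∈ T, t • x = 0) → ∃ s ∈ S, s • x = 0) :
    ∃ j : LocalizedModule S N →ₗ[A] LocalizedModule T N,
      CAlgX.UniversallyInjective A j ∧ ∀ n, j (LocalizedModule.mkLinearMap S N n) = LocalizedModule.mkLinearMap T N n := by
  let jC := IsLocalizedModule.lift S (LocalizedModule.mkLinearMap S N) (LocalizedModule.mkLinearMap T N)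
    fun s => IsLocalizedModule.map_units (LocalizedModule.mkLinearMap T N) (⟨s, hST s.2⟩ : T)
  have hj : ∀ n, jC (LocalizedModule.mkLinearMap S N n) = LocalizedModule.mkLinearMap T N n :=
    fun n => IsLocalizedModule.lift_apply _ _ _ _ n
  refine ⟨jC.restrictScalars A, fun X _ _ => ?_, hj⟩
  rw [injective_iff_map_eq_zero]
  intro y hy
  let φ := AlgebraTensorModule.rTensor A X (LocalizedModule.mkLinearMap S N)
  haveI : IsLocalizedModule S φ := inferInstance
  obtain ⟨⟨x, s⟩, hs⟩ := IsLocalizedModule.surj S φ y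
  have h1 : ((LocalizedModule.mkLinearMap T N).restrictScalars A).rTensor X x = 0 := by
    rw [show (LocalizedModule.mkLinearMap T N).restrictScalars A =
        jC.restrictScalars A ∘ₗ (LocalizedModule.mkLinearMap S N).restrictScalars A from LinearMap.ext fun n => (hj n).symm,
      LinearMap.rTensor_comp_apply,
      show ((LocalizedModule.mkLinearMap S N).restrictScalars A).rTensor X x = φ x from rfl, ← hs]
    show AlgebraTensorModule.rTensor A X jC ((s : C) • y) = 0
    rw [map_smul, show AlgebraTensorModule.rTensor A X jC y = 0 from hy, smul_zero]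
  obtain ⟨t, ht⟩ := (rTensor_mk_eq_zero_iff T _ X x).mp h1
  obtain ⟨s', hs', hs'x⟩ := hk X x ⟨t, t.2, ht⟩
  have h2 : (s : C) • y = 0 := hs.trans ((IsLocalizedModule.eq_zero_iff S φ).mpr ⟨⟨s', hs'⟩, hs'x⟩)
  exact ((Module.End.isUnit_iff _).mp (IsLocalizedModule.map_units φ s)).1
    (h2.trans (smul_zero (s : C)).symm)

/-- On `D(g)` the module is a universally injective submodule of its stalk at `z`. -/
theorem Kill.univInj {z : Ideal C} [z.IsPrime] {g : C} (hg : g ∉ z) (h : Kill A N z g) :
    ∃ j : LocalizedModule (Submonoid.powers g) N →ₗ[A] LocalizedModule z.primeCompl N,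
      CAlgX.UniversallyInjective A j :=
  (univInj_lift (Submonoid.powers g) z.primeCompl (Submonoid.powers_le.mpr hg) fun X _ _ x hx => by
    obtain ⟨k, hk⟩ := h X x hx
    exact ⟨g ^ k, ⟨k, rfl⟩, hk⟩).imp fun _ hj => hj.1

/-- A localization is Mittag-Leffler when a map out of it killing nothing new has Mittag-Leffler target. -/
theorem isMittagLeffler_localized (S : Submonoid C) {M : Type u} [AddCommGroup M] [Module C M] [Module A M]
    [IsScalarTower A C M] (ψ : N →ₗ[C] M) (hu : ∀ s : S, IsUnit (algebraMap C (Module.End C M) s))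
    (hk : ∀ (X : Type u) [AddCommGroup X] [Module A X] (x : N ⊗[A] X),
      (ψ.restrictScalars A).rTensor X x = 0 → ∃ s ∈ S, s • x = 0)
    (hM : CAlg.IsMittagLeffler A M) : CAlg.IsMittagLeffler A (LocalizedModule S N) := by
  let f := LocalizedModule.mkLinearMap S N
  let j := IsLocalizedModule.lift S f ψ hu
  refine MLMod.isMittagLeffler_of_universallyInjective (j.restrictScalars A) (fun X _ _ => ?_) hM
  rw [injective_iff_map_eq_zero]
  intro y hy
  let φ := AlgebraTensorModule.rTensor A X f
  haveI : IsLocalizedModule S φ := inferInstance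
  obtain ⟨⟨x, s⟩, hs⟩ := IsLocalizedModule.surj S φ y
  have h1 : (ψ.restrictScalars A).rTensor X x = 0 := by
    rw [show ψ.restrictScalars A = j.restrictScalars A ∘ₗ f.restrictScalars A from
        LinearMap.ext fun n => (IsLocalizedModule.lift_apply S f ψ hu n).symm,
      LinearMap.rTensor_comp_apply, show (f.restrictScalars A).rTensor X x = φ x from rfl, ← hs]
    show AlgebraTensorModule.rTensor A X j ((s : C) • y) = 0
    rw [map_smul, show AlgebraTensorModule.rTensor A X j y = 0 from hy, smul_zero]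
  obtain ⟨t, ht, htx⟩ := hk X x h1
  have h2 : (s : C) • y = 0 := hs.trans ((IsLocalizedModule.eq_zero_iff S φ).mpr ⟨⟨t, ht⟩, htx⟩)
  exact ((Module.End.isUnit_iff _).mp (IsLocalizedModule.map_units φ s)).1 (h2.trans (smul_zero (s : C)).symm)

theorem flat_of_univInj {M M' : Type u} [AddCommGroup M] [Module A M] [AddCommGroup M'] [Module A M']
    (j : M →ₗ[A] M') (hj : CAlgX.UniversallyInjective A j) [Module.Flat A M'] : Module.Flat A M := by
  rw [Module.Flat.iff_lTensor_preserves_injective_linearMap]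
  intro X Y _ _ _ _ f hf a b hab
  refine hj X (Module.Flat.lTensor_preserves_injective_linearMap (M := M') f hf ?_)
  rw [← LinearMap.comp_apply, ← LinearMap.comp_apply, LinearMap.lTensor_comp_rTensor, ← LinearMap.rTensor_comp_lTensor,
    LinearMap.comp_apply, LinearMap.comp_apply, hab]

theorem Kill.flat {z : Ideal C} [z.IsPrime] {g : C} (hg : g ∉ z) (h : Kill A N z g) (hf : FlatCA.FlatAt A z N) :
    Module.Flat A (LocalizedModule (Submonoid.powers g) N) := by
  obtain ⟨j, hj⟩ := h.univInj hg
  haveI : Module.Flat A (LocalizedModule z.primeCompl N) := hf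
  exact flat_of_univInj j hj

/-- A module with separating coefficients is Mittag-Leffler. -/
theorem isMittagLeffler_of_coeff {D : Type u} [CommRing D] [Algebra A D] [Module.Flat A D] {σ : Type}
    (co : D →ₗ[A] σ → A) (hsep : ∀ (I : Ideal A) (d : D), (∀ ν, co d ν ∈ I) → d ∈ I.map (algebraMap A D)) :
    CAlg.IsMittagLeffler A D := by
  refine MLMod.isMittagLeffler_of_exists_smallest fun n x => ?_
  let F := Fin n → A
  let w := TensorProduct.comm A F D x
  let F' : Submodule A F := Submodule.span A (Set.range fun ν => RGFlat.tcoef co F ν w)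
  refine ⟨F', ?_, fun F'' hF'' => Submodule.span_le.mpr ?_⟩
  · have h0 : F'.mkQ.lTensor D w = 0 := RGFlat.eq_zero_of_tcoef co hsep _ fun ν => by
      rw [RGFlat.tcoef_map]
      exact (Submodule.Quotient.mk_eq_zero _).mpr (Submodule.subset_span ⟨ν, rfl⟩)
    obtain ⟨y, hy⟩ := ((lTensor_exact D (LinearMap.exact_subtype_mkQ F') F'.mkQ_surjective) w).mp h0
    refine ⟨TensorProduct.comm A D F' y, (TensorProduct.comm A F D).injective ?_⟩
    rw [show TensorProduct.comm A F D x = w from rfl, ← hy]
    clear hy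
    induction y with
    | zero => simp
    | tmul d v => rfl
    | add a b ha hb => simp only [map_add, ha, hb]
  · rintro _ ⟨ν, rfl⟩
    obtain ⟨y, hy⟩ := hF''
    have hw : w = F''.subtype.lTensor D (TensorProduct.comm A F'' D y) := by
      show TensorProduct.comm A F D x = _
      rw [← hy]
      clear hy
      induction y with
      | zero => simp
      | tmul d v => rfl
      | add a b ha hb => simp only [map_add, ha, hb]
    show RGFlat.tcoef co F ν w ∈ F''
    rw [hw, RGFlat.tcoef_map]
    exact Subtype.prop _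

theorem isMittagLeffler_pi (r : ℕ) {D : Type u} [AddCommGroup D] [Module A D] (hD : CAlg.IsMittagLeffler A D) :
    CAlg.IsMittagLeffler A (Fin r → D) :=
  MLMod.isMittagLeffler_congr (TensorProduct.piScalarRight A A D (Fin r))
    (MLMod.isMittagLeffler_tensor hD MLMod.isMittagLeffler_of_fp)

/-- An element killed at `P` in a flat extension is killed at the prime below. -/
theorem exists_ann_of_flat {T : Type u} [CommRing T] [Algebra C T] [Module.Flat C T] (z : Ideal C) (P : Ideal T)
    [P.IsPrime] [P.LiesOver z] {Y : Type u} [AddCommGroup Y] [Module C Y] (y : Y) {v : T} (hv : v ∉ P)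
    (h : v • ((1 : T) ⊗ₜ[C] y) = 0) : ∃ t ∉ z, t • y = 0 := by
  let L := Localization.AtPrime P
  haveI : Module.Flat T L := IsLocalization.flat L P.primeCompl
  haveI : Module.Flat C L := Module.Flat.trans C T L
  have hvy : algebraMap T L v • ((1 : L) ⊗ₜ[C] y) = 0 := by
    have hmap := congrArg ((IsScalarTower.toAlgHom C T L).toLinearMap.rTensor Y) h
    rw [map_zero, TensorProduct.smul_tmul'] at hmap
    rw [TensorProduct.smul_tmul']
    simpa using hmap
  have h1 : (1 : L) ⊗ₜ[C] y = 0 := (IsLocalization.map_units L (⟨v, hv⟩ : P.primeCompl)).smul_eq_zero.mp hvy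
  by_contra hall
  push Not at hall
  have hle : LinearMap.ker (LinearMap.toSpanSingleton C Y y) ≤ z := fun t ht => by
    by_contra h'
    exact hall t h' (LinearMap.mem_ker.mp ht)
  refine (IsLocalRing.maximalIdeal.isMaximal L).ne_top (top_le_iff.mp ?_)
  rw [← RGFlat.map_ann_eq_top y h1, Ideal.map_le_iff_le_comap]
  refine hle.trans fun a ha => ?_
  rw [Ideal.mem_comap, IsScalarTower.algebraMap_apply C T L, IsLocalization.AtPrime.to_map_mem_maximal_iff L P]
  exact (P.over_def z).le ha

/-- The image of `D(g')` under a flat map of finite presentation contains a basic neighbourhood. -/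
theorem exists_subset_image {T : Type u} [CommRing T] [Algebra C T] [Module.Flat C T]
    [Algebra.FinitePresentation C T] (z : Ideal C) [z.IsPrime] (P : Ideal T) [P.IsPrime] [P.LiesOver z]
    {g' : T} (hg' : g' ∉ P) :
    ∃ g ∉ z, ∀ (Q : Ideal C) [Q.IsPrime], g ∉ Q → ∃ Q' : Ideal T, Q'.IsPrime ∧ g' ∉ Q' ∧ Q'.comap (algebraMap C T) = Q := by
  have hopen : IsOpenMap (PrimeSpectrum.comap (algebraMap C T)) := PrimeSpectrum.isOpenMap_comap_of_hasGoingDown_of_finitePresentation
  have hzmem : (⟨z, inferInstance⟩ : PrimeSpectrum C) ∈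
      PrimeSpectrum.comap (algebraMap C T) '' (PrimeSpectrum.basicOpen g' : Set (PrimeSpectrum T)) :=
    ⟨⟨P, inferInstance⟩, hg', PrimeSpectrum.ext (P.over_def z).symm⟩
  obtain ⟨_, ⟨g, rfl⟩, hgz, hsub⟩ := PrimeSpectrum.isTopologicalBasis_basic_opens.exists_subset_of_mem_open hzmem
    (hopen _ PrimeSpectrum.isOpen_basicOpen)
  refine ⟨g, hgz, fun Q hQ hgQ => ?_⟩
  obtain ⟨Q', hQ', hQQ'⟩ := hsub (show (⟨Q, hQ⟩ : PrimeSpectrum C) ∈ _ from hgQ)
  exact ⟨Q'.asIdeal, Q'.2, hQ', congrArg PrimeSpectrum.asIdeal hQQ'⟩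

/-- Killing descends along a flat map of finite presentation. -/
theorem kill_of_cover {T : Type u} [CommRing T] [Algebra C T] [Module.Flat C T] (z : Ideal C) (g : C) (g' : T)
    (hcov : ∀ (Q : Ideal C) [Q.IsPrime], g ∉ Q → ∃ Q' : Ideal T, Q'.IsPrime ∧ g' ∉ Q' ∧ Q'.comap (algebraMap C T) = Q)
    (h : ∀ (X : Type u) [AddCommGroup X] [Module A X] (x : N ⊗[A] X), (∃ t ∉ z, t • x = 0) →
      ∃ k : ℕ, g' ^ k • ((1 : T) ⊗ₜ[C] x) = 0) : Kill A N z g := by
  intro X _ _ x hx
  refine RGFlat.exists_pow_smul_eq_zero g x fun Q hQ hgQ => ?_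
  obtain ⟨Q', hQ', hg', hQQ'⟩ := hcov Q hgQ
  haveI : Q'.LiesOver Q := ⟨hQQ'.symm⟩
  obtain ⟨k, hk⟩ := h X x hx
  exact exists_ann_of_flat Q Q' x (fun hmem => hg' (hQ'.mem_of_pow_mem k hmem)) hk

end Groth.Agent.HP
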