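import Groth.Agent.HP.FiberOpen
import Groth.Agent.RGFlat.FibreMisc
import Groth.Agent.MLMod.Flat
import Mathlib.RingTheory.Jacobson.Ring

/-!
The Raynaud–Gruson neighbourhood theorem over a henselian local ring, at any prime of the closed fibre.
-/

set_option autoImplicit false

universe u

open TensorProduct

attribute [local instance] Algebra.TensorProduct.rightAlgebra

namespace Groth.Agent.HP

theorem mem_range_iff_mkQ {A : Type u} [CommRing A] {M F : Type u} [AddCommGroup M] [Module A M] [AddCommGroup F]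
    [Module A F] (F' : Submodule A F) (x : F ⊗[A] M) :
    x ∈ LinearMap.range (F'.subtype.rTensor M) ↔ F'.mkQ.lTensor M (TensorProduct.comm A F M x) = 0 := by
  rw [← MLMod.comm_rTensor, LinearEquiv.map_eq_zero_iff]
  exact ((rTensor_exact M (LinearMap.exact_subtype_mkQ F') F'.mkQ_surjective) x).symm

variable {A : Type u} [CommRing A] [IsLocalRing A] {C : Type u} [CommRing C] [Algebra A C]

theorem surjective_closedFibre :
    Function.Surjective (Algebra.TensorProduct.includeRight (R := A) (A := (IsLocalRing.maximalIdeal A).ResidueField)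
      (B := C)) := fun b => by
  obtain ⟨r, hr, s, hrs⟩ := Ideal.Fiber.exists_smul_eq_one_tmul (IsLocalRing.maximalIdeal A) b
  obtain ⟨r', hr'⟩ := (IsLocalRing.notMem_maximalIdeal.mp hr).exists_left_inv
  refine ⟨r' • s, ?_⟩
  rw [map_smul, Algebra.TensorProduct.includeRight_apply, ← hrs, smul_smul, hr', one_smul]

variable [Algebra.FiniteType A C]

/-- Closed points of the closed fibre are dense. -/
theorem exists_closedPoint (q : Ideal C) [q.IsPrime] [q.LiesOver (IsLocalRing.maximalIdeal A)] {v : C} (hv : v ∉ q) :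
    ∃ z : Ideal C, z.IsMaximal ∧ z.LiesOver (IsLocalRing.maximalIdeal A) ∧ q ≤ z ∧ v ∉ z := by
  let m := IsLocalRing.maximalIdeal A
  let B := m.Fiber C
  let ι : C →ₐ[A] B := Algebra.TensorProduct.includeRight
  haveI : IsJacobsonRing B := isJacobsonRing_of_finiteType (A := m.ResidueField) (B := B)
  let qB := FlatCA.fiberIdeal m q
  haveI : qB.IsPrime := RGFlat.fiberIdeal_isPrime m q
  have hq : qB.comap ι.toRingHom = q := FlatMisc.Fiber.comap_fiberIdeal m q
  obtain ⟨M, ⟨hqM, hM⟩, hvM⟩ : ∃ M : Ideal B, (qB ≤ M ∧ M.IsMaximal) ∧ ι v ∉ M := by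
    by_contra hc
    push Not at hc
    have hmem : ι v ∈ qB.jacobson := Submodule.mem_sInf.mpr fun M hM => hc M hM
    rw [IsJacobsonRing.out' qB (Ideal.IsPrime.isRadical inferInstance)] at hmem
    exact hv (hq.le hmem)
  haveI := hM
  have hmax : (M.comap ι.toRingHom).IsMaximal :=
    Ideal.comap_isMaximal_of_surjective ι.toRingHom surjective_closedFibre
  refine ⟨M.comap ι.toRingHom, hmax, ⟨?_⟩, hq.ge.trans (Ideal.comap_mono hqM), hvM⟩
  exact (IsLocalRing.maximalIdeal.isMaximal A).eq_of_le (Ideal.comap_ne_top _ hmax.ne_top)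
    ((q.over_def m).le.trans (Ideal.comap_mono (hq.ge.trans (Ideal.comap_mono hqM))))

variable {N : Type u} [AddCommGroup N] [Module C N] [Module A N] [IsScalarTower A C N] [Module.Finite C N]

/-- Off the fibre assassin elements outside `q` are regular at points above `q`. -/
theorem exists_smul_eq_zero_above (q : Ideal C) [q.IsPrime] [q.LiesOver (IsLocalRing.maximalIdeal A)]
    (z : Ideal C) [z.IsPrime] [z.LiesOver (IsLocalRing.maximalIdeal A)] (h : C) (hz : h ∉ z)
    (hh : ∀ r ∈ associatedPrimes ((IsLocalRing.maximalIdeal A).Fiber C) (FlatCA.fiberMod (IsLocalRing.maximalIdeal A) C N),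
      ¬ r ≤ FlatCA.fiberIdeal (IsLocalRing.maximalIdeal A) q →
        (1 : (IsLocalRing.maximalIdeal A).ResidueField) ⊗ₜ[A] h ∈ r)
    (hflat : FlatCA.FlatAt A z N) (X : Type u) [AddCommGroup X] [Module A X] (x : N ⊗[A] X)
    (hx : ∃ t ∉ q, t • x = 0) : ∃ s ∉ z, s • x = 0 := by
  obtain ⟨t, ht, htx⟩ := hx
  let m := IsLocalRing.maximalIdeal A
  haveI := RGFlat.isNoetherianRing_fiber (S := C) m
  haveI := RGFlat.finite_fiberMod (S := C) (N := N) m
  let B := m.Fiber C
  let F := FlatCA.fiberMod m C N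
  let ι : C →+* B := (Algebra.TensorProduct.includeRight (R := A) (A := m.ResidueField) (B := C)).toRingHom
  let qB := FlatCA.fiberIdeal m q
  let zB := FlatCA.fiberIdeal m z
  have hq : qB.comap ι = q := FlatMisc.Fiber.comap_fiberIdeal m q
  have hzc : zB.comap ι = z := FlatMisc.Fiber.comap_fiberIdeal m z
  refine RGFlat.exists_smul_eq_zero_of_fibre_regular m z hflat t (fun w hw => ?_) X x htx
  let y := FlatCA.toFiberMod m C N w
  have hy : ι t • y = 0 := by
    rw [show ι t • y = t • y from CAlgA.FibreMod.includeRight_smul N m t y, ← map_smul]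
    exact CAlgA.FibreMod.toFiberMod_eq_zero_of_mem N m hw
  have hnle : ¬ (⊥ : Submodule B F).colon {y} ≤ zB := fun hle => by
    haveI : zB.IsPrime := RGFlat.fiberIdeal_isPrime m z
    obtain ⟨P, hP, hPz⟩ := Ideal.exists_minimalPrimes_le hle
    obtain ⟨y', hy'⟩ := Submodule.exists_eq_colon_of_mem_minimalPrimes hP
    have hPq : P ≤ qB := by
      by_contra hne
      exact hz (hzc.le (hPz (hh P (isAssociatedPrime_iff.mpr ⟨hP.1.1, y', hy'⟩) hne)))
    exact ht (hq.le (hPq (hP.1.2 (Submodule.mem_colon_singleton.mpr ((Submodule.mem_bot B).mpr hy)))))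
  obtain ⟨b, hb, hbz⟩ := SetLike.not_le_iff_exists.mp hnle
  rw [Submodule.mem_colon_singleton, Submodule.mem_bot] at hb
  obtain ⟨s, hs⟩ := surjective_closedFibre b
  refine ⟨s, fun hsz => hbz (hs ▸ hzc.ge hsz), RGFlat.mem_pN_of_toFiberMod_eq_zero N ?_⟩
  rw [map_smul, ← CAlgA.FibreMod.includeRight_smul N m s]
  rw [← hs] at hb
  exact hb

omit [IsLocalRing A] [Algebra.FiniteType A C] [Module.Finite C N] in
theorem flatAt_of_eq {q q' : Ideal C} [q.IsPrime] [q'.IsPrime] (h : q = q') (hf : FlatCA.FlatAt A q N) :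
    FlatCA.FlatAt A q' N := flatAt_congr_ideal h hf

end Groth.Agent.HP

namespace Groth.Agent.HP

/-- Raynaud–Gruson over a henselian base: near `q` the module is, for every test module, as at `q`,
and its stalk is Mittag-Leffler. -/
theorem hp_main {A : Type u} [CommRing A] [HenselianLocalRing A] {C : Type u} [CommRing C] [Algebra A C]
    [Algebra.FiniteType A C] (q : Ideal C) [q.IsPrime] [q.LiesOver (IsLocalRing.maximalIdeal A)]
    (N : Type u) [AddCommGroup N] [Module C N] [Module A N] [IsScalarTower A C N] [Module.Finite C N]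
    (hN : FlatCA.FlatAt A q N) :
    (∃ g ∉ q, Kill A N q g) ∧ CAlg.IsMittagLeffler A (LocalizedModule q.primeCompl N) := by
  classical
  let m := IsLocalRing.maximalIdeal A
  let B := m.Fiber C
  let ι : C →ₐ[A] B := Algebra.TensorProduct.includeRight
  let qB := FlatCA.fiberIdeal m q
  haveI : qB.IsPrime := RGFlat.fiberIdeal_isPrime m q
  have hq : qB.comap ι.toRingHom = q := FlatMisc.Fiber.comap_fiberIdeal m q
  haveI : (qB.comap ι.toRingHom).IsPrime := Ideal.comap_isPrime _ _
  obtain ⟨_, ⟨b, rfl⟩, hbq, hsub⟩ := PrimeSpectrum.isTopologicalBasis_basic_opens.exists_subset_of_mem_open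
    (show (⟨qB, inferInstance⟩ : PrimeSpectrum B) ∈ _ from flatAt_congr_ideal hq.symm hN)
    (isOpen_flatLocus (R := A) N m)
  obtain ⟨u0, rfl⟩ := surjective_closedFibre b
  have hu0 : u0 ∉ q := fun h => hbq (hq.ge h)
  have hflatU : ∀ (z : Ideal C) [z.IsPrime] [z.LiesOver m], u0 ∉ z → FlatCA.FlatAt A z N := by
    intro z _ _ hz
    let zB := FlatCA.fiberIdeal m z
    haveI : zB.IsPrime := RGFlat.fiberIdeal_isPrime m z
    have hzc : zB.comap ι.toRingHom = z := FlatMisc.Fiber.comap_fiberIdeal m z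
    haveI : (zB.comap ι.toRingHom).IsPrime := Ideal.comap_isPrime _ _
    have hmem := hsub (show (⟨zB, inferInstance⟩ : PrimeSpectrum B) ∈ _ from fun h => hz (hzc.le h))
    exact flatAt_congr_ideal hzc hmem
  obtain ⟨h, hhq, hh⟩ := RGFlat.exists_notMem_mem_assoc (N := N) m q
  have key : ∀ v ∉ q, ∃ (z : Ideal C) (_ : z.IsPrime), v ∉ z ∧ q ≤ z ∧ FlatCA.FlatAt A z N ∧
      (∃ g ∉ z, Kill A N z g) ∧ CAlg.IsMittagLeffler A (LocalizedModule z.primeCompl N) ∧
      ∀ (X : Type u) [AddCommGroup X] [Module A X] (x : N ⊗[A] X), (∃ t ∉ q, t • x = 0) → ∃ s ∉ z, s • x = 0 := by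
    intro v hv
    obtain ⟨z, hz, hzm, hqz, hvz⟩ := exists_closedPoint (A := A) q (q.primeCompl.mul_mem (q.primeCompl.mul_mem hu0 hhq) hv)
    haveI := hz
    haveI := hzm
    have h1 : u0 * h * v ∉ z := hvz
    have hu0z : u0 ∉ z := fun h' => h1 (z.mul_mem_right _ (z.mul_mem_right _ h'))
    have hhz : h ∉ z := fun h' => h1 (z.mul_mem_right _ (z.mul_mem_left _ h'))
    have hflat := hflatU z hu0z
    obtain ⟨hK, hML⟩ := hp_closed z (Ideal.map_le_iff_le_comap.mpr (z.over_def m).le) N hflat
    exact ⟨z, inferInstance, fun h' => h1 (z.mul_mem_left _ h'), hqz, hflat, hK, hML,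
      fun X _ _ x hx => exists_smul_eq_zero_above q z h hhz hh hflat X x hx⟩
  refine ⟨?_, ?_⟩
  · obtain ⟨z, _, -, hqz, -, ⟨g, hg, hK⟩, -, habove⟩ := key 1 q.primeCompl.one_mem
    exact ⟨g, fun h => hg (hqz h), fun X _ _ x hx => hK X x (habove X x hx)⟩
  haveI : Module.Flat A (LocalizedModule q.primeCompl N) := hN
  refine MLMod.isMittagLeffler_of_exists_smallest fun n x => ?_
  let F := Fin n → A
  let Nq := LocalizedModule q.primeCompl N
  let x' := TensorProduct.comm A F Nq x
  let φq := AlgebraTensorModule.rTensor A F (LocalizedModule.mkLinearMap q.primeCompl N)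
  haveI : IsLocalizedModule q.primeCompl φq := inferInstance
  obtain ⟨⟨w, v⟩, hw⟩ := IsLocalizedModule.surj q.primeCompl φq x'
  obtain ⟨z, _, hvz, hqz, hflat, -, hML, habove⟩ := key v v.2
  haveI : Module.Flat A (LocalizedModule z.primeCompl N) := hflat
  let ηz := (LocalizedModule.mkLinearMap z.primeCompl N).restrictScalars A
  let wz := ηz.rTensor F w
  obtain ⟨F', -, hF', hmin⟩ := MLMod.exists_smallest hML ((TensorProduct.comm A F _).symm wz)
  have key2 : ∀ F'' : Submodule A F, x ∈ LinearMap.range (F''.subtype.rTensor Nq) ↔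
      (TensorProduct.comm A F _).symm wz ∈ LinearMap.range (F''.subtype.rTensor (LocalizedModule z.primeCompl N)) := by
    intro F''
    rw [mem_range_iff_mkQ, mem_range_iff_mkQ, LinearEquiv.apply_symm_apply]
    obtain ⟨j, hj, hjη⟩ := univInj_lift (A := A) (N := N) z.primeCompl q.primeCompl (fun c hc h => hc (hqz h))
      fun X _ _ x hx => habove X x hx
    let l : Nq ⊗[A] F →ₗ[C] Nq ⊗[A] (F ⧸ F'') := AlgebraTensorModule.lTensor C Nq F''.mkQ
    have hnat : ∀ w, j.rTensor (F ⧸ F'') (F''.mkQ.lTensor _ (ηz.rTensor F w)) = l (φq w) := fun w => by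
      induction w with
      | zero => simp
      | tmul a b =>
        simp [l, φq, ηz]
        exact congrArg (· ⊗ₜ[A] Submodule.Quotient.mk b) (hjη a)
      | add a b ha hb => simp only [map_add, ha, hb]
    constructor
    · intro h0
      refine hj _ ?_
      rw [hnat, map_zero, ← hw, Submonoid.smul_def, map_smul]
      rw [show l x' = 0 from h0, smul_zero]
    · intro h0
      have h1 : (v : C) • l x' = 0 := by
        rw [← map_smul, ← Submonoid.smul_def, hw, ← hnat, h0, map_zero]
      let ψ := AlgebraTensorModule.rTensor A (F ⧸ F'') (LocalizedModule.mkLinearMap q.primeCompl N)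
      haveI : IsLocalizedModule q.primeCompl ψ := inferInstance
      exact ((Module.End.isUnit_iff _).mp (IsLocalizedModule.map_units ψ v)).1 (h1.trans (smul_zero (v : C)).symm)
  exact ⟨F', (key2 F').mpr hF', fun F'' h'' => hmin F'' ((key2 F'').mp h'')⟩

end Groth.Agent.HP
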