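import Groth.Agent.HP.Setting
import Groth.Agent.RGFlat.Spread

/-!
The neighbourhood theorem over local rings of étale neighbourhoods.
-/

set_option autoImplicit false

universe u

open TensorProduct

attribute [local instance] Algebra.TensorProduct.rightAlgebra

namespace Groth.Agent.HP

variable {R : Type u} [CommRing R] (p : Ideal R) [p.IsPrime] {S : Type u} [CommRing S] [Algebra R S]

/-- The base change of `S` to the henselization. -/
abbrev Sp (S : Type u) [CommRing S] [Algebra R S] : Type u := Hp p ⊗[R] S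

theorem exists_prime_above (q : Ideal S) [q.IsPrime] [q.LiesOver p] :
    ∃ qh : Ideal (Sp p S), qh.IsPrime ∧ qh.LiesOver q ∧ qh.LiesOver (IsLocalRing.maximalIdeal (Hp p)) := by
  haveI : IsScalarTower R S (Sp p S) := IsScalarTower.of_algebraMap_eq fun a => by
    show algebraMap R (Hp p) a ⊗ₜ[R] (1 : S) = (1 : Hp p) ⊗ₜ[R] algebraMap R S a
    rw [Algebra.algebraMap_eq_smul_one, Algebra.algebraMap_eq_smul_one, TensorProduct.smul_tmul]
  haveI : Algebra.IsPushout R S (Hp p) (Sp p S) := Algebra.IsPushout.symm inferInstance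
  obtain ⟨qh, hqh, h1, h2⟩ := FlatMor.FlatAtBC.exists_prime_of_pushout (R := R) (S := S) (R' := Hp p) (S' := Sp p S)
    p q (IsLocalRing.maximalIdeal (Hp p)) (q.over_def p).symm ((IsLocalRing.maximalIdeal (Hp p)).over_def p).symm
  exact ⟨qh, hqh, ⟨h1.symm⟩, ⟨h2.symm⟩⟩

/-- The neighbourhood over the henselization. -/
theorem exists_hensel_nbhd [Algebra.FiniteType R S] (N : Type u) [AddCommGroup N] [Module S N] [Module R N]
    [IsScalarTower R S N] [Module.Finite S N] (q : Ideal S) [q.IsPrime] (qh : Ideal (Sp p S)) [qh.IsPrime]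
    [qh.LiesOver q] [qh.LiesOver (IsLocalRing.maximalIdeal (Hp p))] (hN : FlatCA.FlatAt R q N) :
    ∃ gh ∉ qh, Kill (Hp p) (Sp p S ⊗[S] N) qh gh ∧ ∀ v ∉ qh,
      Module.Projective (Hp p) (LocalizedModule (Submonoid.powers (gh * v)) (Sp p S ⊗[S] N)) := by
  haveI : IsScalarTower R S (Sp p S) := IsScalarTower.of_algebraMap_eq fun a => by
    show algebraMap R (Hp p) a ⊗ₜ[R] (1 : S) = (1 : Hp p) ⊗ₜ[R] algebraMap R S a
    rw [Algebra.algebraMap_eq_smul_one, Algebra.algebraMap_eq_smul_one, TensorProduct.smul_tmul]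
  haveI : Algebra.IsPushout R S (Hp p) (Sp p S) := Algebra.IsPushout.symm inferInstance
  have hflat : FlatCA.FlatAt (Hp p) qh (Sp p S ⊗[S] N) :=
    FlatMor.FlatAtBC.flatAt_of_baseChange (R := R) (S := S) (R' := Hp p) (S' := Sp p S)
      (TensorProduct.mk S (Sp p S) N 1) (TensorProduct.isBaseChange S N (Sp p S)) q qh (qh.over_def q).symm hN
  exact exists_nbhd qh (Sp p S ⊗[S] N) hflat

theorem Kill.pow_smul_eq_zero {A C : Type u} [CommRing A] [CommRing C] [Algebra A C] {N : Type u} [AddCommGroup N]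
    [Module C N] [Module A N] [IsScalarTower A C N] {z : Ideal C} {g : C} (h : Kill A N z g) (w : N)
    (hw : ∃ t ∉ z, t • w = 0) : ∃ k : ℕ, g ^ k • w = 0 := by
  obtain ⟨t, ht, htw⟩ := hw
  let e := AlgebraTensorModule.rid A C N
  obtain ⟨k, hk⟩ := h A (e.symm w) ⟨t, ht, by rw [← map_smul, htw, map_zero]⟩
  exact ⟨k, e.symm.injective (by rw [map_smul, hk, map_zero])⟩

theorem exists_finset_range {ι : Type u} [Fintype ι] (gh : ι → Sp p S) :
    ∃ s : Finset (Hp p), ∀ (R' : Type u) [CommRing R'] [Algebra R R'] (θ : R' →ₐ[R] Hp p),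
      (∀ z ∈ s, z ∈ θ.range) → ∀ i, ∃ g0 : R' ⊗[R] S, Algebra.TensorProduct.map θ (AlgHom.id R S) g0 = gh i := by
  classical
  choose F hF using fun i => TensorProduct.exists_finset (gh i)
  refine ⟨Finset.univ.biUnion fun i => (F i).image Prod.fst, fun R' _ _ θ hθ i => ?_⟩
  have hex : ∀ x ∈ F i, ∃ a : R', θ a = x.1 := fun x hx =>
    hθ _ (Finset.mem_biUnion.mpr ⟨i, Finset.mem_univ _, Finset.mem_image_of_mem _ hx⟩)
  choose! a ha using hex
  refine ⟨∑ x ∈ F i, a x ⊗ₜ x.2, ?_⟩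
  rw [map_sum, hF i]
  exact Finset.sum_congr rfl fun x hx => by rw [Algebra.TensorProduct.map_tmul, ha x hx, AlgHom.id_apply]

set_option maxHeartbeats 1600000 in
/-- Properties over the henselization descend to an étale neighbourhood. -/
theorem exists_etale_nhd {ι : Type u} [Finite ι] (N : ι → Type u) [∀ i, AddCommGroup (N i)] [∀ i, Module S (N i)]
    [∀ i, Module R (N i)] [∀ i, IsScalarTower R S (N i)]
    (q : ι → Ideal S) [∀ i, (q i).IsPrime] (qh : ι → Ideal (Sp p S)) [∀ i, (qh i).IsPrime]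
    [∀ i, (qh i).LiesOver (q i)] [∀ i, (qh i).LiesOver (IsLocalRing.maximalIdeal (Hp p))]
    (gh : ι → Sp p S) (hgh : ∀ i, gh i ∉ qh i)
    (hflat : ∀ i, FlatCA.FlatAt R (q i) (N i))
    (hK : ∀ i, Kill (Hp p) (Sp p S ⊗[S] N i) (qh i) (gh i))
    (hP : ∀ i, Module.Projective (Hp p) (LocalizedModule (Submonoid.powers (gh i)) (Sp p S ⊗[S] N i))) :
    ∃ (R' : Type u) (_ : CommRing R') (_ : Algebra R R') (p' : Ideal R') (_ : p'.IsPrime),
      FlatCA.IsEtaleNhd R R' p p' ∧
      ∀ (SA : Type u) [CommRing SA] [Algebra R SA] [Algebra S SA] [Algebra (Localization.AtPrime p') SA]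
        [IsScalarTower R S SA] [IsScalarTower R (Localization.AtPrime p') SA]
        [Algebra.IsPushout R S (Localization.AtPrime p') SA],
        ∃ g : ι → SA,
          ((∀ (Qh : Ideal (Sp p S)) [Qh.IsPrime], Qh.LiesOver (IsLocalRing.maximalIdeal (Hp p)) → ∃ i, gh i ∉ Qh) →
            ∀ (Q : Ideal SA) [Q.IsPrime], Q.LiesOver (IsLocalRing.maximalIdeal (Localization.AtPrime p')) → ∃ i, g i ∉ Q) ∧
          ∀ i, (∀ (Q : Ideal SA) [Q.IsPrime], Q.LiesOver (q i) →
              Q.LiesOver (IsLocalRing.maximalIdeal (Localization.AtPrime p')) →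
              g i ∉ Q ∧ Kill (Localization.AtPrime p') (SA ⊗[S] N i) Q (g i) ∧
                FlatCA.FlatAt (Localization.AtPrime p') Q (SA ⊗[S] N i)) ∧
            Module.Free (Localization.AtPrime p') (LocalizedModule (Submonoid.powers (g i)) (SA ⊗[S] N i)) := by
  classical
  haveI := Fintype.ofFinite ι
  obtain ⟨s, hs⟩ := exists_finset_range p gh
  obtain ⟨R', _, _, p', _, hnhd, θ, hp', hθ⟩ := exists_nhd p s
  haveI := hnhd.1
  choose g0 hg0 using hs R' θ hθ
  obtain ⟨φ, hφ, hff⟩ := exists_local_map p θ p' hp'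
  refine ⟨R', _, _, p', inferInstance, hnhd, ?_⟩
  intro SA _ _ _ _ _ _ _
  let A := Localization.AtPrime p'
  letI : Algebra A (Hp p) := φ.toRingHom.toAlgebra
  haveI : Module.FaithfullyFlat A (Hp p) := hff
  haveI : IsScalarTower R A (Hp p) := IsScalarTower.of_algebraMap_eq fun a => (φ.commutes a).symm
  haveI : IsScalarTower R S (Sp p S) := IsScalarTower.of_algebraMap_eq fun a => by
    show algebraMap R (Hp p) a ⊗ₜ[R] (1 : S) = (1 : Hp p) ⊗ₜ[R] algebraMap R S a
    rw [Algebra.algebraMap_eq_smul_one, Algebra.algebraMap_eq_smul_one, TensorProduct.smul_tmul]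
  haveI : Algebra.IsPushout R S (Hp p) (Sp p S) := Algebra.IsPushout.symm inferInstance
  let Φ : SA →ₐ[R] Sp p S := Algebra.pushoutDesc SA (IsScalarTower.toAlgHom R S (Sp p S))
    (IsScalarTower.toAlgHom R A (Sp p S)) fun _ _ => Commute.all _ _
  have hΦS : ∀ x, Φ (algebraMap S SA x) = algebraMap S (Sp p S) x := fun x => Algebra.pushoutDesc_left _ _ _ _ x
  have hΦA : ∀ x, Φ (algebraMap A SA x) = algebraMap A (Sp p S) x := fun x => Algebra.pushoutDesc_right _ _ _ _ x
  letI : Algebra SA (Sp p S) := Φ.toRingHom.toAlgebra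
  haveI : IsScalarTower S SA (Sp p S) := IsScalarTower.of_algebraMap_eq fun x => (hΦS x).symm
  haveI : IsScalarTower A SA (Sp p S) := IsScalarTower.of_algebraMap_eq fun x => (hΦA x).symm
  haveI : Algebra.IsPushout R A S SA := Algebra.IsPushout.symm inferInstance
  haveI : Algebra.IsPushout R (Hp p) S (Sp p S) := inferInstance
  haveI hpush : Algebra.IsPushout A SA (Hp p) (Sp p S) :=
    (Algebra.IsPushout.comp_iff R A S SA (T := Hp p) (T' := Sp p S)).mp inferInstance |> Algebra.IsPushout.symm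
  let toSA : R' ⊗[R] S →ₐ[R] SA := Algebra.TensorProduct.lift
    ((IsScalarTower.toAlgHom R A SA).comp (IsScalarTower.toAlgHom R R' A)) (IsScalarTower.toAlgHom R S SA)
    fun _ _ => Commute.all _ _
  have htoSA : ∀ c, Φ (toSA c) = Algebra.TensorProduct.map θ (AlgHom.id R S) c := fun c => by
    induction c with
    | zero => simp
    | tmul a x =>
      rw [Algebra.TensorProduct.map_tmul, Algebra.TensorProduct.lift_tmul, map_mul]
      show Φ (algebraMap A SA (algebraMap R' A a)) * Φ (algebraMap S SA x) = _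
      rw [hΦS, hΦA, AlgHom.id_apply, ← hφ]
      show (algebraMap A (Hp p) (algebraMap R' A a) ⊗ₜ[R] (1 : S)) * ((1 : Hp p) ⊗ₜ[R] x) = _
      rw [Algebra.TensorProduct.tmul_mul_tmul, mul_one, one_mul]
      rfl
    | add a b ha hb => simp only [map_add, ha, hb]
  let g := fun i => toSA (g0 i)
  have hg : ∀ i, algebraMap SA (Sp p S) (g i) = gh i := fun i => (htoSA (g0 i)).trans (hg0 i)
  have hmA : (IsLocalRing.maximalIdeal (Hp p)).comap (algebraMap A (Hp p)) = IsLocalRing.maximalIdeal A := by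
    obtain ⟨M, hM, hMA⟩ : ∃ M : Ideal (Hp p), M.IsPrime ∧ M.comap (algebraMap A (Hp p)) = IsLocalRing.maximalIdeal A := by
      obtain ⟨M, hM⟩ := PrimeSpectrum.comap_surjective_of_faithfullyFlat (A := A) (B := Hp p)
        ⟨IsLocalRing.maximalIdeal A, inferInstance⟩
      exact ⟨M.asIdeal, M.2, congrArg PrimeSpectrum.asIdeal hM⟩
    exact ((IsLocalRing.maximalIdeal.isMaximal A).eq_of_le (Ideal.comap_ne_top _ Ideal.IsPrime.ne_top')
      (hMA.ge.trans (Ideal.comap_mono (IsLocalRing.le_maximalIdeal hM.ne_top)))).symm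
  have habove : ∀ (Q : Ideal SA) [Q.IsPrime], Q.LiesOver (IsLocalRing.maximalIdeal A) →
      ∃ Qh : Ideal (Sp p S), Qh.IsPrime ∧ Qh.comap (algebraMap SA (Sp p S)) = Q ∧
        Qh.LiesOver (IsLocalRing.maximalIdeal (Hp p)) := by
    intro Q _ hQ
    obtain ⟨Qh, hQh, h1, h2⟩ := FlatMor.FlatAtBC.exists_prime_of_pushout (R := A) (S := SA) (R' := Hp p) (S' := Sp p S)
      (IsLocalRing.maximalIdeal A) Q (IsLocalRing.maximalIdeal (Hp p)) hQ.over.symm hmA
    exact ⟨Qh, hQh, h1, ⟨h2.symm⟩⟩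
  refine ⟨g, fun hcov Q _ hQ => ?_, fun i => ?_⟩
  · obtain ⟨Qh, hQh, h1, h2⟩ := habove Q hQ
    haveI := hQh
    obtain ⟨i, hi⟩ := hcov Qh h2
    exact ⟨i, fun hgi => hi (hg i ▸ h1.ge hgi)⟩
  let e : Sp p S ⊗[S] N i ≃ₗ[Sp p S] Sp p S ⊗[SA] (SA ⊗[S] N i) :=
    (AlgebraTensorModule.cancelBaseChange S SA (Sp p S) (Sp p S) (N i)).symm
  refine ⟨fun Q _ hQq hQm => ?_, ?_⟩
  · haveI := hQq
    haveI := hQm
    obtain ⟨Qh, hQh, h1, h2⟩ := habove Q hQm
    haveI := hQh
    haveI := h2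
    haveI : Qh.LiesOver (q i) := ⟨by
      rw [Q.over_def (q i), ← h1, Ideal.under_def, Ideal.under_def, Ideal.comap_comap, ← IsScalarTower.algebraMap_eq]⟩
    have hQh' : Qh = qh i := eq_of_liesOver p (q i) Qh (qh i)
    refine ⟨fun hgQ => hgh i (hQh' ▸ hg i ▸ h1.ge hgQ), ?_, ?_⟩
    · refine Kill.descend (Ah := Hp p) (Sh := Sp p S) Q Qh h1.le (g i) ?_
      rw [hQh', hg i]
      exact (hK i).congr e
    · exact FlatMor.FlatAtBC.flatAt_of_baseChange (R := R) (S := S) (R' := A) (S' := SA)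
        (TensorProduct.mk S SA (N i) 1) (TensorProduct.isBaseChange S (N i) SA) (q i) Q (Q.over_def (q i)).symm (hflat i)
  · haveI := hP i
    haveI : Module.Projective A (LocalizedModule (Submonoid.powers (g i)) (SA ⊗[S] N i)) := by
      refine projective_descend (Ah := Hp p) (Sh := Sp p S) (g i) ?_
      rw [hg i]
      let eloc := IsLocalizedModule.iso (Submonoid.powers (gh i))
        ((LocalizedModule.mkLinearMap (Submonoid.powers (gh i)) (Sp p S ⊗[SA] (SA ⊗[S] N i))).comp e.toLinearMap)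
      exact Module.Projective.of_equiv (eloc.restrictScalars (Hp p))
    exact S0582.result A (LocalizedModule (Submonoid.powers (g i)) (SA ⊗[S] N i))

end Groth.Agent.HP
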