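import Groth.Agent.HP.Apps

/-!
The neighbourhood statements at one point and along a fibre.
-/

set_option autoImplicit false

universe u

open TensorProduct

attribute [local instance] Algebra.TensorProduct.rightAlgebra

namespace Groth.Agent.HP

variable {R : Type u} [CommRing R] (p : Ideal R) [p.IsPrime] {S : Type u} [CommRing S] [Algebra R S]

theorem exists_prime_model (q : Ideal S) [q.IsPrime] [q.LiesOver p] {R' : Type u} [CommRing R'] [Algebra R R']
    (p' : Ideal R') [p'.IsPrime] [p'.LiesOver p]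
    (SA : Type u) [CommRing SA] [Algebra R SA] [Algebra S SA] [Algebra (Localization.AtPrime p') SA]
    [IsScalarTower R S SA] [IsScalarTower R (Localization.AtPrime p') SA]
    [Algebra.IsPushout R S (Localization.AtPrime p') SA] :
    ∃ Q : Ideal SA, Q.IsPrime ∧ Q.LiesOver q ∧ Q.LiesOver (IsLocalRing.maximalIdeal (Localization.AtPrime p')) := by
  obtain ⟨Q, hQ, h1, h2⟩ := FlatMor.FlatAtBC.exists_prime_of_pushout (R := R) (S := S)
    (R' := Localization.AtPrime p') (S' := SA) p q (IsLocalRing.maximalIdeal (Localization.AtPrime p'))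
    (q.over_def p).symm (by
      rw [IsScalarTower.algebraMap_eq R R' (Localization.AtPrime p'), ← Ideal.comap_comap,
        show Ideal.comap (algebraMap R' (Localization.AtPrime p')) (IsLocalRing.maximalIdeal (Localization.AtPrime p')) = p' from
          Localization.AtPrime.under_maximalIdeal]
      exact (p'.over_def p).symm)
  exact ⟨Q, hQ, ⟨h1.symm⟩, ⟨h2.symm⟩⟩

/-- One point, one module. -/
theorem exists_nhd_point [Algebra.FiniteType R S] (N : Type u) [AddCommGroup N] [Module S N] [Module R N]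
    [IsScalarTower R S N] [Module.Finite S N] (q : Ideal S) [q.IsPrime] [q.LiesOver p] (hN : FlatCA.FlatAt R q N) :
    ∃ (R' : Type u) (_ : CommRing R') (_ : Algebra R R') (p' : Ideal R') (_ : p'.IsPrime),
      FlatCA.IsEtaleNhd R R' p p' ∧
      ∀ (SA : Type u) [CommRing SA] [Algebra R SA] [Algebra S SA] [Algebra (Localization.AtPrime p') SA]
        [IsScalarTower R S SA] [IsScalarTower R (Localization.AtPrime p') SA]
        [Algebra.IsPushout R S (Localization.AtPrime p') SA],
        ∃ g : SA,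
          (∃ Q : Ideal SA, Q.IsPrime ∧ Q.LiesOver q ∧ Q.LiesOver (IsLocalRing.maximalIdeal (Localization.AtPrime p'))) ∧
          (∀ (Q : Ideal SA) [Q.IsPrime], Q.LiesOver q →
              Q.LiesOver (IsLocalRing.maximalIdeal (Localization.AtPrime p')) →
              g ∉ Q ∧ Kill (Localization.AtPrime p') (SA ⊗[S] N) Q g) ∧
            Module.Free (Localization.AtPrime p') (LocalizedModule (Submonoid.powers g) (SA ⊗[S] N)) := by
  obtain ⟨qh, _, _, _⟩ := exists_prime_above p q
  obtain ⟨gh, hgh, hK, hP⟩ := exists_hensel_nbhd p N q qh hN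
  obtain ⟨R', _, _, p', _, hnhd, h⟩ := exists_etale_nhd p (ι := PUnit.{u+1}) (fun _ => N) (fun _ => q) (fun _ => qh)
    (fun _ => gh * 1) (fun _ => by rwa [mul_one]) (fun _ => hN) (fun _ => hK.mul 1)
    (fun _ => hP 1 qh.primeCompl.one_mem)
  refine ⟨R', _, _, p', inferInstance, hnhd, ?_⟩
  intro SA _ _ _ _ _ _ _
  obtain ⟨g, -, hg⟩ := h SA
  haveI := hnhd.2.1
  exact ⟨g ⟨⟩, exists_prime_model p q p' SA,
    fun Q _ h1 h2 => ⟨((hg ⟨⟩).1 Q h1 h2).1, ((hg ⟨⟩).1 Q h1 h2).2.1⟩, (hg ⟨⟩).2⟩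

/-- One point, with finite presentation. -/
theorem exists_nhd_point_fp [Algebra.FiniteType R S] (N : Type u) [AddCommGroup N] [Module S N] [Module R N]
    [IsScalarTower R S N] [Module.Finite S N] (q : Ideal S) [q.IsPrime] [q.LiesOver p] (hN : FlatCA.FlatAt R q N) :
    ∃ (R' : Type u) (_ : CommRing R') (_ : Algebra R R') (p' : Ideal R') (_ : p'.IsPrime),
      FlatCA.IsEtaleNhd R R' p p' ∧
      ∀ (SA NA : Type u) [CommRing SA] [Algebra R SA] [Algebra S SA] [Algebra (Localization.AtPrime p') SA]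
        [IsScalarTower R S SA] [IsScalarTower R (Localization.AtPrime p') SA]
        [Algebra.IsPushout R S (Localization.AtPrime p') SA]
        [AddCommGroup NA] [Module SA NA] [Module S NA] [IsScalarTower S SA NA]
        [Module (Localization.AtPrime p') NA] [IsScalarTower (Localization.AtPrime p') SA NA]
        (f : N →ₗ[S] NA), IsBaseChange SA f →
        ∃ g : SA,
          (∃ Q : Ideal SA, Q.IsPrime ∧ Q.LiesOver q ∧ Q.LiesOver (IsLocalRing.maximalIdeal (Localization.AtPrime p'))) ∧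
          (∀ (Q : Ideal SA) [Q.IsPrime], Q.LiesOver q →
              Q.LiesOver (IsLocalRing.maximalIdeal (Localization.AtPrime p')) → g ∉ Q) ∧
          Module.FinitePresentation (Localization.Away g) (LocalizedModule (Submonoid.powers g) NA) ∧
          Module.Free (Localization.AtPrime p') (LocalizedModule (Submonoid.powers g) NA) := by
  obtain ⟨r, K, π, hK, hπ, hker, hflat⟩ := exists_cover N q hN
  haveI : Module.FinitePresentation S ((Fin r → S) ⧸ K) := Module.finitePresentation_of_surjective K.mkQ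
    K.mkQ_surjective (by rwa [Submodule.ker_mkQ])
  obtain ⟨R', _, _, p', _, hnhd, h⟩ := exists_nhd_point p ((Fin r → S) ⧸ K) q hflat
  refine ⟨R', _, _, p', inferInstance, hnhd, ?_⟩
  intro SA NA _ _ _ _ _ _ _ _ _ _ _ _ _ f hf
  obtain ⟨g, ⟨Q, hQ, hQq, hQm⟩, hg, hfree⟩ := h SA
  haveI := hQ
  haveI := hQq
  exact ⟨g, ⟨Q, hQ, hQq, hQm⟩, fun Q' _ h1 h2 => (hg Q' h1 h2).1,
    fp_and_free_of_cover π hπ q hker Q g (hg Q hQq hQm).2 hfree f hf⟩

/-- Along a fibre: finitely many free neighbourhoods over one étale neighbourhood. -/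
theorem exists_nhd_fibre [Algebra.FiniteType R S] (N : Type u) [AddCommGroup N] [Module S N] [Module R N]
    [IsScalarTower R S N] [Module.Finite S N]
    (hN : ∀ (q : Ideal S) [q.IsPrime], q.LiesOver p → FlatCA.FlatAt R q N) :
    ∃ (R' : Type u) (_ : CommRing R') (_ : Algebra R R') (p' : Ideal R') (_ : p'.IsPrime),
      FlatCA.IsEtaleNhd R R' p p' ∧
      ∀ (SA NA : Type u) [CommRing SA] [Algebra R SA] [Algebra S SA] [Algebra (Localization.AtPrime p') SA]
        [IsScalarTower R S SA] [IsScalarTower R (Localization.AtPrime p') SA]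
        [Algebra.IsPushout R S (Localization.AtPrime p') SA]
        [AddCommGroup NA] [Module SA NA] [Module S NA] [IsScalarTower S SA NA]
        [Module (Localization.AtPrime p') NA] [IsScalarTower (Localization.AtPrime p') SA NA]
        (f : N →ₗ[S] NA), IsBaseChange SA f →
        ∃ (ι : Type u) (_ : Finite ι) (g : ι → SA),
          (∀ (Q : Ideal SA) [Q.IsPrime], Q.LiesOver (IsLocalRing.maximalIdeal (Localization.AtPrime p')) → ∃ i, g i ∉ Q) ∧
          ∀ i, Module.FinitePresentation (Localization.Away (g i)) (LocalizedModule (Submonoid.powers (g i)) NA) ∧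
            Module.Free (Localization.AtPrime p') (LocalizedModule (Submonoid.powers (g i)) NA) := by
  classical
  have hpt : ∀ (Qh : PrimeSpectrum (Sp p S)) (h : Qh.asIdeal.LiesOver (IsLocalRing.maximalIdeal (Hp p))),
      ∃ (r : ℕ) (K : Submodule S (Fin r → S)) (π : ((Fin r → S) ⧸ K) →ₗ[S] N) (gh : Sp p S),
        K.FG ∧ Function.Surjective π ∧
        (∀ x, π x = 0 → ∃ s : S, s ∉ Qh.asIdeal.comap (algebraMap S (Sp p S)) ∧ s • x = 0) ∧
        FlatCA.FlatAt R (Qh.asIdeal.comap (algebraMap S (Sp p S))) ((Fin r → S) ⧸ K) ∧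
        gh ∉ Qh.asIdeal ∧ Kill (Hp p) (Sp p S ⊗[S] ((Fin r → S) ⧸ K)) Qh.asIdeal gh ∧
        Module.Projective (Hp p) (LocalizedModule (Submonoid.powers gh) (Sp p S ⊗[S] ((Fin r → S) ⧸ K))) := by
    intro Qh hQh
    let q := Qh.asIdeal.comap (algebraMap S (Sp p S))
    haveI : q.IsPrime := Ideal.comap_isPrime _ _
    haveI := hQh
    haveI : q.LiesOver p := liesOver_comap p Qh.asIdeal
    haveI : Qh.asIdeal.LiesOver q := ⟨rfl⟩
    obtain ⟨r, K, π, hK, hπ, hker, hflat⟩ := exists_cover N q (hN q inferInstance)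
    obtain ⟨gh, hgh, hKill, hP⟩ := exists_hensel_nbhd p ((Fin r → S) ⧸ K) q Qh.asIdeal hflat
    exact ⟨r, K, π, gh * 1, hK, hπ, hker, hflat, by rwa [mul_one], hKill.mul 1, hP 1 Qh.asIdeal.primeCompl.one_mem⟩
  choose r K π gh hK hπ hker hflat hgh hKill hP using hpt
  obtain ⟨ι, _, c, hc, hcov⟩ := exists_finite_cover p gh hgh
  haveI : ∀ i, (c i).asIdeal.LiesOver (IsLocalRing.maximalIdeal (Hp p)) := hc
  haveI : ∀ i, ((c i).asIdeal.comap (algebraMap S (Sp p S))).IsPrime := fun i => Ideal.comap_isPrime _ _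
  haveI hl : ∀ i, (c i).asIdeal.LiesOver ((c i).asIdeal.comap (algebraMap S (Sp p S))) := fun i => ⟨rfl⟩
  obtain ⟨R', _, _, p', _, hnhd, h⟩ := exists_etale_nhd p (ι := ι)
    (fun i => (Fin (r (c i) (hc i)) → S) ⧸ K (c i) (hc i)) (fun i => (c i).asIdeal.comap (algebraMap S (Sp p S)))
    (fun i => (c i).asIdeal) (fun i => gh (c i) (hc i)) (fun i => hgh (c i) (hc i)) (fun i => hflat (c i) (hc i))
    (fun i => hKill (c i) (hc i)) (fun i => hP (c i) (hc i))
  refine ⟨R', _, _, p', inferInstance, hnhd, ?_⟩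
  intro SA NA _ _ _ _ _ _ _ _ _ _ _ _ _ f hf
  obtain ⟨g, hgcov, hg⟩ := h SA
  haveI := hnhd.2.1
  refine ⟨ι, inferInstance, g, hgcov fun Qh _ hQ => hcov Qh hQ, fun i => ?_⟩
  let qi := (c i).asIdeal.comap (algebraMap S (Sp p S))
  haveI : qi.LiesOver p := liesOver_comap p (c i).asIdeal
  obtain ⟨Q, hQ, hQq, hQm⟩ := exists_prime_model p qi p' SA
  haveI := hQ
  haveI := hQq
  haveI : Module.FinitePresentation S ((Fin (r (c i) (hc i)) → S) ⧸ K (c i) (hc i)) :=
    Module.finitePresentation_of_surjective (K (c i) (hc i)).mkQ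
      (K (c i) (hc i)).mkQ_surjective (by rw [Submodule.ker_mkQ]; exact hK (c i) (hc i))
  exact fp_and_free_of_cover (π (c i) (hc i)) (hπ (c i) (hc i)) qi (hker (c i) (hc i)) Q (g i)
    ((hg i).1 Q hQq hQm).2.1 (hg i).2 f hf

end Groth.Agent.HP
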