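import Groth.Agent.HP.ProjPoint

/-!
Along a fibre of flatness there are, after an étale localization of the base, finitely many affine open pieces
covering the fibre on which the module is projective.
-/

set_option autoImplicit false

universe u

open TensorProduct

attribute [local instance] Algebra.TensorProduct.rightAlgebra

namespace Groth.Agent.HP

variable {R S : Type u} [CommRing R] [CommRing S] [Algebra R S] [Algebra.FinitePresentation R S]

set_option maxHeartbeats 1600000 in
theorem exists_projective_fibre (N : Type u) [AddCommGroup N] [Module S N] [Module R N] [IsScalarTower R S N]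
    [Module.FinitePresentation S N] (p : Ideal R) [p.IsPrime]
    (hflat : ∀ (q : Ideal S) [q.IsPrime], q.LiesOver p → FlatCA.FlatAt R q N) :
    ∃ (R' : Type u) (_ : CommRing R') (_ : Algebra R R') (p' : Ideal R') (_ : p'.IsPrime), FlatCA.IsEtaleNhd R R' p p' ∧
      ∃ (ι : Type u) (_ : Finite ι) (g : ι → R' ⊗[R] S),
        (∀ (q : Ideal S) [q.IsPrime], q.LiesOver p →
          ∃ (i : ι) (x : Ideal (Localization.Away (g i))), x.IsPrime ∧ x.comap (algebraMap S _) = q) ∧
        Module.Projective R' ((Π i, Localization.Away (g i)) ⊗[S] N) := by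
  classical
  obtain ⟨R1, _, _, p1, _, hnhd, h⟩ := exists_nhd_fibre p N hflat
  let A := Localization.AtPrime p1
  let SA := A ⊗[R] S
  let NA := SA ⊗[S] N
  haveI := RGFlat.Spreading.isScalarTower_tensor (A := R) (B := S) A
  haveI := RGFlat.Spreading.isScalarTower_tensor (A := R) (B := S) R1
  haveI : Algebra.IsPushout R S A SA := Algebra.IsPushout.symm inferInstance
  refine Exists.elim (h SA NA (TensorProduct.mk S SA N 1) (TensorProduct.isBaseChange S N SA))
    fun ι h1 => Exists.elim h1 fun hι h2 => Exists.elim h2 fun g h3 => ?_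
  haveI := hι
  have hcov := h3.1
  have hg := h3.2
  haveI := Fintype.ofFinite ι
  choose g0 hg0 using fun i => exists_modelMap (R := R) (S := S) p1.primeCompl A (g i)
  have hf : ∀ i, ∃ f : R1, f ∉ p1 ∧
      Module.Projective (Localization.Away f) (Localization.Away f ⊗[R1] (Localization.Away (g0 i) ⊗[S] N)) := fun i => by
    let C := Localization.Away (g i)
    haveI : IsLocalization.Away (modelMap (A := A) (g0 i)) C := IsLocalization.Away.of_associated (hg0 i)
    haveI : Module.Projective A (C ⊗[S] N) := by
      haveI : Module.Free A (C ⊗[SA] NA) := by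
        haveI := (hg i).2
        exact free_tensor_away (A := A) (NA := NA) (g i)
      exact Module.Projective.of_equiv ((AlgebraTensorModule.cancelBaseChange S SA C C N).restrictScalars A)
    let T := Localization.Away (g0 i)
    haveI : Algebra.FinitePresentation (R1 ⊗[R] S) T := IsLocalization.Away.finitePresentation (g0 i)
    haveI : Algebra.FinitePresentation R1 T := Algebra.FinitePresentation.trans R1 (R1 ⊗[R] S) T
    obtain ⟨e⟩ := piece_baseChange (A := A) N (g0 i) C
    haveI : Module.Projective A (A ⊗[R1] (T ⊗[S] N)) := Module.Projective.of_equiv e.symm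
    exact exists_projective_away (A := R1) (B := T) (T ⊗[S] N) p1
  choose f hfp hproj using hf
  let F := ∏ i, f i
  have hF : F ∉ p1 := fun h => by
    obtain ⟨i, -, hi⟩ := (Ideal.IsPrime.prod_mem_iff (hp := inferInstance)).mp h
    exact hfp i hi
  let R2 := Localization.Away F
  let S2 := R2 ⊗[R] S
  haveI := RGFlat.Spreading.isScalarTower_tensor (A := R) (B := S) R2
  let g2 : ι → S2 := fun i => modelMap (A := R2) (g0 i)
  let C2 := Π i, Localization.Away (g2 i)
  have hC : ∀ i, Module.Projective R2 (Localization.Away (g2 i) ⊗[S] N) := fun i => by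
    let M := Localization.Away (g0 i) ⊗[S] N
    let Rf := Localization.Away (f i)
    have hu : IsUnit (algebraMap R1 R2 (f i)) :=
      IsLocalization.Away.isUnit_of_dvd F (Finset.dvd_prod_of_mem f (Finset.mem_univ i))
    letI : Algebra Rf R2 := (IsLocalization.Away.lift (S := Rf) (f i) hu).toAlgebra
    haveI : IsScalarTower R1 Rf R2 := IsScalarTower.of_algebraMap_eq fun a =>
      (IsLocalization.Away.lift_eq (f i) hu a).symm
    haveI := hproj i
    haveI : Module.Projective R2 (R2 ⊗[Rf] (Rf ⊗[R1] M)) := inferInstance
    haveI : Module.Projective R2 (R2 ⊗[R1] M) :=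
      Module.Projective.of_equiv (AlgebraTensorModule.cancelBaseChange R1 Rf R2 R2 M)
    obtain ⟨e⟩ := piece_baseChange (A := R2) N (g0 i) (Localization.Away (g2 i))
    exact Module.Projective.of_equiv e
  let p2 : Ideal R2 := p1.map (algebraMap R1 R2)
  have hdisj : Disjoint (Submonoid.powers F : Set R1) p1 :=
    (Ideal.disjoint_powers_iff_notMem _ (Ideal.IsPrime.isRadical inferInstance)).mpr hF
  haveI : p2.IsPrime := IsLocalization.isPrime_of_isPrime_disjoint _ R2 p1 inferInstance hdisj
  have hp2 : p2.comap (algebraMap R1 R2) = p1 := IsLocalization.under_map_of_isPrime_disjoint _ R2 inferInstance hdisj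
  refine ⟨R2, inferInstance, inferInstance, p2, inferInstance, isEtaleNhd_away p p1 hnhd F hF p2 hp2,
    ι, inferInstance, g2, fun q _ hq => ?_, ?_⟩
  · haveI := hq
    haveI := hnhd.2.1
    obtain ⟨Q, hQ, hQq, hQm⟩ := exists_prime_model p q p1 SA
    haveI := hQ
    obtain ⟨i, hi⟩ := hcov Q hQm
    let C := Localization.Away (g i)
    obtain ⟨x', hx', hx'Q⟩ := exists_prime_away Q (g i) hi
    haveI := hx'
    let toA : R2 →ₐ[R] A :=
      { toRingHom := IsLocalization.Away.lift (S := R2) F (IsLocalization.map_units A (⟨F, hF⟩ : p1.primeCompl))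
        commutes' := fun a => by
          show IsLocalization.Away.lift F _ (algebraMap R R2 a) = _
          rw [IsScalarTower.algebraMap_apply R R1 R2, IsLocalization.Away.lift_eq,
            ← IsScalarTower.algebraMap_apply R R1 A] }
    let μ : S2 →ₐ[R] SA := Algebra.TensorProduct.map toA (AlgHom.id R S)
    have hμ : ∀ z, μ (modelMap (A := R2) z) = modelMap (A := A) z := fun z => by
      induction z with
      | zero => exact (congrArg μ (map_zero (modelMap (R := R) (S := S) (R' := R1) (A := R2)))).trans ((map_zero μ).trans (map_zero (modelMap (R := R) (S := S) (R' := R1) (A := A))).symm)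
      | tmul a s =>
        simp only [μ, modelMap, Algebra.TensorProduct.map_tmul, AlgHom.id_apply]
        exact congrArg (· ⊗ₜ[R] s) (IsLocalization.Away.lift_eq F (IsLocalization.map_units A (⟨F, hF⟩ : p1.primeCompl)) a)
      | add a b ha hb => simp only [map_add, ha, hb]
    haveI : IsLocalization.Away (modelMap (A := A) (g0 i)) C := IsLocalization.Away.of_associated (hg0 i)
    have hu : IsUnit (((algebraMap SA C).comp μ.toRingHom) (g2 i)) := by
      show IsUnit (algebraMap SA C (μ (modelMap (A := R2) (g0 i))))
      rw [hμ]
      exact IsLocalization.Away.algebraMap_isUnit (S := C) (modelMap (A := A) (g0 i))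
    let φ : Localization.Away (g2 i) →+* C := IsLocalization.Away.lift (g2 i) hu
    have hφS : φ.comp (algebraMap S (Localization.Away (g2 i))) = (algebraMap SA C).comp (algebraMap S SA) := by
      ext s
      show φ (algebraMap S (Localization.Away (g2 i)) s) = algebraMap SA C ((1 : A) ⊗ₜ[R] s)
      rw [IsScalarTower.algebraMap_apply S S2 (Localization.Away (g2 i)), IsLocalization.Away.lift_eq]
      show algebraMap SA C (Algebra.TensorProduct.map toA (AlgHom.id R S) ((1 : R2) ⊗ₜ[R] s)) = _
      rw [Algebra.TensorProduct.map_tmul, map_one, AlgHom.id_apply]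
    refine ⟨i, x'.comap φ, Ideal.comap_isPrime _ _, ?_⟩
    rw [Ideal.comap_comap, hφS, ← Ideal.comap_comap, hx'Q]
    exact hQq.over.symm
  · let N2 := S2 ⊗[S] N
    haveI : ∀ i, Module.Projective R2 (Localization.Away (g2 i) ⊗[S2] N2) := fun i =>
      haveI := hC i
      Module.Projective.of_equiv
        ((AlgebraTensorModule.cancelBaseChange S S2 (Localization.Away (g2 i)) (Localization.Away (g2 i)) N).symm.restrictScalars R2)
    haveI : Module.Projective R2 (Π i, Localization.Away (g2 i) ⊗[S2] N2) :=
      Module.Projective.of_equiv (DFinsupp.linearEquivFunOnFintype (R := R2)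
        (M := fun i => Localization.Away (g2 i) ⊗[S2] N2))
    haveI : Module.Projective R2 (C2 ⊗[S2] N2) :=
      Module.Projective.of_equiv (((TensorProduct.piLeft (R := S2) (M := fun i => Localization.Away (g2 i))
        (N := N2)).restrictScalars R2).symm)
    exact Module.Projective.of_equiv ((AlgebraTensorModule.cancelBaseChange S S2 C2 C2 N).restrictScalars R2)

end Groth.Agent.HP
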