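import Groth.Agent.HP.EtaleStmts
import Groth.Agent.RGFlat.SpreadProj
import Groth.Agent.FlatOpen.API
import Groth.Agent.RGFlat.Spread
import Groth.Agent.FlatMor.FlatAtBC

/-!
Projective neighbourhoods after an étale localization of the base: the free neighbourhoods over the local ring
of an étale neighbourhood spread out.
-/

set_option autoImplicit false

universe u

open TensorProduct

attribute [local instance] Algebra.TensorProduct.rightAlgebra

namespace Groth.Agent.HP

section spread

variable {A B : Type u} [CommRing A] [CommRing B] [Algebra A B] [Algebra.FinitePresentation A B]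
  (N : Type u) [AddCommGroup N] [Module B N] [Module A N] [IsScalarTower A B N] [Module.FinitePresentation B N]

/-- Flatness at a prime of the base gives flatness over a neighbourhood of it. -/
theorem exists_flat_away (p : Ideal A) [p.IsPrime] [Module.Flat A (LocalizedModule p.primeCompl N)] :
    ∃ u ∉ p, Module.Flat A (LocalizedModule (Submonoid.powers (algebraMap A B u)) N) := by
  classical
  let T := Algebra.algebraMapSubmonoid B p.primeCompl
  let M := LocalizedModule T N
  haveI := FlatOpen.isLocalizedModule_restrict p.primeCompl T rfl (LocalizedModule.mkLinearMap T N)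
  haveI : Module.Flat A M := Module.Flat.of_linearEquiv
    (IsLocalizedModule.iso p.primeCompl ((LocalizedModule.mkLinearMap T N).restrictScalars A)).symm
  have hflat : ∀ (Q : Ideal B) [Q.IsPrime], Disjoint (Q : Set B) (T : Set B) → FlatCA.FlatAt A Q N := by
    intro Q _ hQ
    let PQ := Localization.AtPrime Q
    have hu : ∀ t : T, IsUnit (algebraMap B PQ t) := fun t =>
      IsLocalization.map_units PQ (⟨t, fun h => Set.disjoint_left.mp hQ h t.2⟩ : Q.primeCompl)
    haveI : IsScalarTower A PQ (LocalizedModule Q.primeCompl N) := IsScalarTower.of_algebraMap_smul fun a x => by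
      rw [IsScalarTower.algebraMap_apply A B PQ, IsScalarTower.algebraMap_smul, IsScalarTower.algebraMap_smul]
    haveI : IsScalarTower A PQ (LocalizedModule Q.primeCompl M) := IsScalarTower.of_algebraMap_smul fun a x => by
      rw [IsScalarTower.algebraMap_apply A B PQ, IsScalarTower.algebraMap_smul, IsScalarTower.algebraMap_smul]
    let e := (LocalizedModule.equivTensorProduct Q.primeCompl N).trans
      ((FlatMor.FlatAtBC.tensorLocalizedEquiv T PQ hu N).trans (LocalizedModule.equivTensorProduct Q.primeCompl M).symm)
    haveI : Module.Flat A (LocalizedModule Q.primeCompl M) :=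
      FlatMor.FlatAtBC.flat_localizedModule A Q.primeCompl M
    exact Module.Flat.of_linearEquiv (e.restrictScalars A)
  obtain ⟨J, hJ⟩ := (PrimeSpectrum.isClosed_iff_zeroLocus_ideal _).1
    (FlatOpen.isOpen_flatLocus A B N).isClosed_compl
  have hJmem : ∀ Q : PrimeSpectrum B, ¬ FlatCA.FlatAt A Q.asIdeal N ↔ J ≤ Q.asIdeal := fun Q =>
    Set.ext_iff.1 hJ Q
  obtain ⟨b, hbJ, hbT⟩ : ∃ b ∈ J, b ∈ T := by
    by_contra hc
    simp only [not_exists, not_and] at hc
    obtain ⟨Q, hQ, hJQ, hQT⟩ := Ideal.exists_le_prime_disjoint J T (Set.disjoint_left.mpr hc)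
    exact (hJmem ⟨Q, hQ⟩).mpr hJQ (hflat Q hQT)
  obtain ⟨u, hu, rfl⟩ := hbT
  refine ⟨u, hu, RGFlat.flat_away (R := A) (M := N) (algebraMap A B u) fun Q hQ hg => ?_⟩
  by_contra hn
  exact hg ((hJmem ⟨Q, hQ⟩).mp hn hbJ)

end spread

/-- A finitely presented module projective at a prime of the base is projective near it. -/
theorem exists_projective_away {A B : Type u} [CommRing A] [CommRing B] [Algebra A B] [Algebra.FinitePresentation A B]
    (N : Type u) [AddCommGroup N] [Module B N] [Module A N] [IsScalarTower A B N] [Module.FinitePresentation B N]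
    (p : Ideal A) [p.IsPrime]
    [Module.Projective (Localization.AtPrime p) (Localization.AtPrime p ⊗[A] N)] :
    ∃ f ∉ p, Module.Projective (Localization.Away f) (Localization.Away f ⊗[A] N) := by
  let Ap := Localization.AtPrime p
  haveI : Module.Flat A Ap := IsLocalization.flat Ap p.primeCompl
  haveI : Module.Flat A (Ap ⊗[A] N) := Module.Flat.trans A Ap _
  haveI : Module.Flat A (LocalizedModule p.primeCompl N) :=
    Module.Flat.of_linearEquiv (IsLocalizedModule.iso p.primeCompl (TensorProduct.mk A Ap N 1))
  obtain ⟨u, hu, hflat⟩ := exists_flat_away N p (A := A) (B := B)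
  let g := algebraMap A B u
  let B1 := Localization.Away g
  let N1 := LocalizedModule (Submonoid.powers g) N
  haveI : IsScalarTower A B1 N1 := IsScalarTower.of_algebraMap_smul fun a x => by
    rw [IsScalarTower.algebraMap_apply A B B1, IsScalarTower.algebraMap_smul, IsScalarTower.algebraMap_smul]
  haveI : Algebra.FinitePresentation B B1 := IsLocalization.Away.finitePresentation g
  haveI : Algebra.FinitePresentation A B1 := Algebra.FinitePresentation.trans A B B1
  haveI : Module.FinitePresentation B1 N1 := inferInstance
  haveI : Module.Flat A N1 := hflat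
  haveI := FlatOpen.isLocalizedModule_restrict (Submonoid.powers u) (Submonoid.powers g)
    (by simp [Algebra.algebraMapSubmonoid, g]) (LocalizedModule.mkLinearMap (Submonoid.powers g) N)
  let η := IsLocalizedModule.iso (Submonoid.powers u) ((LocalizedModule.mkLinearMap (Submonoid.powers g) N).restrictScalars A)
  let E : ∀ (P : Type u) [CommRing P] [Algebra A P], IsUnit (algebraMap A P u) → P ⊗[A] N ≃ₗ[P] P ⊗[A] N1 :=
    fun P _ _ hP => (FlatMor.FlatAtBC.tensorLocalizedEquiv (Submonoid.powers u) P (fun t => by
      obtain ⟨k, hk⟩ := t.2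
      rw [← hk]
      exact (map_pow (algebraMap A P) u k).symm ▸ hP.pow k) N).trans
        (TensorProduct.AlgebraTensorModule.congr (LinearEquiv.refl P P) η)
  haveI : Module.Projective Ap (Ap ⊗[A] N1) :=
    Module.Projective.of_equiv (E Ap (IsLocalization.map_units Ap (⟨u, hu⟩ : p.primeCompl)))
  obtain ⟨f, hf, hproj⟩ := RGFlat.Spreading.spread_projective (A := A) (B := B1) N1 p
  refine ⟨f * u, fun h => ((inferInstance : p.IsPrime).mem_or_mem h).elim hf hu, ?_⟩
  let Af := Localization.Away f
  let L := Localization.Away (f * u)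
  letI : Algebra Af L := (IsLocalization.Away.awayToAwayRight f u : Af →+* L).toAlgebra
  haveI : IsScalarTower A Af L := IsScalarTower.of_algebraMap_eq fun a =>
    (IsLocalization.Away.awayToAwayRight_eq f u a).symm
  haveI := hproj
  haveI : Module.Projective L (L ⊗[Af] (Af ⊗[A] N1)) := inferInstance
  haveI : Module.Projective L (L ⊗[A] N1) :=
    Module.Projective.of_equiv (AlgebraTensorModule.cancelBaseChange A Af L L N1)
  exact Module.Projective.of_equiv (E L (IsLocalization.Away.isUnit_of_dvd (f * u) (dvd_mul_left u f))).symm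

/-- The base change map of models. -/
noncomputable def modelMap {R S R' A : Type u} [CommRing R] [CommRing S] [Algebra R S] [CommRing R'] [Algebra R R']
    [CommRing A] [Algebra R A] [Algebra R' A] [IsScalarTower R R' A] : R' ⊗[R] S →ₐ[R'] A ⊗[R] S :=
  Algebra.TensorProduct.map (Algebra.ofId R' A) (AlgHom.id R S)

/-- Base change of a localized piece. -/
theorem piece_baseChange {R S R' A : Type u} [CommRing R] [CommRing S] [Algebra R S] [CommRing R'] [Algebra R R']
    [CommRing A] [Algebra R A] [Algebra R' A] [IsScalarTower R R' A] (N : Type u) [AddCommGroup N] [Module S N]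
    (g0 : R' ⊗[R] S) (C : Type u) [CommRing C] [Algebra (A ⊗[R] S) C] [Algebra S C] [IsScalarTower S (A ⊗[R] S) C]
    [Algebra A C] [IsScalarTower A (A ⊗[R] S) C] [IsLocalization.Away (modelMap (A := A) g0) C] :
    Nonempty (A ⊗[R'] (Localization.Away g0 ⊗[S] N) ≃ₗ[A] C ⊗[S] N) := by
  let S' := R' ⊗[R] S
  let SA := A ⊗[R] S
  let T := Localization.Away g0
  let μ : S' →ₐ[R'] SA := modelMap (A := A)
  haveI := RGFlat.Spreading.isScalarTower_tensor (A := R) (B := S) R'
  haveI := RGFlat.Spreading.isScalarTower_tensor (A := R) (B := S) A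
  letI : Algebra S' SA := μ.toRingHom.toAlgebra
  haveI : IsScalarTower R' S' SA := IsScalarTower.of_algebraMap_eq fun a => (μ.commutes a).symm
  haveI : IsScalarTower S S' SA := IsScalarTower.of_algebraMap_eq fun s => by
    show (1 : A) ⊗ₜ[R] s = Algebra.TensorProduct.map (Algebra.ofId R' A) (AlgHom.id R S) ((1 : R') ⊗ₜ[R] s)
    rw [Algebra.TensorProduct.map_tmul, map_one, AlgHom.id_apply]
  haveI : IsScalarTower R S' SA := IsScalarTower.of_algebraMap_eq fun a => by
    rw [IsScalarTower.algebraMap_apply R R' S', ← IsScalarTower.algebraMap_apply R' S' SA,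
      ← IsScalarTower.algebraMap_apply R R' SA]
  haveI hpo : Algebra.IsPushout R' A S' SA := by
    haveI : Algebra.IsPushout R R' S S' := inferInstance
    exact (Algebra.IsPushout.comp_iff R R' S S' (T := A) (T' := SA)).mp inferInstance
  letI : Algebra S' C := ((algebraMap SA C).comp (algebraMap S' SA)).toAlgebra
  haveI : IsScalarTower S' SA C := IsScalarTower.of_algebraMap_eq' rfl
  have hunit : IsUnit (algebraMap S' C g0) := IsLocalization.Away.algebraMap_isUnit (S := C) (μ g0)
  letI : Algebra T C := (IsLocalization.Away.lift (S := T) g0 hunit).toAlgebra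
  haveI : IsScalarTower S' T C := IsScalarTower.of_algebraMap_eq fun x =>
    (IsLocalization.Away.lift_eq g0 hunit x).symm
  haveI : IsScalarTower S T C := IsScalarTower.of_algebraMap_eq fun x => by
    rw [IsScalarTower.algebraMap_apply S S' T, ← IsScalarTower.algebraMap_apply S' T C]
    show algebraMap S C x = algebraMap SA C (algebraMap S' SA (algebraMap S S' x))
    rw [← IsScalarTower.algebraMap_apply S S' SA, ← IsScalarTower.algebraMap_apply S SA C]
  letI : Algebra R' C := ((algebraMap A C).comp (algebraMap R' A)).toAlgebra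
  haveI : IsScalarTower R' A C := IsScalarTower.of_algebraMap_eq' rfl
  haveI : IsScalarTower R' SA C := IsScalarTower.of_algebraMap_eq fun a => by
    rw [IsScalarTower.algebraMap_apply R' A SA, ← IsScalarTower.algebraMap_apply A SA C]
    rfl
  haveI : IsScalarTower R' S' C := IsScalarTower.of_algebraMap_eq fun a => by
    show algebraMap R' C a = algebraMap SA C (algebraMap S' SA (algebraMap R' S' a))
    rw [← IsScalarTower.algebraMap_apply R' S' SA, ← IsScalarTower.algebraMap_apply R' SA C]
  haveI : IsScalarTower R' T C := IsScalarTower.of_algebraMap_eq fun a => by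
    rw [IsScalarTower.algebraMap_apply R' S' T, ← IsScalarTower.algebraMap_apply S' T C,
      ← IsScalarTower.algebraMap_apply R' S' C]
  haveI : IsLocalization (Algebra.algebraMapSubmonoid SA (Submonoid.powers g0)) C := by
    rw [show Algebra.algebraMapSubmonoid SA (Submonoid.powers g0) = Submonoid.powers (μ g0) by
      simp [Algebra.algebraMapSubmonoid]; rfl]
    infer_instance
  haveI h2 : Algebra.IsPushout S' T SA C :=
    (Algebra.isPushout_of_isLocalization (Submonoid.powers g0) T SA C).symm
  haveI : Algebra.IsPushout R' S' A SA := hpo.symm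
  haveI : Algebra.IsPushout R' T A C := (Algebra.IsPushout.comp_iff R' S' A SA (T := T) (T' := C)).mpr h2
  haveI : Algebra.IsPushout R' A T C := Algebra.IsPushout.symm inferInstance
  let e1 : C ⊗[T] (T ⊗[S] N) ≃ₗ[A] A ⊗[R'] (T ⊗[S] N) := Algebra.IsPushout.cancelBaseChange R' A T C (T ⊗[S] N)
  exact ⟨e1.symm.trans ((AlgebraTensorModule.cancelBaseChange S T C C N).restrictScalars A)⟩

end Groth.Agent.HP
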