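import Groth.Agent.HP.ProjNhd

/-!
At a point of flatness there is, after an étale localization of the base, an affine neighbourhood on which the
module is projective.
-/

set_option autoImplicit false

universe u

open TensorProduct

attribute [local instance] Algebra.TensorProduct.rightAlgebra

namespace Groth.Agent.HP

/-- Residue fields agree when every element is congruent to a fraction from below. -/
theorem bijective_residue_of {S C : Type u} [CommRing S] [CommRing C] [Algebra S C] (q : Ideal S) [q.IsPrime]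
    (x : Ideal C) [x.IsPrime] (hx : x.LiesOver q)
    (h : ∀ c : C, ∃ s t : S, t ∉ q ∧ algebraMap S C t * c - algebraMap S C s ∈ x) :
    Function.Bijective (Ideal.ResidueField.mapₐ q x (Algebra.ofId S C) hx.over) := by
  let j := Ideal.ResidueField.mapₐ q x (Algebra.ofId S C) hx.over
  refine ⟨RingHom.injective j.toRingHom, ?_⟩
  let K : Subfield x.ResidueField := j.toRingHom.fieldRange
  have hS : ∀ s : S, algebraMap S x.ResidueField s ∈ K := fun s => ⟨algebraMap S q.ResidueField s, j.commutes s⟩
  have hC : ∀ c : C, algebraMap C x.ResidueField c ∈ K := fun c => by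
    obtain ⟨s, t, ht, hst⟩ := h c
    have h0 := Ideal.algebraMap_residueField_eq_zero.mpr hst
    rw [map_sub, map_mul, sub_eq_zero, ← IsScalarTower.algebraMap_apply, ← IsScalarTower.algebraMap_apply] at h0
    have ht0 : algebraMap S x.ResidueField t ≠ 0 := by
      rw [IsScalarTower.algebraMap_apply S C x.ResidueField, Ne, Ideal.algebraMap_residueField_eq_zero]
      exact fun h => ht ((hx.over).ge h)
    rw [show algebraMap C x.ResidueField c = (algebraMap S x.ResidueField t)⁻¹ * algebraMap S x.ResidueField s by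
      rw [← h0, inv_mul_cancel_left₀ ht0]]
    exact K.mul_mem (K.inv_mem (hS t)) (hS s)
  intro y
  obtain ⟨a, b, hb, rfl⟩ := IsFractionRing.div_surjective (C ⧸ x) y
  obtain ⟨a, rfl⟩ := Ideal.Quotient.mk_surjective a
  obtain ⟨b, rfl⟩ := Ideal.Quotient.mk_surjective b
  exact K.div_mem (hC a) (hC b)

/-- The converse. -/
theorem exists_frac_of_bijective {S C : Type u} [CommRing S] [CommRing C] [Algebra S C] (q : Ideal S) [q.IsPrime]
    (x : Ideal C) [x.IsPrime] (hx : x.LiesOver q)
    (h : Function.Bijective (Ideal.ResidueField.mapₐ q x (Algebra.ofId S C) hx.over)) (c : C) :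
    ∃ s t : S, t ∉ q ∧ algebraMap S C t * c - algebraMap S C s ∈ x := by
  obtain ⟨w, hw⟩ := h.2 (algebraMap C x.ResidueField c)
  obtain ⟨s, t, ht, hst⟩ := residue_frac q w
  refine ⟨s, t, ht, ?_⟩
  rw [← Ideal.algebraMap_residueField_eq_zero, map_sub, map_mul, sub_eq_zero, ← hw,
    ← IsScalarTower.algebraMap_apply, ← IsScalarTower.algebraMap_apply]
  have := congrArg (Ideal.ResidueField.mapₐ q x (Algebra.ofId S C) hx.over) hst
  rwa [map_mul, AlgHom.commutes, AlgHom.commutes] at this

/-- Localizing an étale neighbourhood. -/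
theorem isEtaleNhd_away {R R1 R2 : Type u} [CommRing R] [CommRing R1] [CommRing R2] [Algebra R R1] [Algebra R R2]
    [Algebra R1 R2] [IsScalarTower R R1 R2] (p : Ideal R) [p.IsPrime] (p1 : Ideal R1) [p1.IsPrime]
    (hnhd : FlatCA.IsEtaleNhd R R1 p p1) (f : R1) (hf : f ∉ p1) [IsLocalization.Away f R2] (p2 : Ideal R2) [p2.IsPrime]
    (hp2 : p2.comap (algebraMap R1 R2) = p1) : FlatCA.IsEtaleNhd R R2 p p2 := by
  obtain ⟨het, hlo, hbij⟩ := hnhd
  haveI := het
  haveI : Algebra.Etale R1 R2 := Algebra.Etale.of_isLocalizationAway f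
  have hlo2 : p2.LiesOver p := ⟨by
    rw [Ideal.under_def, IsScalarTower.algebraMap_eq R R1 R2, ← Ideal.comap_comap, hp2]
    exact hlo.over⟩
  refine ⟨Algebra.Etale.comp R R1 R2, hlo2, bijective_residue_of p p2 hlo2 fun c => ?_⟩
  obtain ⟨⟨a, _, k, rfl⟩, hc⟩ := IsLocalization.surj (Submonoid.powers f) c
  obtain ⟨ra, ta, hta, hra⟩ := exists_frac_of_bijective p p1 hlo hbij a
  obtain ⟨rf, tf, htf, hrf⟩ := exists_frac_of_bijective p p1 hlo hbij f
  have hp : ∀ r : R, algebraMap R R1 r ∈ p1 → r ∈ p := fun r hr => hlo.over.ge hr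
  have hrf0 : rf ∉ p := fun h => by
    have h1 : algebraMap R R1 rf ∈ p1 := hlo.over.le h
    have h2 := add_mem hrf h1
    rw [sub_add_cancel] at h2
    exact ((inferInstance : p1.IsPrime).mem_or_mem h2).elim (fun h3 => htf (hp tf h3)) hf
  refine ⟨ra * tf ^ k, ta * rf ^ k,
    fun h => ((inferInstance : p.IsPrime).mem_or_mem h).elim hta fun h => hrf0 (Ideal.IsPrime.mem_of_pow_mem ‹_› k h), ?_⟩
  let q := Ideal.Quotient.mk p2
  have hq : ∀ x ∈ p1, q (algebraMap R1 R2 x) = 0 := fun x hx => Ideal.Quotient.eq_zero_iff_mem.mpr (hp2.ge hx)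
  have e1 := hq _ hra
  have e2 := hq _ hrf
  simp only [map_sub, map_mul, sub_eq_zero, ← IsScalarTower.algebraMap_apply] at e1 e2
  rw [← Ideal.Quotient.eq]
  have hcq := congrArg q hc
  simp only [map_mul, map_pow] at hcq
  simp only [map_mul, map_pow, q] at hcq e1 e2 ⊢
  rw [← e1, ← hcq, ← e2]
  ring

/-- Every element of the model over the local ring comes from the model over the neighbourhood, up to units. -/
theorem exists_modelMap {R S R' : Type u} [CommRing R] [CommRing S] [Algebra R S] [CommRing R'] [Algebra R R']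
    (M : Submonoid R') (A : Type u) [CommRing A] [Algebra R A] [Algebra R' A] [IsScalarTower R R' A] [IsLocalization M A]
    (z : A ⊗[R] S) : ∃ g0 : R' ⊗[R] S, Associated z (modelMap (A := A) g0) := by
  suffices h : ∃ m ∈ M, ∃ g0 : R' ⊗[R] S, algebraMap R' (A ⊗[R] S) m * z = modelMap (A := A) g0 by
    obtain ⟨m, hm, g0, h⟩ := h
    refine ⟨g0, (((IsLocalization.map_units A (⟨m, hm⟩ : M)).map (algebraMap A (A ⊗[R] S)))).unit, ?_⟩
    rw [IsUnit.unit_spec, mul_comm, ← h, IsScalarTower.algebraMap_apply R' A (A ⊗[R] S)]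
  induction z with
  | zero => exact ⟨1, M.one_mem, 0, by simp⟩
  | tmul a s =>
    obtain ⟨⟨b, m⟩, hbm⟩ := IsLocalization.surj M a
    refine ⟨m, m.2, b ⊗ₜ s, ?_⟩
    rw [IsScalarTower.algebraMap_apply R' A (A ⊗[R] S)]
    show (algebraMap R' A m ⊗ₜ[R] (1 : S)) * (a ⊗ₜ s) = _
    rw [Algebra.TensorProduct.tmul_mul_tmul, one_mul, mul_comm, hbm]
    simp [modelMap]
  | add x y hx hy =>
    obtain ⟨m, hm, g, hg⟩ := hx
    obtain ⟨n, hn, g', hg'⟩ := hy
    refine ⟨m * n, M.mul_mem hm hn, algebraMap R' _ n * g + algebraMap R' _ m * g', ?_⟩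
    rw [map_add, map_mul, map_mul, map_mul, AlgHom.commutes, AlgHom.commutes, ← hg, ← hg']
    ring

variable {R S : Type u} [CommRing R] [CommRing S] [Algebra R S] [Algebra.FinitePresentation R S]

set_option maxHeartbeats 1600000 in
/-- After an étale localization of the base, an affine neighbourhood with projective sections. -/
theorem exists_projective_point (N : Type u) [AddCommGroup N] [Module S N] [Module R N] [IsScalarTower R S N]
    [Module.FinitePresentation S N] (p : Ideal R) [p.IsPrime] (q : Ideal S) [q.IsPrime] [q.LiesOver p]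
    (hflat : FlatCA.FlatAt R q N) :
    ∃ (R' : Type u) (_ : CommRing R') (_ : Algebra R R') (p' : Ideal R') (_ : p'.IsPrime), FlatCA.IsEtaleNhd R R' p p' ∧
      ∃ (g : R' ⊗[R] S) (x : Ideal (Localization.Away g)) (_ : x.IsPrime) (hx : x.LiesOver q),
        x.comap (algebraMap R' (Localization.Away g)) = p' ∧
        Function.Bijective (Ideal.ResidueField.mapₐ q x (Algebra.ofId S _) hx.over) ∧
        Module.Projective R' (Localization.Away g ⊗[S] N) := by
  obtain ⟨R1, _, _, p1, _, hnhd, h⟩ := exists_etale_point N p q hflat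
  let A := Localization.AtPrime p1
  let SA := A ⊗[R] S
  haveI := RGFlat.Spreading.isScalarTower_tensor (A := R) (B := S) A
  haveI := RGFlat.Spreading.isScalarTower_tensor (A := R) (B := S) R1
  haveI : Algebra.IsPushout R S A SA := Algebra.IsPushout.symm inferInstance
  refine Exists.elim (h SA (SA ⊗[S] N) (TensorProduct.mk S SA N 1) (TensorProduct.isBaseChange S N SA))
    fun g h1 => Exists.elim h1 fun x' h2 => Exists.elim h2 fun hx' h3 => Exists.elim h3 fun hx h4 => ?_
  haveI := hx'
  have hxm := h4.2.1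
  have hbij := h4.2.2.1
  have hfree := h4.2.2.2.2
  let C := Localization.Away g
  obtain ⟨g0, hg0⟩ := exists_modelMap (R := R) (S := S) p1.primeCompl A g
  haveI : IsLocalization.Away (modelMap (A := A) g0) C := IsLocalization.Away.of_associated hg0
  haveI : Module.Projective A (C ⊗[S] N) := by
    haveI := hfree
    let e : RestrictScalars A C (C ⊗[SA] (SA ⊗[S] N)) ≃ₗ[A] C ⊗[SA] (SA ⊗[S] N) :=
      (RestrictScalars.addEquiv A C _).toLinearEquiv fun a m => by
        rw [RestrictScalars.addEquiv_map_smul, algebraMap_smul]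
    exact Module.Projective.of_equiv
      (e.trans ((AlgebraTensorModule.cancelBaseChange S SA C C N).restrictScalars A))
  let T := Localization.Away g0
  haveI : Algebra.FinitePresentation (R1 ⊗[R] S) T := IsLocalization.Away.finitePresentation g0
  haveI : Algebra.FinitePresentation R1 T := Algebra.FinitePresentation.trans R1 (R1 ⊗[R] S) T
  obtain ⟨e⟩ := piece_baseChange (A := A) N g0 C
  haveI : Module.Projective A (A ⊗[R1] (T ⊗[S] N)) := Module.Projective.of_equiv e.symm
  obtain ⟨f, hf, hproj⟩ := exists_projective_away (A := R1) (B := T) (T ⊗[S] N) p1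
  let R2 := Localization.Away f
  have hfA : IsUnit (algebraMap R1 A f) := IsLocalization.map_units A (⟨f, hf⟩ : p1.primeCompl)
  let toA : R2 →ₐ[R] A :=
    { toRingHom := IsLocalization.Away.lift (S := R2) f hfA
      commutes' := fun a => by
        show IsLocalization.Away.lift f hfA (algebraMap R R2 a) = _
        rw [IsScalarTower.algebraMap_apply R R1 R2, IsLocalization.Away.lift_eq,
          ← IsScalarTower.algebraMap_apply R R1 A] }
  haveI := RGFlat.Spreading.isScalarTower_tensor (A := R) (B := S) R2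
  let g2 : R2 ⊗[R] S := modelMap (A := R2) g0
  let C2 := Localization.Away g2
  obtain ⟨e2⟩ := piece_baseChange (A := R2) N g0 C2
  haveI := hproj
  haveI : Module.Projective R2 (C2 ⊗[S] N) := Module.Projective.of_equiv e2
  let μ : R2 ⊗[R] S →ₐ[R] SA := Algebra.TensorProduct.map toA (AlgHom.id R S)
  have hμ : ∀ z, μ (modelMap (A := R2) z) = modelMap (A := A) z := fun z => by
    induction z with
    | zero => exact (congrArg μ (map_zero (modelMap (R := R) (S := S) (R' := R1) (A := R2)))).trans ((map_zero μ).trans (map_zero (modelMap (R := R) (S := S) (R' := R1) (A := A))).symm)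
    | tmul a s =>
      simp only [μ, modelMap, Algebra.TensorProduct.map_tmul, AlgHom.id_apply]
      exact congrArg (· ⊗ₜ[R] s) (IsLocalization.Away.lift_eq f hfA a)
    | add a b ha hb => simp only [map_add, ha, hb]
  have hu : IsUnit (((algebraMap SA C).comp μ.toRingHom) g2) := by
    show IsUnit (algebraMap SA C (μ g2))
    rw [hμ]
    exact IsLocalization.Away.algebraMap_isUnit (S := C) (modelMap (A := A) g0)
  let φ : C2 →+* C := IsLocalization.Away.lift g2 hu
  have hφ : ∀ z, φ (algebraMap (R2 ⊗[R] S) C2 z) = algebraMap SA C (μ z) := IsLocalization.Away.lift_eq g2 hu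
  have hφS : ∀ s : S, φ (algebraMap S C2 s) = algebraMap S C s := fun s => by
    rw [IsScalarTower.algebraMap_apply S (R2 ⊗[R] S) C2, hφ, IsScalarTower.algebraMap_apply S SA C]
    congr 1
    show Algebra.TensorProduct.map toA (AlgHom.id R S) ((1 : R2) ⊗ₜ[R] s) = (1 : A) ⊗ₜ[R] s
    rw [Algebra.TensorProduct.map_tmul, map_one, AlgHom.id_apply]
  let x := x'.comap φ
  haveI : x.IsPrime := Ideal.comap_isPrime _ _
  have hx2 : x.LiesOver q := ⟨by
    ext s
    rw [Ideal.under_def, Ideal.mem_comap, Ideal.mem_comap, hφS, ← Ideal.mem_comap, ← Ideal.under_def, ← hx.over]⟩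
  let p2 : Ideal R2 := x.comap (algebraMap R2 C2)
  haveI : p2.IsPrime := Ideal.comap_isPrime _ _
  refine ⟨R2, inferInstance, inferInstance, p2, inferInstance, ?_, g2, x, inferInstance, hx2, rfl, ?_, inferInstance⟩
  · refine isEtaleNhd_away p p1 hnhd f hf p2 ?_
    ext a
    rw [Ideal.mem_comap, Ideal.mem_comap, Ideal.mem_comap, IsScalarTower.algebraMap_apply R2 (R2 ⊗[R] S) C2, hφ,
      ← IsLocalization.AtPrime.to_map_mem_maximal_iff A p1 a, hxm.over, Ideal.under_def, Ideal.mem_comap,
      Ideal.mem_comap]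
    have : μ (algebraMap R2 (R2 ⊗[R] S) (algebraMap R1 R2 a)) = algebraMap A SA (algebraMap R1 A a) := by
      show μ (algebraMap R1 R2 a ⊗ₜ[R] (1 : S)) = algebraMap R1 A a ⊗ₜ[R] (1 : S)
      simp only [μ, Algebra.TensorProduct.map_tmul, AlgHom.id_apply]
      exact congrArg (· ⊗ₜ[R] (1 : S)) (IsLocalization.Away.lift_eq f hfA a)
    rw [this]
  · refine bijective_residue_of q x hx2 fun c => ?_
    obtain ⟨s, t, ht, hst⟩ := exists_frac_of_bijective q x' hx hbij (φ c)
    refine ⟨s, t, ht, ?_⟩
    rw [Ideal.mem_comap, map_sub, map_mul, hφS, hφS]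
    exact hst

end Groth.Agent.HP
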