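import Groth.Agent.HP.Base
import Groth.Agent.HP.Kill
import Groth.Agent.S6339
import Mathlib.RingTheory.Smooth.StandardSmooth
import Mathlib.RingTheory.Etale.Basic

/-!
The dévissage step at a section of an étale algebra over affine space, over a henselian base.
-/

set_option autoImplicit false

universe u

open MvPolynomial TensorProduct

attribute [local instance] MvPolynomial.algebraMvPolynomial

namespace Groth.Agent.HP

/-- The statement for rational points quasi-finite over affine `n`-space over a henselian ring. -/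
def SP (n : ℕ) : Prop :=
  ∀ (A : Type u) [CommRing A] [HenselianLocalRing A] (C : Type u) [CommRing C] [Algebra A C] [Algebra.FiniteType A C]
    (z : Ideal C) [z.IsPrime],
    (IsLocalRing.maximalIdeal A).map (algebraMap A C) ≤ z → (∀ c : C, ∃ a : A, c - algebraMap A C a ∈ z) →
    ∀ [Algebra (MvPolynomial (Fin n) A) C] [IsScalarTower A (MvPolynomial (Fin n) A) C],
    (∀ i, algebraMap _ C (X i : MvPolynomial (Fin n) A) ∈ z) → Algebra.QuasiFiniteAt (MvPolynomial (Fin n) A) z →
    ∀ (N : Type u) [AddCommGroup N] [Module C N] [Module A N] [IsScalarTower A C N] [Module.Finite C N],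
    FlatCA.FlatAt A z N → (∃ g ∉ z, Kill A N z g) ∧ CAlg.IsMittagLeffler A (LocalizedModule z.primeCompl N)

theorem flatAt_congr_ideal {A C : Type u} [CommRing A] [CommRing C] [Algebra A C] {N : Type u} [AddCommGroup N]
    [Module C N] [Module A N] [IsScalarTower A C N] {q q' : Ideal C} [q.IsPrime] [q'.IsPrime] (h : q = q')
    (hf : FlatCA.FlatAt A q N) : FlatCA.FlatAt A q' N := by
  subst h
  exact hf

theorem sum_single_proj {A D : Type u} [CommRing A] [AddCommGroup D] [Module A D] {r : ℕ} {M : Type u} [AddCommGroup M]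
    [Module A M] (w : (Fin r → D) ⊗[A] M) : w = ∑ i, (LinearMap.single A (fun _ : Fin r => D) i).rTensor M
      ((LinearMap.proj (R := A) (φ := fun _ : Fin r => D) i).rTensor M w) := by
  induction w with
  | zero => simp
  | tmul d m =>
    simp only [LinearMap.rTensor_tmul, ← TensorProduct.sum_tmul, LinearMap.coe_proj, Function.eval,
      LinearMap.coe_single, Finset.univ_sum_single]
  | add a b ha hb =>
    simp only [map_add, Finset.sum_add_distrib]
    rw [← ha, ← hb]

variable {n : ℕ}

theorem sp_section (H : ∀ k < n, SP.{u} k) {A : Type u} [CommRing A] [HenselianLocalRing A] {E : Type u} [CommRing E]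
    [Algebra (MvPolynomial (Fin n) A) E] [Algebra.Etale (MvPolynomial (Fin n) A) E]
    [Algebra A E] [IsScalarTower A (MvPolynomial (Fin n) A) E]
    (ε : E →ₐ[A] A) (hX : ∀ i, ε (algebraMap _ E (X i : MvPolynomial (Fin n) A)) = 0)
    (y : Ideal E) (hy : y = (IsLocalRing.maximalIdeal A).comap ε) [y.IsPrime]
    (N : Type u) [AddCommGroup N] [Module E N] [Module A N] [IsScalarTower A E N] [Module.Finite E N]
    (hN : FlatCA.FlatAt A y N) :
    (∃ g ∉ y, Kill A N y g) ∧ CAlg.IsMittagLeffler A (LocalizedModule y.primeCompl N) := by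
  classical
  subst hy
  haveI : Algebra.FinitePresentation A E := Algebra.FinitePresentation.trans A (MvPolynomial (Fin n) A) E
  haveI : Algebra.Smooth A (MvPolynomial (Fin n) A) :=
    ⟨inferInstance, inferInstance⟩
  haveI : Algebra.Smooth A E := Algebra.Smooth.comp A (MvPolynomial (Fin n) A) E
  haveI : Module.Flat A E := Module.Flat.trans A (MvPolynomial (Fin n) A) E
  set y := (IsLocalRing.maximalIdeal A).comap ε
  let D := Localization.AtPrime y
  let G := LocalizedModule y.primeCompl N
  let η : N →ₗ[E] G := LocalizedModule.mkLinearMap y.primeCompl N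
  haveI : IsScalarTower A D G := IsScalarTower.of_algebraMap_smul fun a x => by
    rw [IsScalarTower.algebraMap_apply A E D, IsScalarTower.algebraMap_smul, IsScalarTower.algebraMap_smul]
  haveI : Module.Finite D G := Module.Finite.of_isLocalizedModule y.primeCompl η
  haveI : Module.Flat A G := hN
  haveI : Module.Flat E D := IsLocalization.flat D y.primeCompl
  haveI : Module.Flat A D := Module.Flat.trans A E D
  obtain ⟨co, hsep, hprime⟩ := RGFlat.exists_coeff ε hX (D := D)
  obtain ⟨r, α, s, hs, hsQ, hα, hflat⟩ := RGFlat.exists_step (G := G) co hsep hprime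
  -- scale the free part into `N`
  have hm : ∀ i, ∃ (v : N) (c : y.primeCompl), (c : E) • α (Pi.single i 1) = η v := fun i => by
    obtain ⟨⟨v, c⟩, h⟩ := IsLocalizedModule.surj y.primeCompl η (α (Pi.single i 1))
    exact ⟨v, c, h⟩
  choose m c hc using hm
  let α' : (Fin r → E) →ₗ[E] N := Fintype.linearCombination E m
  let p : (Fin r → E) →ₗ[E] (Fin r → D) := LinearMap.pi fun i => (Algebra.linearMap E D).comp (LinearMap.proj i)
  let α'' : (Fin r → D) →ₗ[D] G := Fintype.linearCombination D fun i => η (m i)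
  have hηm : ∀ i, η (m i) = algebraMap E D (c i) • α (Pi.single i 1) := fun i => by
    rw [← hc i, IsScalarTower.algebraMap_smul]
  have hα'' : ∀ d, α'' d = α (fun i => d i * algebraMap E D (c i)) := fun d => by
    conv_rhs => rw [pi_eq_sum_univ' (fun i => d i * algebraMap E D (c i)), map_sum]
    simp only [α'', Fintype.linearCombination_apply, hηm, smul_smul]
    exact Finset.sum_congr rfl fun i _ => by rw [map_smul]
  have hcu : ∀ i, IsUnit (algebraMap E D (c i)) := fun i => IsLocalization.map_units D (c i)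
  have hα''inj : Function.Injective α'' := fun a b hab => funext fun i => (hcu i).mul_left_injective
    (congrFun (hα (show α (fun i => a i * algebraMap E D (c i)) = α (fun i => b i * algebraMap E D (c i)) by
      rw [← hα'', ← hα'', hab])) i)
  have hrange : LinearMap.range α'' = LinearMap.range α := by
    refine le_antisymm ?_ ?_
    · rintro _ ⟨d, rfl⟩
      exact ⟨_, (hα'' d).symm⟩
    · rintro _ ⟨d, rfl⟩
      refine ⟨fun i => d i * ((hcu i).unit⁻¹ : Dˣ), ?_⟩
      rw [hα'']
      congr 1
      funext i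
      rw [mul_assoc, IsUnit.val_inv_mul, mul_one]
  have hαp : ∀ v, η (α' v) = α'' (p v) := fun v => by
    simp [α', α'', p, Fintype.linearCombination_apply, map_sum]
  -- the cokernel
  let Q0 := LinearMap.range α'
  let N1 := N ⧸ Q0
  let G1 := LocalizedModule y.primeCompl N1
  let η1 : N1 →ₗ[E] G1 := LocalizedModule.mkLinearMap y.primeCompl N1
  haveI : IsScalarTower A D G1 := IsScalarTower.of_algebraMap_smul fun a x => by
    rw [IsScalarTower.algebraMap_apply A E D, IsScalarTower.algebraMap_smul, IsScalarTower.algebraMap_smul]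
  let πy : G →ₗ[D] G1 := LocalizedModule.map y.primeCompl Q0.mkQ
  have hπsurj : Function.Surjective πy := LocalizedModule.map_surjective _ _ Q0.mkQ_surjective
  have hπη : ∀ v, πy (η v) = η1 (Q0.mkQ v) := fun v => LocalizedModule.map_mk _ _ _ _
  have hker : LinearMap.ker πy = LinearMap.range α'' := by
    refine le_antisymm (fun x hx => ?_) ?_
    · obtain ⟨⟨v, t⟩, ht⟩ := IsLocalizedModule.surj y.primeCompl η x
      have h0 : η1 (Q0.mkQ v) = 0 := by
        rw [← hπη, ← ht]
        show πy ((t : E) • x) = 0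
        rw [LinearMap.map_smul_of_tower, LinearMap.mem_ker.mp hx, smul_zero]
      obtain ⟨t', ht'⟩ := (IsLocalizedModule.eq_zero_iff y.primeCompl η1).mp h0
      rw [Submonoid.smul_def, ← map_smul, Submodule.mkQ_apply, Submodule.Quotient.mk_eq_zero] at ht'
      obtain ⟨w, hw⟩ := ht'
      have hmem : algebraMap E D ((t' : E) * t) • x ∈ LinearMap.range α'' := ⟨p w, by
        rw [← hαp, hw, map_smul, ← ht, IsScalarTower.algebraMap_smul, Submonoid.smul_def, mul_smul]⟩
      have hu : IsUnit (algebraMap E D ((t' : E) * t)) := IsLocalization.map_units D (t' * t)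
      obtain ⟨b, hb⟩ := hu.exists_left_inv
      rw [← one_smul D x, ← hb, mul_smul]
      exact Submodule.smul_mem _ b hmem
    · rintro _ ⟨d, rfl⟩
      rw [LinearMap.mem_ker]
      simp only [α'', Fintype.linearCombination_apply, map_sum, map_smul, hπη]
      refine Finset.sum_eq_zero fun i _ => ?_
      rw [show Q0.mkQ (m i) = 0 from (Submodule.Quotient.mk_eq_zero Q0).mpr ⟨Pi.single i 1, by
        simp [α', Fintype.linearCombination_apply_single]⟩, map_zero, smul_zero]
  haveI : Module.Flat A G1 := by
    haveI := hflat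
    exact Module.Flat.of_linearEquiv (((Submodule.quotEquivOfEq _ _ (hrange.symm.trans hker.symm)).trans
      (LinearMap.quotKerEquivOfSurjective πy hπsurj)).restrictScalars A).symm
  have hex : Function.Exact (α''.restrictScalars A) (πy.restrictScalars A) := LinearMap.exact_iff.mpr (by
    rw [LinearMap.ker_restrictScalars, hker, LinearMap.range_restrictScalars])
  have hinj : ∀ (X : Type u) [AddCommGroup X] [Module A X], Function.Injective ((α''.restrictScalars A).rTensor X) := by
    intro X _ _
    rw [← LinearMap.lTensor_inj_iff_rTensor_inj]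
    exact LinearMap.lTensor_injective_of_exact_of_flat (πy.restrictScalars A) hπsurj (α''.restrictScalars A)
      hα''inj hex X
  -- an element killing the cokernel
  obtain ⟨⟨s0, u⟩, hsu⟩ := IsLocalization.surj y.primeCompl s
  obtain ⟨T0, hT0⟩ := Module.Finite.fg_top (R := E) (M := N)
  have hkill0 : ∀ v : N, ∃ t : y.primeCompl, ((t : E) * s0) • Q0.mkQ v = 0 := fun v => by
    have hmem : algebraMap E D s0 • η v ∈ LinearMap.range α'' := by
      rw [hrange, ← hsu, mul_comm, mul_smul]
      exact Submodule.smul_mem _ _ (hsQ _)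
    have h0 : η1 (s0 • Q0.mkQ v) = 0 := by
      rw [map_smul, ← hπη, ← IsScalarTower.algebraMap_smul D s0 (πy (η v)), ← map_smul]
      exact LinearMap.mem_ker.mp (hker ▸ hmem)
    obtain ⟨t, ht⟩ := (IsLocalizedModule.eq_zero_iff y.primeCompl η1).mp h0
    exact ⟨t, by rw [mul_smul]; exact ht⟩
  choose tk htk using hkill0
  let h1 : y.primeCompl := ∏ v ∈ T0, tk v
  let s1 : E := (h1 : E) * s0
  have hkill : ∀ x : N1, s1 • x = 0 := fun x => by
    obtain ⟨v, rfl⟩ := Q0.mkQ_surjective x
    have hv : v ∈ Submodule.span E (T0 : Set N) := hT0.symm ▸ Submodule.mem_top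
    induction hv using Submodule.span_induction with
    | mem v hv =>
      obtain ⟨w, hw⟩ := Finset.dvd_prod_of_mem tk hv
      rw [show s1 = (w : E) * ((tk v : E) * s0) by
        show ((∏ v ∈ T0, tk v : y.primeCompl) : E) * s0 = _
        rw [hw, Submonoid.coe_mul]; ring, mul_smul, htk, smul_zero]
    | zero => simp
    | add a b _ _ ha hb => rw [map_add, smul_add, ha, hb, add_zero]
    | smul a v _ hv => rw [map_smul, smul_comm, hv, smul_zero]
  -- the cokernel has the properties by induction
  have hN1 : (∃ g ∉ y, Kill A N1 y g) ∧ CAlg.IsMittagLeffler A G1 := by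
    by_cases hsy : s1 ∈ y
    swap
    · refine ⟨⟨s1, hsy, fun X _ _ x _ => ⟨1, ?_⟩⟩, ?_⟩
      · rw [pow_one]
        have hzero : ∀ x : N1 ⊗[A] X, s1 • x = 0 := fun x => by
          induction x with
          | zero => simp
          | tmul v e => rw [TensorProduct.smul_tmul', hkill, TensorProduct.zero_tmul]
          | add a b ha hb => rw [smul_add, ha, hb, add_zero]
        exact hzero x
      · haveI : Subsingleton G1 := subsingleton_of_forall_eq 0 fun x => by
          induction x using LocalizedModule.induction_on with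
          | h v t => exact (RGFlat.mk_eq_zero_iff v t).mpr ⟨⟨s1, hsy⟩, hkill v⟩
        intro ι Q _ _
        haveI : Subsingleton (G1 ⊗[A] (Π i, Q i)) := subsingleton_of_forall_eq 0 fun x => by
          induction x with
          | zero => rfl
          | tmul v e => rw [Subsingleton.elim v 0, TensorProduct.zero_tmul]
          | add a b ha hb => rw [ha, hb, add_zero]
        exact Function.injective_of_subsingleton _
    have hs1 : algebraMap E D s1 ∉ (IsLocalRing.maximalIdeal A).map (algebraMap A D) := by
      rw [map_mul, Ideal.unit_mul_mem_iff_mem _ (IsLocalization.map_units D h1)]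
      exact fun h => hs ((Ideal.mul_unit_mem_iff_mem _ (IsLocalization.map_units D u)).mp (hsu ▸ h))
    obtain ⟨d, e, hd, he, hmin⟩ := RGFlat.exists_params ε hX hprime s1 hsy hs1
    let I : Ideal E := Ideal.span {s1}
    have hIy : I ≤ y := (Ideal.span_singleton_le_iff_mem _).mpr hsy
    have hT : Module.IsTorsionBySet E N1 (I : Set E) := fun x a => by
      obtain ⟨b, hb⟩ := Ideal.mem_span_singleton'.mp a.2
      show (a : E) • x = 0
      rw [← hb, mul_smul, hkill, smul_zero]
    letI : Module (E ⧸ I) N1 := hT.module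
    haveI : IsScalarTower E (E ⧸ I) N1 := IsScalarTower.of_algebraMap_smul fun b x => rfl
    haveI : IsScalarTower A (E ⧸ I) N1 := IsScalarTower.of_algebraMap_smul fun a x => by
      show algebraMap A E a • x = a • x
      rw [IsScalarTower.algebraMap_smul]
    haveI : Module.Finite (E ⧸ I) N1 := Module.Finite.of_restrictScalars_finite E _ _
    let z : Ideal (E ⧸ I) := y.map (Ideal.Quotient.mk I)
    haveI : z.IsPrime := Ideal.map_isPrime_of_surjective Ideal.Quotient.mk_surjective (by rw [Ideal.mk_ker]; exact hIy)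
    have hzmem : ∀ {v : E}, Ideal.Quotient.mk I v ∈ z → v ∈ y := fun {v} hv => by
      rwa [Ideal.mem_quotient_iff_mem_sup, sup_eq_left.mpr hIy] at hv
    have hzy : y = z.comap (algebraMap E (E ⧸ I)) :=
      le_antisymm (fun v hv => Ideal.mem_map_of_mem _ hv) fun v hv => hzmem hv
    haveI : (z.comap (algebraMap E (E ⧸ I))).IsPrime := Ideal.comap_isPrime _ _
    have hsurj : Function.Surjective (algebraMap E (E ⧸ I)) := Ideal.Quotient.mk_surjective
    have hflatz : FlatCA.FlatAt A z N1 := (RGFlat.flatAt_comap_iff (P := E) hsurj z).mp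
      (flatAt_congr_ideal hzy (show FlatCA.FlatAt A y N1 from ‹Module.Flat A G1›))
    haveI : Algebra.FiniteType A (E ⧸ I) := Algebra.FiniteType.of_surjective (Ideal.Quotient.mkₐ A I) hsurj
    let φ : MvPolynomial (Fin d) A →ₐ[A] E ⧸ I := aeval fun i => Ideal.Quotient.mk I (e i)
    letI : Algebra (MvPolynomial (Fin d) A) (E ⧸ I) := φ.toRingHom.toAlgebra
    haveI : IsScalarTower A (MvPolynomial (Fin d) A) (E ⧸ I) :=
      IsScalarTower.of_algebraMap_eq fun a => (φ.commutes a).symm
    have hXz : ∀ i, algebraMap _ (E ⧸ I) (X i : MvPolynomial (Fin d) A) ∈ z := fun i => by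
      show φ (X i) ∈ z
      simp only [φ, aeval_X]
      exact Ideal.mem_map_of_mem _ (he i)
    have hmz : (IsLocalRing.maximalIdeal A).map (algebraMap A (E ⧸ I)) ≤ z := by
      rw [IsScalarTower.algebraMap_eq A E (E ⧸ I), ← Ideal.map_map]
      refine Ideal.map_mono (Ideal.map_le_iff_le_comap.mpr fun a ha => ?_)
      show ε (algebraMap A E a) ∈ IsLocalRing.maximalIdeal A
      rwa [ε.commutes]
    have hrat : ∀ b : E ⧸ I, ∃ a : A, b - algebraMap A (E ⧸ I) a ∈ z := by
      intro b
      obtain ⟨b, rfl⟩ := Ideal.Quotient.mk_surjective b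
      refine ⟨ε b, ?_⟩
      rw [IsScalarTower.algebraMap_apply A E (E ⧸ I), Ideal.Quotient.algebraMap_eq, ← map_sub]
      refine Ideal.mem_map_of_mem _ ?_
      show ε (b - algebraMap A E (ε b)) ∈ IsLocalRing.maximalIdeal A
      simp
    have hqf : Algebra.QuasiFiniteAt (MvPolynomial (Fin d) A) z := by
      refine RGFlat.quasiFiniteAt_of_minimal z hrat hmz fun Q' hQ' hQz hmQ hPQ => ?_
      haveI := hQ'
      have h2 := hmin (Q'.comap (Ideal.Quotient.mk I)) inferInstance
        (fun v hv => hzmem (hQz hv)) ?_ ?_ fun i => ?_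
      · rw [← Ideal.map_comap_of_surjective (Ideal.Quotient.mk I) Ideal.Quotient.mk_surjective Q', h2]
      · refine Ideal.map_le_iff_le_comap.mp ?_
        rw [Ideal.map_map]
        exact hmQ
      · show Ideal.Quotient.mk I s1 ∈ Q'
        rw [Ideal.Quotient.eq_zero_iff_mem.mpr (Ideal.mem_span_singleton_self s1)]
        exact zero_mem _
      · show Ideal.Quotient.mk I (e i) ∈ Q'
        have h3 : φ (X i) ∈ Q' := hPQ (Ideal.mem_map_of_mem _ (hXz i))
        simpa [φ] using h3
    obtain ⟨⟨g, hg, hgK⟩, hML⟩ := H d hd A (E ⧸ I) z hmz hrat hXz hqf N1 hflatz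
    obtain ⟨g, rfl⟩ := hsurj g
    refine ⟨⟨g, fun h => hg (Ideal.mem_map_of_mem _ h), fun X _ _ x ⟨t, ht, htx⟩ => ?_⟩, ?_⟩
    · obtain ⟨k, hk⟩ := hgK X x ⟨algebraMap E (E ⧸ I) t, fun h => ht (hzmem h), by rw [IsScalarTower.algebraMap_smul, htx]⟩
      exact ⟨k, by rwa [← map_pow, IsScalarTower.algebraMap_smul] at hk⟩
    · have hTz : z.primeCompl = Algebra.algebraMapSubmonoid (E ⧸ I) y.primeCompl := by
        ext v
        constructor
        · intro hv
          obtain ⟨v, rfl⟩ := hsurj v
          exact ⟨v, fun h => hv (Ideal.mem_map_of_mem _ h), rfl⟩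
        · rintro ⟨v, hv, rfl⟩ hvz
          exact hv (hzmem hvz)
      haveI := FlatOpen.isLocalizedModule_restrict y.primeCompl z.primeCompl hTz
        (LocalizedModule.mkLinearMap z.primeCompl N1)
      exact MLMod.isMittagLeffler_congr ((IsLocalizedModule.iso y.primeCompl
        ((LocalizedModule.mkLinearMap z.primeCompl N1).restrictScalars E)).restrictScalars A).symm hML
  obtain ⟨⟨g3, hg3, hK3⟩, hML1⟩ := hN1
  refine ⟨?_, S6339.result A (α''.restrictScalars A) (πy.restrictScalars A) (fun Q _ _ => hinj Q) hπsurj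
    (LinearMap.exact_iff.mp hex).symm (isMittagLeffler_pi r (isMittagLeffler_of_coeff co hsep)) hML1⟩
  -- the killing property
  obtain ⟨h, hh, hle⟩ := exists_nbhd_relAss_le ε y rfl
  have hKE : Kill A E y h := fun X _ _ x hx =>
    eq_zero_nbhd y h (fun Q _ _ => RGFlat.flatAt_of_flat Q) hle X x hx
  refine ⟨g3 * h, fun hgh => ((inferInstance : y.IsPrime).mem_or_mem hgh).elim hg3 hh, fun X _ _ x ⟨t, ht, htx⟩ => ?_⟩
  let αT := AlgebraTensorModule.rTensor A X α'
  let πT := AlgebraTensorModule.rTensor A X Q0.mkQ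
  obtain ⟨k, hk⟩ := hK3 X (πT x) ⟨t, ht, by rw [← map_smul, htx, map_zero]⟩
  obtain ⟨w, hw⟩ := ((rTensor_exact X (show Function.Exact (α'.restrictScalars A) (Q0.mkQ.restrictScalars A) from
    LinearMap.exact_map_mkQ_range α') Q0.mkQ_surjective) (g3 ^ k • x)).mp (by
      show πT (g3 ^ k • x) = 0
      rw [map_smul, hk])
  have h0 : (p.restrictScalars A).rTensor X w = 0 := hinj X (by
    rw [map_zero, ← LinearMap.rTensor_comp_apply,
      show α''.restrictScalars A ∘ₗ p.restrictScalars A = η.restrictScalars A ∘ₗ α'.restrictScalars A from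
        LinearMap.ext fun v => (hαp v).symm,
      LinearMap.rTensor_comp_apply, hw]
    exact (rTensor_mk_eq_zero_iff y.primeCompl η X _).mpr ⟨⟨t, ht⟩, by rw [smul_comm, htx, smul_zero]⟩)
  have hcomp : ∀ i, ∃ k : ℕ, h ^ k • AlgebraTensorModule.rTensor A X (LinearMap.proj (R := E) (φ := fun _ : Fin r => E) i) w = 0 := by
    intro i
    let wi := AlgebraTensorModule.rTensor A X (LinearMap.proj (R := E) (φ := fun _ : Fin r => E) i) w
    have h1 : ((Algebra.linearMap E D).restrictScalars A).rTensor X wi = 0 := by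
      show ((Algebra.linearMap E D).restrictScalars A).rTensor X
        (((LinearMap.proj (R := E) (φ := fun _ : Fin r => E) i).restrictScalars A).rTensor X w) = 0
      rw [← LinearMap.rTensor_comp_apply,
        show (Algebra.linearMap E D).restrictScalars A ∘ₗ (LinearMap.proj (R := E) (φ := fun _ : Fin r => E) i).restrictScalars A =
          LinearMap.proj (R := A) (φ := fun _ : Fin r => D) i ∘ₗ p.restrictScalars A from rfl,
        LinearMap.rTensor_comp_apply, h0, map_zero]
    obtain ⟨t', ht'⟩ := (rTensor_mk_eq_zero_iff y.primeCompl (Algebra.linearMap E D) X wi).mp h1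
    exact hKE X wi ⟨t', t'.2, ht'⟩
  choose kk hkk using hcomp
  refine ⟨k + ∑ i, kk i, ?_⟩
  have hw0 : h ^ (∑ i, kk i) • w = 0 := by
    rw [sum_single_proj (h ^ (∑ i, kk i) • w)]
    refine Finset.sum_eq_zero fun i _ => ?_
    rw [show (LinearMap.proj (R := A) (φ := fun _ : Fin r => E) i).rTensor X (h ^ (∑ i, kk i) • w) =
        h ^ (∑ i, kk i) • AlgebraTensorModule.rTensor A X (LinearMap.proj (R := E) (φ := fun _ : Fin r => E) i) w from
          map_smul (AlgebraTensorModule.rTensor A X (LinearMap.proj (R := E) (φ := fun _ : Fin r => E) i)) _ w,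
      ← Finset.sum_erase_add _ _ (Finset.mem_univ i), pow_add, mul_smul, hkk, smul_zero, map_zero]
  rw [show (g3 * h) ^ (k + ∑ i, kk i) = g3 ^ (∑ i, kk i) * h ^ k * (h ^ (∑ i, kk i) * g3 ^ k) by ring,
    mul_smul, mul_smul (h ^ (∑ i, kk i)), ← hw, show (α'.restrictScalars A).rTensor X w = αT w from rfl,
    ← map_smul αT, hw0, map_zero, smul_zero]

end Groth.Agent.HP
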