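import Groth.Agent.RGFlat.Core

/-!
Modules whose relations are those of a flat module modulo the maximal ideal, and the dévissage step for them.
-/

set_option autoImplicit false

universe u v

open Module TensorProduct

namespace Groth.Agent.HP.Sep

open RGFlat (co_mem_of_mem_map exists_fg_le exists_sum_of_mem smul_mem_of_mem_map)

/-- In a relation with coefficients minimal modulo `I` all the members vanish modulo the maximal ideal. -/
def Sep (A : Type u) [CommRing A] [IsLocalRing A] (G : Type u) [AddCommGroup G] [Module A G] : Prop :=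
  ∀ (k : ℕ) (a : Fin k → A) (I : Ideal A),
    (∀ b : Fin k → A, ∑ j, a j * b j ∈ I → ∀ j, b j ∈ IsLocalRing.maximalIdeal A) →
    ∀ h : Fin k → G, ∑ j, a j • h j ∈ I • (⊤ : Submodule A G) → ∀ j, h j ∈ IsLocalRing.maximalIdeal A • (⊤ : Submodule A G)

variable {A : Type u} [CommRing A] [IsLocalRing A]

/-- A map to a flat module injective modulo the maximal ideal. -/
theorem sep_of_map {N M : Type u} [AddCommGroup N] [Module A N] [AddCommGroup M] [Module A M] [Module.Flat A M]
    (u : N →ₗ[A] M)
    (hu : ∀ n, u n ∈ IsLocalRing.maximalIdeal A • (⊤ : Submodule A M) → n ∈ IsLocalRing.maximalIdeal A • (⊤ : Submodule A N)) :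
    Sep A N := by
  intro k a I hmin h hh j
  refine hu _ ?_
  have h' : ∑ j, a j • u (h j) ∈ I • (⊤ : Submodule A M) := by
    have := Submodule.mem_map_of_mem (f := u) hh
    rw [Submodule.map_smul''] at this
    simp only [map_sum, map_smul] at this
    exact Submodule.smul_mono le_rfl le_top this
  obtain ⟨w, hw⟩ : ∃ w : I →₀ M, ∑ j, a j • u (h j) = w.sum fun b x => (b : A) • x := by
    refine Submodule.smul_induction_on h' (fun b hb x _ => ⟨Finsupp.single ⟨b, hb⟩ x, ?_⟩) ?_
    · rw [Finsupp.sum_single_index]; exact smul_zero _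
    · rintro x y ⟨w₁, rfl⟩ ⟨w₂, rfl⟩
      exact ⟨w₁ + w₂, (Finsupp.sum_add_index' (fun _ => smul_zero _) fun _ _ _ => smul_add _ _ _).symm⟩
  let F : Fin k ⊕ w.support → A := Sum.elim a fun b => -(b.1 : A)
  let H : Fin k ⊕ w.support → M := Sum.elim (fun j => u (h j)) fun b => w b.1
  have h0 : ∑ x, F x • H x = 0 := by
    rw [Fintype.sum_sum_type, show ∑ j, F (Sum.inl j) • H (Sum.inl j) = _ from hw]
    simp only [F, H, Sum.elim_inr, neg_smul, Finset.sum_neg_distrib]
    rw [Finset.sum_coe_sort w.support fun b : I => (b : A) • w b]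
    exact add_neg_cancel _
  obtain ⟨l, b, y, hy, hb⟩ := Module.Flat.isTrivialRelation_of_sum_smul_eq_zero h0
  rw [show u (h j) = H (Sum.inl j) from rfl, hy]
  refine sum_mem fun t _ => Submodule.smul_mem_smul (hmin (fun j => b (Sum.inl j) t) ?_ j) trivial
  have h2 := hb t
  rw [Fintype.sum_sum_type] at h2
  rw [show (∑ j, a j * b (Sum.inl j) t) = ∑ j, F (Sum.inl j) * b (Sum.inl j) t from rfl, eq_neg_of_add_eq_zero_left h2]
  exact I.neg_mem (I.sum_mem fun x _ => I.mul_mem_right _ (I.neg_mem x.1.2))

/-- Flat extensions of the ring acting keep the property. -/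
theorem sep_tensor {C L : Type u} [CommRing C] [Algebra A C] [CommRing L] [Algebra C L] [Algebra A L] [IsScalarTower A C L]
    [Module.Flat C L] {W : Type u} [AddCommGroup W] [Module C W] [Module A W] [IsScalarTower A C W]
    (hW : Sep A W) : Sep A (L ⊗[C] W) := by
  classical
  intro k a I hmin h hh j
  let IW : Submodule C W := I.map (algebraMap A C) • ⊤
  let mW : Submodule C W := (IsLocalRing.maximalIdeal A).map (algebraMap A C) • ⊤
  have hres : ∀ (J : Ideal A) (x : W), x ∈ J.map (algebraMap A C) • (⊤ : Submodule C W) ↔ x ∈ J • (⊤ : Submodule A W) :=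
    fun J x => by rw [← Submodule.restrictScalars_mem A, Submodule.restrictScalars_map_smul_eq, Submodule.restrictScalars_top]
  let Φ : (Fin k → W) →ₗ[C] W ⧸ IW := IW.mkQ ∘ₗ ∑ i, algebraMap A C (a i) • LinearMap.proj i
  let π : (Fin k → W) →ₗ[C] W ⧸ mW := mW.mkQ ∘ₗ LinearMap.proj j
  have hker : π ∘ₗ (LinearMap.ker Φ).subtype = 0 := LinearMap.ext fun ⟨v, hv⟩ => by
    refine (Submodule.Quotient.mk_eq_zero mW).mpr ((hres _ _).mpr (hW k a I hmin v ((hres _ _).mp ?_) j))
    have := (Submodule.Quotient.mk_eq_zero IW).mp hv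
    simpa [IsScalarTower.algebraMap_smul] using this
  let w : L ⊗[C] (Fin k → W) := ∑ i, (LinearMap.single C (fun _ : Fin k => W) i).lTensor L (h i)
  have hsingle : ∀ i l (x : L ⊗[C] W), (LinearMap.proj (R := C) (φ := fun _ : Fin k => W) i).lTensor L
      ((LinearMap.single C (fun _ : Fin k => W) l).lTensor L x) = if l = i then x else 0 := by
    intro i l x
    classical
    induction x with
    | zero => simp
    | tmul r v => rcases eq_or_ne l i with rfl | hne <;> simp_all
    | add x y hx hy =>
      rw [map_add, map_add, hx, hy]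
      split_ifs <;> simp
  have hproj : ∀ i, (LinearMap.proj (R := C) (φ := fun _ : Fin k => W) i).lTensor L w = h i := fun i => by
    simp [w, map_sum, hsingle]
  have h1 : Φ.lTensor L w = 0 := by
    rw [LinearMap.lTensor_comp_apply]
    have : (∑ i, algebraMap A C (a i) • LinearMap.proj (R := C) (φ := fun _ : Fin k => W) i).lTensor L w = ∑ i, a i • h i := by
      simp only [← LinearMap.coe_lTensorHom, map_sum, map_smul, LinearMap.coe_sum, Finset.sum_apply, LinearMap.smul_apply]
      simp [hproj, IsScalarTower.algebraMap_smul]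
    rw [this]
    refine Submodule.smul_induction_on hh (fun c hc x hxt => ?_) fun x y hx hy => by rw [map_add, hx, hy, add_zero]
    clear hxt
    rw [← IsScalarTower.algebraMap_smul C c x, map_smul]
    induction x with
    | zero => simp
    | tmul r v =>
      rw [LinearMap.lTensor_tmul, ← TensorProduct.tmul_smul, ← map_smul,
        show IW.mkQ (algebraMap A C c • v) = 0 from (Submodule.Quotient.mk_eq_zero IW).mpr
          (Submodule.smul_mem_smul (Ideal.mem_map_of_mem _ hc) trivial), TensorProduct.tmul_zero]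
    | add x y hx hy => rw [map_add, smul_add, hx, hy, add_zero]
  obtain ⟨z, hz⟩ := (Module.Flat.lTensor_exact L (LinearMap.exact_subtype_ker_map Φ) w).mp h1
  have h2 : mW.mkQ.lTensor L (h j) = 0 := by
    rw [← hproj j, ← LinearMap.lTensor_comp_apply, ← hz, ← LinearMap.lTensor_comp_apply, hker, LinearMap.lTensor_zero,
      LinearMap.zero_apply]
  obtain ⟨y, hy⟩ := ((lTensor_exact L (LinearMap.exact_subtype_mkQ mW) mW.mkQ_surjective) (h j)).mp h2
  rw [← hy]
  clear hy
  induction y with
  | zero => simp
  | tmul r v =>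
    obtain ⟨v, hv⟩ := v
    refine Submodule.smul_induction_on (p := fun v => r ⊗ₜ[C] v ∈ IsLocalRing.maximalIdeal A • (⊤ : Submodule A (L ⊗[C] W)))
      ((hres _ v).mp hv) (fun c hc x _ => ?_) fun x y hx hy => by rw [TensorProduct.tmul_add]; exact add_mem hx hy
    rw [← IsScalarTower.algebraMap_smul C c x, TensorProduct.tmul_smul, IsScalarTower.algebraMap_smul]
    exact Submodule.smul_mem_smul hc trivial
  | add x y hx hy => rw [map_add]; exact add_mem hx hy

theorem sep_equiv {G G' : Type u} [AddCommGroup G] [Module A G] [AddCommGroup G'] [Module A G'] (e : G ≃ₗ[A] G')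
    (h : Sep A G) : Sep A G' := by
  have hmem : ∀ (J : Ideal A) (x : G'), x ∈ J • (⊤ : Submodule A G') → e.symm x ∈ J • (⊤ : Submodule A G) := fun J x hx => by
    have := Submodule.mem_map_of_mem (f := e.symm.toLinearMap) hx
    rw [Submodule.map_smul''] at this
    exact Submodule.smul_mono le_rfl le_top this
  have hmem' : ∀ (J : Ideal A) (x : G), x ∈ J • (⊤ : Submodule A G) → e x ∈ J • (⊤ : Submodule A G') := fun J x hx => by
    have := Submodule.mem_map_of_mem (f := e.toLinearMap) hx
    rw [Submodule.map_smul''] at this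
    exact Submodule.smul_mono le_rfl le_top this
  intro k a I hmin v hv j
  have := h k a I hmin (fun i => e.symm (v i)) (by simpa [map_sum] using hmem _ _ hv) j
  simpa using hmem' _ _ this

variable {D : Type u} [CommRing D] [Algebra A D] {σ : Type v}

local notation "mD" => Ideal.map (algebraMap A D) (IsLocalRing.maximalIdeal A)

variable {G : Type u} [AddCommGroup G] [Module A G] [Module D G] [IsScalarTower A D G]

theorem mem_map_of_sum_mem (hG : Sep A G) (co : D →ₗ[A] σ → A) (hsep : ∀ (I : Ideal A) (d : D), (∀ ν, co d ν ∈ I) → d ∈ I.map (algebraMap A D))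
    {r : ℕ} (g : Fin r → G)
    (hind : ∀ e : Fin r → D, ∑ i, e i • g i ∈ IsLocalRing.maximalIdeal A • (⊤ : Submodule A G) → ∀ i, e i ∈ mD)
    (I : Ideal A) (d : Fin r → D) (hd : ∑ i, d i • g i ∈ I • (⊤ : Submodule A G)) (i : Fin r) :
    d i ∈ I.map (algebraMap A D) := by
  classical
  let c : Ideal A := Ideal.span (Set.range fun x : Fin r × σ => co (d x.1) x.2)
  have hdc : ∀ i, d i ∈ c.map (algebraMap A D) := fun i =>
    hsep c (d i) fun ν => Ideal.subset_span ⟨(i, ν), rfl⟩
  obtain ⟨s, hs, hds⟩ := exists_fg_le c d hdc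
  have hcs : c = Ideal.span (s : Set A) := le_antisymm
    (Ideal.span_le.mpr (by rintro _ ⟨⟨i, ν⟩, rfl⟩; exact co_mem_of_mem_map co (hds i) ν))
    (Ideal.span_le.mpr hs)
  -- a shortest list of generators of `c` modulo `I`
  have hex : ∃ k, ∃ a : Fin k → A, (∀ j, a j ∈ c) ∧ c ≤ Ideal.span (Set.range a) ⊔ I := by
    refine ⟨s.card, fun j => (s.equivFin.symm j : A), fun j => hs (s.equivFin.symm j).2, ?_⟩
    refine le_trans (le_of_eq hcs) (le_trans (Ideal.span_mono ?_) le_sup_left)
    intro x hx
    exact ⟨s.equivFin ⟨x, hx⟩, by simp⟩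
  obtain ⟨a, hac, ha⟩ := Nat.find_spec hex
  choose e he using fun i => exists_sum_of_mem a (Ideal.map_mono ha (hdc i))
  let h : Fin (Nat.find hex) → G := fun j => ∑ i, e i j • g i
  have hrel : ∑ j, a j • h j ∈ I • (⊤ : Submodule A G) := by
    have h1 : ∑ j, a j • h j = (∑ i, d i • g i) - ∑ i, (d i - ∑ j, a j • e i j) • g i := by
      simp only [h, Finset.smul_sum, sub_smul, Finset.sum_sub_distrib, sub_sub_cancel, Finset.sum_smul,
        smul_assoc]
      exact Finset.sum_comm
    rw [h1]
    exact sub_mem hd (sum_mem fun i _ => smul_mem_of_mem_map (he i) _)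
  have hmin : ∀ b : Fin (Nat.find hex) → A, ∑ j, a j * b j ∈ I → ∀ j, b j ∈ IsLocalRing.maximalIdeal A := by
    intro b hb j
    by_contra hu
    rw [IsLocalRing.mem_maximalIdeal, mem_nonunits_iff, not_not] at hu
    obtain ⟨n, hn⟩ : ∃ n, Nat.find hex = n + 1 := ⟨Nat.find hex - 1, by have := j.2; omega⟩
    refine Nat.find_min hex (show n < Nat.find hex by omega)
      ⟨fun l => a (Fin.cast hn.symm ((Fin.cast hn j).succAbove l)), fun l => hac _, ?_⟩
    refine le_trans ha (sup_le (Ideal.span_le.mpr ?_) le_sup_right)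
    rintro _ ⟨l, rfl⟩
    set S := Ideal.span (Set.range fun l => a (Fin.cast hn.symm ((Fin.cast hn j).succAbove l))) ⊔ I
    have hne : ∀ l, l ≠ j → a l ∈ S := by
      intro l hl
      obtain ⟨l', hl'⟩ := Fin.exists_succAbove_eq (x := Fin.cast hn l) (y := Fin.cast hn j)
        (fun h => hl (Fin.cast_injective hn h))
      refine Ideal.mem_sup_left (Ideal.subset_span ⟨l', ?_⟩)
      simp [hl']
    show a l ∈ S
    by_cases hl : l = j
    · subst hl
      rw [← Finset.add_sum_erase _ _ (Finset.mem_univ l)] at hb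
      have h3 : a l * b l ∈ S := by
        have := S.sub_mem (Ideal.mem_sup_right hb) (S.sum_mem fun x (hx : x ∈ Finset.univ.erase l) =>
          S.mul_mem_right (b x) (hne x (Finset.ne_of_mem_erase hx)))
        rwa [add_sub_cancel_right] at this
      obtain ⟨u, hu'⟩ := hu.exists_right_inv
      have := S.mul_mem_right u h3
      rwa [mul_assoc, hu', mul_one] at this
    · exact hne l hl
  have hem : ∀ i j, e i j ∈ mD := fun i j => hind (fun i => e i j) (hG _ a I hmin h hrel j) i
  -- Nakayama on the content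
  have hc : c ≤ I := by
    refine Submodule.le_of_le_smul_of_le_jacobson_bot (hcs ▸ Submodule.fg_span s.finite_toSet)
      (IsLocalRing.maximalIdeal_le_jacobson ⊥) ?_
    refine Ideal.span_le.mpr ?_
    rintro _ ⟨⟨i, ν⟩, rfl⟩
    show co (d i) ν ∈ I ⊔ IsLocalRing.maximalIdeal A • c
    have h2 : d i = (d i - ∑ j, a j • e i j) + ∑ j, a j • e i j := by rw [sub_add_cancel]
    rw [h2, map_add, map_sum]
    refine add_mem (Ideal.mem_sup_left (co_mem_of_mem_map co (he i) ν)) ?_
    rw [Finset.sum_apply]
    refine sum_mem fun j _ => Ideal.mem_sup_right ?_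
    rw [map_smul, Pi.smul_apply, smul_eq_mul, smul_eq_mul, mul_comm (IsLocalRing.maximalIdeal A) c]
    exact Ideal.mul_mem_mul (hac j) (co_mem_of_mem_map co (hem i j) ν)
  exact Ideal.map_mono hc (hdc i)

/-- The dévissage step. -/
theorem exists_step (hG : Sep A G) [Module.Finite D G] (co : D →ₗ[A] σ → A)
    (hsep : ∀ (I : Ideal A) (d : D), (∀ ν, co d ν ∈ I) → d ∈ I.map (algebraMap A D))
    (hprime : (mD).IsPrime) :
    ∃ (r : ℕ) (α : (Fin r → D) →ₗ[D] G) (s : D), s ∉ mD ∧ (∀ z : G, s • z ∈ LinearMap.range α) ∧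
      Function.Injective α ∧ ∀ (I : Ideal A) (d : Fin r → D), α d ∈ I • (⊤ : Submodule A G) → ∀ i, d i ∈ I.map (algebraMap A D) := by
  classical
  obtain ⟨N, z, hz⟩ := Module.Finite.exists_fin (R := D) (M := G)
  let m := IsLocalRing.maximalIdeal A • (⊤ : Submodule A G)
  let Ind : Finset (Fin N) → Prop := fun S =>
    ∀ e : Fin N → D, ∑ i ∈ S, e i • z i ∈ m → ∀ i ∈ S, e i ∈ mD
  have h0 : ({∅} : Finset (Finset (Fin N))).Nonempty := by simp
  obtain ⟨S, hS, hmax⟩ := Finset.exists_max_image (Finset.univ.filter Ind) Finset.card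
    ⟨∅, by simp [Ind]⟩
  simp only [Finset.mem_filter, Finset.mem_univ, true_and] at hS hmax
  let g : Fin S.card → G := fun j => z (S.equivFin.symm j)
  have hind : ∀ e : Fin S.card → D, ∑ j, e j • g j ∈ m → ∀ j, e j ∈ mD := by
    intro e he j
    have := hS (fun i => if hi : i ∈ S then e (S.equivFin ⟨i, hi⟩) else 0) (by
      rw [← Finset.sum_coe_sort]
      rw [← S.equivFin.symm.sum_comp]
      simpa [g] using he) _ (S.equivFin.symm j).2
    simpa using this
  let α : (Fin S.card → D) →ₗ[D] G := Fintype.linearCombination D g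
  have hrange : LinearMap.range α = Submodule.span D (Set.range g) := Fintype.range_linearCombination D g
  let Q := LinearMap.range α
  -- each generator is torsion modulo `m G`
  have hz' : ∀ i, ∃ s : D, s ∉ mD ∧ ∃ q ∈ Q, s • z i - q ∈ m := by
    intro i
    by_cases hi : i ∈ S
    · refine ⟨1, fun h => hprime.ne_top ((Ideal.eq_top_iff_one _).mpr h), z i, ?_, by simp⟩
      show z i ∈ LinearMap.range α
      rw [hrange]
      exact Submodule.subset_span ⟨S.equivFin ⟨i, hi⟩, by simp [g]⟩
    · have hnot : ¬ Ind (insert i S) := fun h => by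
        have := hmax _ h
        rw [Finset.card_insert_of_notMem hi] at this
        omega
      simp only [Ind, not_forall] at hnot
      obtain ⟨e, he, j, hj, hej⟩ := hnot
      rw [Finset.sum_insert hi] at he
      refine ⟨e i, fun hei => hej ?_, -∑ x ∈ S, e x • z x, ?_, by simpa [sub_neg_eq_add] using he⟩
      · rcases Finset.mem_insert.mp hj with rfl | hj
        · exact hei
        · refine hS e ?_ j hj
          have := sub_mem he (smul_mem_of_mem_map (G := G) hei (z i))
          simpa using this
      · show _ ∈ LinearMap.range α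
        rw [hrange]
        exact neg_mem (sum_mem fun x hx => Submodule.smul_mem _ _
          (Submodule.subset_span ⟨S.equivFin ⟨x, hx⟩, by simp [g]⟩))
  choose t ht q hq htq using hz'
  let T := ∏ i, t i
  have hT : T ∉ mD := fun h => by
    obtain ⟨i, -, hi⟩ := (hprime.prod_mem_iff).mp h
    exact ht i hi
  have hmle : ∀ x ∈ m, Q.mkQ x ∈ (mD) • (⊤ : Submodule D (G ⧸ Q)) := fun x hx => by
    refine Submodule.smul_induction_on hx (fun a ha y _ => ?_) (fun x y hx hy => ?_)
    · rw [← IsScalarTower.algebraMap_smul D a y, map_smul]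
      exact Submodule.smul_mem_smul (Ideal.mem_map_of_mem _ ha) trivial
    · rw [map_add]; exact add_mem hx hy
  have hTm : ∀ x : G ⧸ Q, T • x ∈ (mD) • (⊤ : Submodule D (G ⧸ Q)) := by
    intro x
    obtain ⟨x, rfl⟩ := Q.mkQ_surjective x
    have hx : x ∈ Submodule.span D (Set.range z) := by rw [hz]; trivial
    induction hx using Submodule.span_induction with
    | mem x hx =>
      obtain ⟨i, rfl⟩ := hx
      have h1 := hmle _ (htq i)
      rw [map_sub, show Q.mkQ (q i) = 0 from (Submodule.Quotient.mk_eq_zero _).mpr (hq i), sub_zero, map_smul] at h1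
      rw [show T = (∏ x ∈ Finset.univ.erase i, t x) * t i from (Finset.prod_erase_mul _ _ (Finset.mem_univ i)).symm,
        mul_smul]
      exact Submodule.smul_mem _ _ h1
    | zero => simp
    | add x y _ _ hx hy => rw [map_add, smul_add]; exact add_mem hx hy
    | smul a x _ hx => rw [map_smul, smul_comm]; exact Submodule.smul_mem _ _ hx
  obtain ⟨p, hp, -, hcoeff, hpT⟩ := LinearMap.exists_monic_and_natDegree_eq_and_coeff_mem_pow_and_aeval_eq_zero
    D (algebraMap D (Module.End D (G ⧸ Q)) T) (mD) (by rintro _ ⟨x, rfl⟩; exact hTm x)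
  refine ⟨S.card, α, p.eval T, ?_, fun x => ?_, ?_, ?_⟩
  · intro h
    rw [Polynomial.eval_eq_sum_range, Finset.sum_range_succ, hp.coeff_natDegree, one_mul] at h
    have h1 := (Ideal.add_mem_iff_right _ ?_).mp h
    · exact hT (hprime.mem_of_pow_mem _ h1)
    · refine sum_mem fun k hk => Ideal.mul_mem_right _ _ ?_
      exact Ideal.pow_le_self (by simp at hk; omega) (hcoeff k)
  · rw [show algebraMap D (Module.End D (G ⧸ Q)) T = Algebra.ofId D _ T from rfl, Polynomial.aeval_algHom_apply,
      Polynomial.coe_aeval_eq_eval, Algebra.ofId_apply] at hpT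
    have := LinearMap.congr_fun hpT (Q.mkQ x)
    rw [Module.algebraMap_end_apply, LinearMap.zero_apply, ← map_smul] at this
    exact (Submodule.Quotient.mk_eq_zero _).mp this
  · rw [← LinearMap.ker_eq_bot, eq_bot_iff]
    intro d hd
    rw [Submodule.mem_bot]
    funext i
    have := mem_map_of_sum_mem hG co hsep g hind ⊥ d (by
      rw [Submodule.bot_smul, Submodule.mem_bot]
      simpa [α, Fintype.linearCombination_apply] using hd) i
    simpa using this
  · intro I d hd
    refine mem_map_of_sum_mem hG co hsep g hind I d ?_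
    simpa [α, Fintype.linearCombination_apply] using hd


/-- The cokernel keeps the property. -/
theorem sep_coker {r : ℕ} (α : (Fin r → D) →ₗ[D] G) (hG : Sep A G)
    (hα : ∀ (I : Ideal A) (d : Fin r → D), α d ∈ I • (⊤ : Submodule A G) → ∀ i, d i ∈ I.map (algebraMap A D)) :
    Sep A (G ⧸ LinearMap.range α) := by
  intro k a I hmin h hh j
  choose g hg using fun j => Submodule.Quotient.mk_surjective _ (h j)
  let q : G →ₗ[A] G ⧸ LinearMap.range α := (LinearMap.range α).mkQ.restrictScalars A
  have hI : I • (⊤ : Submodule A (G ⧸ LinearMap.range α)) = Submodule.map q (I • ⊤) := by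
    rw [Submodule.map_smul'', Submodule.map_top, show LinearMap.range q = ⊤ from LinearMap.range_eq_top.mpr (Submodule.mkQ_surjective _)]
  have hq : ∀ j, q (g j) = h j := hg
  rw [hI, Submodule.mem_map] at hh
  obtain ⟨v, hv, hvh⟩ := hh
  obtain ⟨d, hd⟩ : ∑ j, a j • g j - v ∈ LinearMap.range α := by
    refine (Submodule.Quotient.mk_eq_zero _).mp (show q (∑ j, a j • g j - v) = 0 from ?_)
    simp [map_sum, hq, hvh]
  have hdI := hα (Ideal.span (Set.range a) ⊔ I) d (by
    rw [hd]
    exact sub_mem (sum_mem fun j _ => Submodule.smul_mem_smul (Ideal.mem_sup_left (Ideal.subset_span ⟨j, rfl⟩)) trivial)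
      (Submodule.smul_mono le_sup_right le_rfl hv))
  choose e he using fun i => exists_sum_of_mem a (hdI i)
  have h1 := hG k a I hmin (fun j => g j - α (fun i => e i j)) ?_ j
  · rw [← hq j, ← sub_add_cancel (g j) (α fun i => e i j), map_add,
      show q (α fun i => e i j) = 0 from (Submodule.Quotient.mk_eq_zero _).mpr ⟨_, rfl⟩, add_zero]
    exact Submodule.smul_mono le_rfl le_top (Submodule.map_smul'' _ _ q ▸ Submodule.mem_map_of_mem h1)
  have h2 : ∑ j, a j • (g j - α fun i => e i j) = v + α (fun i => d i - ∑ j, a j • e i j) := by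
    rw [show (fun i => d i - ∑ j, a j • e i j) = d - ∑ j, a j • fun i => e i j from funext fun i => by simp,
      map_sub, map_sum, hd]
    simp only [smul_sub, Finset.sum_sub_distrib, LinearMap.map_smul_of_tower]
    abel
  rw [h2]
  refine add_mem hv ?_
  rw [pi_eq_sum_univ' (fun i => d i - ∑ j, a j • e i j), map_sum]
  refine sum_mem fun i _ => ?_
  rw [map_smul]
  exact smul_mem_of_mem_map (he i) _

omit [IsLocalRing A] in
/-- Flatness from the free part and the cokernel. -/
theorem flat_of_coker [Module.Flat A D] {r : ℕ} (α : (Fin r → D) →ₗ[D] G) (hα : Function.Injective α)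
    [Module.Flat A (G ⧸ LinearMap.range α)] : Module.Flat A G := by
  rw [Module.Flat.iff_lTensor_injective']
  intro J
  let Q := LinearMap.range α
  let q : G →ₗ[A] G ⧸ Q := Q.mkQ.restrictScalars A
  let a : (Fin r → D) →ₗ[A] G := α.restrictScalars A
  haveI : Module.Flat A (Fin r → D) := by
    classical
    exact Module.Flat.of_linearEquiv
      ((Finsupp.linearEquivFunOnFinite A D (Fin r)).symm.trans (finsuppLequivDFinsupp A))
  rw [injective_iff_map_eq_zero]
  intro x hx
  have h1 : q.rTensor J x = 0 := Module.Flat.lTensor_preserves_injective_linearMap (M := G ⧸ Q) J.subtype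
    J.injective_subtype (by
      rw [map_zero, ← LinearMap.comp_apply, LinearMap.lTensor_comp_rTensor, ← LinearMap.rTensor_comp_lTensor,
        LinearMap.comp_apply, hx, map_zero])
  obtain ⟨y, rfl⟩ := (rTensor_exact J (show Function.Exact a q from LinearMap.exact_map_mkQ_range α) Q.mkQ_surjective x).mp h1
  rw [← LinearMap.comp_apply, LinearMap.lTensor_comp_rTensor, ← LinearMap.rTensor_comp_lTensor, LinearMap.comp_apply] at hx
  have h2 : J.subtype.lTensor (Fin r → D) y = 0 := by
    refine (TensorProduct.rid A (Fin r → D)).injective ?_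
    rw [map_zero]
    refine hα ?_
    have h3 : ∀ z : (Fin r → D) ⊗[A] A, a (TensorProduct.rid A _ z) = TensorProduct.rid A G (a.rTensor A z) := fun z => by
      induction z with
      | zero => simp
      | tmul v c => simp
      | add v w hv hw => simp only [map_add, hv, hw]
    rw [map_zero, show α (TensorProduct.rid A _ _) = a (TensorProduct.rid A _ _) from rfl, h3, hx, map_zero]
  rw [Module.Flat.lTensor_preserves_injective_linearMap (M := Fin r → D) J.subtype J.injective_subtype
    (h2.trans (map_zero _).symm), map_zero]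

end Groth.Agent.HP.Sep
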