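import Groth.Agent.HP.SepFlat

/-!
A map to a flat module which is injective modulo the maximal ideal forces flatness of a finite module.
-/

set_option autoImplicit false

universe u

open MvPolynomial TensorProduct

attribute [local instance] Algebra.TensorProduct.rightAlgebra

namespace Groth.Agent.HP.Sep

/-- Injectivity modulo the maximal ideal after a local base change. -/
theorem baseChange_mem {A A' : Type u} [CommRing A] [IsLocalRing A] [CommRing A'] [IsLocalRing A'] [Algebra A A']
    [IsLocalHom (algebraMap A A')] {N M : Type u} [AddCommGroup N] [Module A N] [AddCommGroup M] [Module A M]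
    (u : N →ₗ[A] M) (h : Function.Injective (LinearMap.lTensor (IsLocalRing.ResidueField A) u)) (x : A' ⊗[A] N)
    (hx : u.baseChange A' x ∈ IsLocalRing.maximalIdeal A' • (⊤ : Submodule A' (A' ⊗[A] M))) :
    x ∈ IsLocalRing.maximalIdeal A' • (⊤ : Submodule A' (A' ⊗[A] N)) := by
  let k := IsLocalRing.ResidueField A
  let k' := IsLocalRing.ResidueField A'
  let π : A' →ₗ[A] k' := (IsScalarTower.toAlgHom A A' k').toLinearMap
  have hinj : Function.Injective (u.lTensor k') := by
    have h' : Function.Injective ((u.baseChange k).lTensor k') :=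
      Module.Flat.lTensor_preserves_injective_linearMap (u.baseChange k) h
    let eN := AlgebraTensorModule.cancelBaseChange A k k k' N
    let eM := AlgebraTensorModule.cancelBaseChange A k k k' M
    have hcomm : ∀ y, eM ((u.baseChange k).lTensor k' y) = u.lTensor k' (eN y) := fun y => by
      induction y with
      | zero => simp
      | tmul a b =>
        induction b with
        | zero => simp
        | tmul c n => simp [eN, eM]
        | add c d hc hd => simp only [TensorProduct.tmul_add, map_add, hc, hd]
      | add c d hc hd => simp only [map_add, hc, hd]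
    intro y y' hy
    refine eN.symm.injective (h' (eM.injective ?_))
    rw [hcomm, hcomm, eN.apply_symm_apply, eN.apply_symm_apply, hy]
  have hcomm : ∀ y, π.rTensor M (u.baseChange A' y) = u.lTensor k' (π.rTensor N y) := fun y => by
    induction y with
    | zero => simp
    | tmul a n => simp
    | add c d hc hd => simp only [map_add, hc, hd]
  have h0 : π.rTensor M (u.baseChange A' x) = 0 := by
    refine Submodule.smul_induction_on hx (fun a ha y hy => ?_) fun y z hy hz => by rw [map_add, hy, hz, add_zero]
    clear hy
    induction y with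
    | zero => simp
    | tmul b m =>
      rw [TensorProduct.smul_tmul', LinearMap.rTensor_tmul, show π (a • b) = 0 from (IsLocalRing.residue_eq_zero_iff _).mpr
        (Ideal.mul_mem_right _ _ ha), TensorProduct.zero_tmul]
    | add c d hc hd => rw [smul_add, map_add, hc, hd, add_zero]
  have hx0 : π.rTensor N x = 0 := hinj ((hcomm x).symm.trans (h0.trans (map_zero _).symm))
  let m' : Submodule A A' := (IsLocalRing.maximalIdeal A').restrictScalars A
  have hex : Function.Exact m'.subtype π := fun a => ⟨fun ha => ⟨⟨a, (IsLocalRing.residue_eq_zero_iff a).mp ha⟩, rfl⟩,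
    fun ⟨⟨b, hb⟩, hba⟩ => hba ▸ (IsLocalRing.residue_eq_zero_iff b).mpr hb⟩
  obtain ⟨w, rfl⟩ := (rTensor_exact N hex IsLocalRing.residue_surjective x).mp hx0
  clear hx h0 hx0
  induction w with
  | zero => simp
  | tmul a n =>
    obtain ⟨a, ha⟩ := a
    rw [LinearMap.rTensor_tmul, Submodule.subtype_apply, show a ⊗ₜ[A] n = a • ((1 : A') ⊗ₜ[A] n) by
      rw [TensorProduct.smul_tmul', smul_eq_mul, mul_one]]
    exact Submodule.smul_mem_smul ha trivial
  | add c d hc hd => rw [map_add]; exact add_mem hc hd

/-- The statement with a finite type model. -/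
theorem flat_of_map_model {A S B : Type u} [CommRing A] [IsLocalRing A] [CommRing S] [CommRing B] [Algebra A S]
    [Algebra S B] [Algebra A B] [IsScalarTower A S B] [Algebra.FiniteType A S] (q : Ideal S) [q.IsPrime]
    [q.LiesOver (IsLocalRing.maximalIdeal A)] [IsLocalization.AtPrime B q] [IsLocalRing B]
    {M : Type u} [AddCommGroup M] [Module A M] [Module.Flat A M]
    {N : Type u} [AddCommGroup N] [Module A N] [Module B N] [IsScalarTower A B N] [Module S N] [IsScalarTower S B N]
    [IsScalarTower A S N] [Module.Finite B N]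
    (u : N →ₗ[A] M) (h : Function.Injective (LinearMap.lTensor (IsLocalRing.ResidueField A) u)) :
    Module.Flat A N := by
  obtain ⟨n, p, hp⟩ := Algebra.FiniteType.iff_quotient_mvPolynomial''.mp (inferInstance : Algebra.FiniteType A S)
  let P := MvPolynomial (Fin n) A
  let Q : Ideal P := q.comap p
  haveI : Q.IsPrime := Ideal.comap_isPrime _ _
  let A' := Hp Q
  letI : Algebra A A' := ((algebraMap P A').comp (algebraMap A P)).toAlgebra
  haveI : IsScalarTower A P A' := IsScalarTower.of_algebraMap_eq' rfl
  haveI : Module.Flat P A' := Hens.flat_etLoc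
  haveI : Module.Flat A A' := Module.Flat.trans A P A'
  let j := Ideal.ResidueField.mapₐ Q q p rfl
  let f : A' →ₐ[A] q.ResidueField := j.comp ((Hens.point P Q.ResidueField).restrictScalars A)
  have hj : Function.Surjective j := fun x => by
    obtain ⟨a, b, hb, rfl⟩ := IsFractionRing.div_surjective (S ⧸ q) x
    obtain ⟨a, rfl⟩ := Ideal.Quotient.mk_surjective a
    obtain ⟨b, rfl⟩ := Ideal.Quotient.mk_surjective b
    obtain ⟨a, rfl⟩ := hp a
    obtain ⟨b, rfl⟩ := hp b
    refine ⟨algebraMap P _ a / algebraMap P _ b, ?_⟩
    rw [map_div₀]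
    simp [j, ← IsScalarTower.algebraMap_apply, ← Ideal.Quotient.algebraMap_eq]
  have hf : Function.Surjective f := hj.comp (point_surjective Q)
  have hfm : ∀ a, f a = 0 ↔ a ∈ IsLocalRing.maximalIdeal A' := fun a =>
    (map_eq_zero_iff (j : Q.ResidueField →+* q.ResidueField) (RingHom.injective _)).trans (mem_max_iff Q a).symm
  haveI : IsLocalHom (algebraMap A A') := ⟨fun a ha => by
    by_contra hc
    have h1 : f (algebraMap A A' a) = 0 := by
      rw [f.commutes, IsScalarTower.algebraMap_apply A S q.ResidueField, Ideal.algebraMap_residueField_eq_zero]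
      exact (q.over_def (IsLocalRing.maximalIdeal A)).le hc
    exact (hfm _).mp h1 ha⟩
  let C := A' ⊗[A] S
  let l : C →ₐ[A] q.ResidueField :=
    Algebra.TensorProduct.lift f (IsScalarTower.toAlgHom A S q.ResidueField) fun _ _ => Commute.all _ _
  have hl : ∀ (a : A') (s : S), l (a ⊗ₜ s) = f a * algebraMap S q.ResidueField s := fun a s =>
    Algebra.TensorProduct.lift_tmul _ _ _ a s
  let z : Ideal C := RingHom.ker l
  haveI : z.IsPrime := RingHom.ker_isPrime _
  haveI : z.LiesOver q := ⟨by
    ext s
    show s ∈ q ↔ l ((1 : A') ⊗ₜ s) = 0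
    rw [hl, map_one, one_mul, Ideal.algebraMap_residueField_eq_zero]⟩
  haveI : IsScalarTower A S C := IsScalarTower.of_algebraMap_eq fun a => by
    show algebraMap A A' a ⊗ₜ[A] (1 : S) = (1 : A') ⊗ₜ[A] algebraMap A S a
    rw [Algebra.algebraMap_eq_smul_one, Algebra.algebraMap_eq_smul_one, TensorProduct.smul_tmul]
  haveI : Algebra.IsPushout A S A' C := Algebra.IsPushout.symm inferInstance
  haveI : Module.Flat S C :=
    Module.Flat.isBaseChange A S A' C (Algebra.IsPushout.out (R := A) (S := S) (R' := A') (S' := C))
  have hz : (IsLocalRing.maximalIdeal A').map (algebraMap A' C) ≤ z := by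
    rw [Ideal.map_le_iff_le_comap]
    intro a ha
    show l (a ⊗ₜ (1 : S)) = 0
    rw [hl, (hfm a).mpr ha, zero_mul]
  have hrat : ∀ c : C, ∃ a : A', c - algebraMap A' C a ∈ z := fun c => by
    obtain ⟨a, ha⟩ := hf (l c)
    refine ⟨a, show l (c - a ⊗ₜ (1 : S)) = 0 from ?_⟩
    rw [map_sub, hl, map_one, mul_one, ha, sub_self]
  let L := Localization.AtPrime z
  obtain ⟨g, hg, hloc⟩ := RGFlat.exists_comap_localRingHom q z (algebraMap S C) (z.over_def q).symm B L
  letI : Algebra B L := g.toAlgebra
  haveI : IsScalarTower S B L := IsScalarTower.of_algebraMap_eq' (by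
    rw [RingHom.algebraMap_toAlgebra, hg, ← IsScalarTower.algebraMap_eq])
  haveI : IsLocalHom (algebraMap B L) := hloc
  haveI : Module.Flat C L := IsLocalization.flat L z.primeCompl
  haveI : Module.Flat S L := Module.Flat.trans S C L
  haveI : Module.Flat B L := (Module.flat_iff_of_isLocalization B q.primeCompl L).mpr inferInstance
  haveI : Module.FaithfullyFlat B L := Module.FaithfullyFlat.of_flat_of_isLocalHom
  haveI : IsScalarTower A B L := IsScalarTower.of_algebraMap_eq fun a => by
    rw [IsScalarTower.algebraMap_apply A S B, ← IsScalarTower.algebraMap_apply S B L,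
      IsScalarTower.algebraMap_apply A C L, IsScalarTower.algebraMap_apply S C L, ← IsScalarTower.algebraMap_apply A S C]
  have hW : Sep A' (C ⊗[S] N) := sep_equiv (Algebra.IsPushout.cancelBaseChange A A' S C N).symm
    (sep_of_map (u.baseChange A') fun x hx => baseChange_mem u h x hx)
  let e : L ⊗[C] (C ⊗[S] N) ≃ₗ[L] L ⊗[B] N :=
    (AlgebraTensorModule.cancelBaseChange S C L L N).trans
      (haveI := IsLocalization.tensorProduct_compatibleSMul q.primeCompl B L N
       (TensorProduct.equivOfCompatibleSMul S B L L N).symm)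
  have hG : Sep A' (L ⊗[B] N) := sep_equiv (e.restrictScalars A') (sep_tensor hW)
  haveI : Module.Flat A' (L ⊗[B] N) := flat_of_sep_rational z hz hrat L (L ⊗[B] N) hG
  haveI : Module.Flat A (L ⊗[B] N) := Module.Flat.trans A A' (L ⊗[B] N)
  exact flat_of_faithfullyFlat (B := B) (L := L) N

/-- A finite module over a local ring essentially of finite type over `A` with an `A`-linear map to a flat
module which is injective modulo the maximal ideal is flat over `A`. -/
theorem flat_of_map {A B : Type u} [CommRing A] [IsLocalRing A] [CommRing B] [IsLocalRing B] [Algebra A B]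
    [IsLocalHom (algebraMap A B)] [Algebra.EssFiniteType A B]
    {M : Type u} [AddCommGroup M] [Module A M] [Module.Flat A M]
    {N : Type u} [AddCommGroup N] [Module A N] [Module B N] [IsScalarTower A B N] [Module.Finite B N]
    (u : N →ₗ[A] M) (h : Function.Injective (LinearMap.lTensor (IsLocalRing.ResidueField A) u)) :
    Module.Flat A N := by
  let S := Algebra.EssFiniteType.subalgebra A B
  let q : Ideal S := (IsLocalRing.maximalIdeal B).comap (algebraMap S B)
  haveI : q.IsPrime := Ideal.comap_isPrime _ _
  haveI : q.LiesOver (IsLocalRing.maximalIdeal A) := ⟨by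
    show IsLocalRing.maximalIdeal A = Ideal.comap (algebraMap A S) (Ideal.comap (algebraMap S B) (IsLocalRing.maximalIdeal B))
    rw [Ideal.comap_comap, ← IsScalarTower.algebraMap_eq]
    exact (IsLocalRing.maximalIdeal_comap (algebraMap A B)).symm⟩
  let M₀ := Algebra.EssFiniteType.submonoid A B
  have hM₀ : M₀ ≤ q.primeCompl := fun s hs hsq =>
    IsLocalRing.notMem_maximalIdeal.mpr (IsLocalization.map_units B (⟨s, hs⟩ : M₀)) hsq
  haveI : IsLocalization.AtPrime B q :=
    IsLocalization.isLocalization_of_is_exists_mul_mem B M₀ q.primeCompl hM₀ fun s => by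
      obtain ⟨v, hv⟩ := (IsLocalRing.notMem_maximalIdeal.mp s.2 : IsUnit (algebraMap S B s)).exists_left_inv
      obtain ⟨⟨a, t⟩, ht⟩ := IsLocalization.surj M₀ v
      refine ⟨a, ?_⟩
      have heq : algebraMap S B (a * (s : S)) = algebraMap S B t := by
        rw [map_mul, ← ht, mul_comm v, mul_assoc, hv, mul_one]
      rw [show (a * (s : S)) = t from Subtype.ext (by simpa using heq)]
      exact t.2
  exact flat_of_map_model (S := S) (B := B) q u h

end Groth.Agent.HP.Sep
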